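import Cfsg.Agent.Classification.SmallPSL
import Cfsg.Agent.Lib.LinearGroup.Card
import Cfsg.Agent.Lib.LinearGroup.Simple

set_option autoImplicit false

/-!
# Uniqueness of the simple groups of order 168, 660, 1092
-/

namespace Cfsg.Agent.Classification

open Subgroup

/-- Two groups realising the same checked tables are isomorphic. -/
theorem equiv_of_realises {n : ℕ} {T : Tables n} {G G' : Type*} [Group G] [Group G']
    {f : G →* Equiv.Perm (Fin n)} {h : G} {t : Fin n → G} (R : Realises T G f h t)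
    {f' : G' →* Equiv.Perm (Fin n)} {h' : G'} {t' : Fin n → G'} (R' : Realises T G' f' h' t')
    (ho : T.o ≠ T.inf) (hu : T.u ≠ T.inf ∧ T.u ≠ T.o) (hr : T.r ≠ T.inf ∧ T.r ≠ T.o) (hc : T.check = true)
    (he : ∀ w : G, f w T.inf = T.o → f w T.o = T.inf → w * h * w⁻¹ ≠ h ^ T.skip)
    (he' : ∀ w : G', f' w T.inf = T.o → f' w T.o = T.inf → w * h' * w⁻¹ ≠ h' ^ T.skip) :
    Nonempty (G ≃* G') :=
  ⟨(MonoidHom.ofInjective R.inj).trans ((MulEquiv.subgroupCongr
    ((R.range_eq ho hu hr hc he).trans (R'.range_eq ho hu hr hc he').symm)).trans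
      (MonoidHom.ofInjective R'.inj).symm)⟩

/-- `skip = m` excludes nothing that occurs. -/
theorem skip_ne_of_eq_m {n : ℕ} {T : Tables n} {G : Type*} [Group G]
    {f : G →* Equiv.Perm (Fin n)} {h : G} {t : Fin n → G} (R : Realises T G f h t)
    (hs : T.skip = T.m) (hmove : T.hT T.u ≠ T.u) (w : G) : w * h * w⁻¹ ≠ h ^ T.skip := by
  rw [hs, R.h_pow]
  intro he
  apply hmove
  have h1 : h = 1 := by
    have : h = w⁻¹ * (w * h * w⁻¹) * w := by group
    rw [he] at this
    simpa using this
  rw [← R.h_apply, h1, map_one, Equiv.Perm.one_apply]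

theorem cond7 : ((2 : ℕ) : ZMod 7) ^ 3 = 1 ∧ ∀ i, i < 3 → 0 < i → ((2 : ℕ) : ZMod 7) ^ i ≠ 1 := by decide
theorem cond11 : ((4 : ℕ) : ZMod 11) ^ 5 = 1 ∧ ∀ i, i < 5 → 0 < i → ((4 : ℕ) : ZMod 11) ^ i ≠ 1 := by decide
theorem cond13 : ((4 : ℕ) : ZMod 13) ^ 6 = 1 ∧ ∀ i, i < 6 → 0 < i → ((4 : ℕ) : ZMod 13) ^ i ≠ 1 := by decide
theorem move11 : tables11.hT tables11.u ≠ tables11.u := by decide
theorem move13 : tables13.hT tables13.u ≠ tables13.u := by decide

variable {G : Type*} [Group G] [Finite G] [IsSimpleGroup G]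

theorem not_comm_of_card (p m : ℕ) (hp5 : 5 ≤ p) (hm : 2 * m + 1 = p)
    (hG : Nat.card G = (p + 1) * p * m) : ¬ IsMulCommutative G :=
  SmallGroups.not_comm_of_not_prime (by
    rw [hG]
    exact Nat.not_prime_mul (by nlinarith) (by omega))

theorem card_sylow_eq_succ (p m : ℕ) [Fact p.Prime] (hp5 : 5 ≤ p) (hm : 2 * m + 1 = p)
    (hG : Nat.card G = (p + 1) * p * m)
    (hdiv : ((p + 1) * m).divisors.filter (fun d => d % p = 1) = {1, p + 1}) :
    Nat.card (Sylow p G) = p + 1 := by
  have hp : p.Prime := Fact.out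
  have hpm : ¬ p ∣ (p + 1) * m := by
    intro h
    rcases hp.dvd_mul.mp h with h' | h'
    · exact absurd (Nat.le_of_dvd one_pos ((Nat.dvd_add_right dvd_rfl).mp h')) (by omega)
    · exact absurd (Nat.le_of_dvd (by omega) h') (by omega)
  have h1 := SmallGroups.card_sylow_mem_list (G := G) (p := p) (a := 1) (m := (p + 1) * m)
    (by rw [hG]; ring) hpm
  rw [hdiv, Finset.mem_insert, Finset.mem_singleton] at h1
  exact h1.resolve_left (SmallGroups.card_sylow_ne_one (not_comm_of_card p m hp5 hm hG)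
    ⟨(p + 1) * m, by rw [hG]; ring⟩)

/-- For 168 the swapping element cannot centralise the two point stabiliser. -/
theorem skip7 (hG : Nat.card G = (7 + 1) * 7 * 3) {f : G →* Equiv.Perm (Fin (7 + 1))} {h : G}
    {t : Fin (7 + 1) → G} (R : Realises tables7 G f h t) (w : G)
    (hw1 : f w tables7.inf = tables7.o) (hw2 : f w tables7.o = tables7.inf) :
    w * h * w⁻¹ ≠ h ^ tables7.skip := by
  intro he
  have he' : w * h * w⁻¹ = h := he.trans (pow_one h)
  have hne := not_comm_of_card (G := G) 7 3 (by norm_num) (by norm_num) hG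
  have : Fact (Nat.Prime 3) := ⟨Nat.prime_three⟩
  have hfix : ∀ x, tables7.hT x = x → x = tables7.inf ∨ x = tables7.o := by decide
  have hho : orderOf h = 3 := by
    refine orderOf_eq_prime R.h_pow fun h1 => ?_
    have h2 : tables7.hT tables7.u = tables7.u := by
      rw [← R.h_apply, h1, map_one, Equiv.Perm.one_apply]
    revert h2
    decide
  have hG3 : Nat.card G = 3 ^ 1 * 56 := hG.trans (by norm_num)
  obtain ⟨S, hS⟩ := (IsPGroup.of_card (p := 3) (n := 1)
    (show Nat.card (zpowers h) = 3 ^ 1 by rw [Nat.card_zpowers, hho, pow_one])).exists_le_sylow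
  have hSeq : zpowers h = (S : Subgroup G) := Subgroup.eq_of_le_of_card_ge hS
    (by rw [SmallGroups.card_sylow_eq hG3 (by norm_num) S, Nat.card_zpowers, hho]; norm_num)
  refine SmallGroups.not_normalizer_le_centralizer hne (p := 3) ⟨56, by rw [hG3]; norm_num⟩ S ?_
  rw [← hSeq]
  intro g hg
  have hgc : g * h = h * g := by
    have hfixed : ∀ x, tables7.hT x = x → tables7.hT (f g x) = f g x := by
      intro x hx
      obtain ⟨i, hi⟩ := (mem_normalizer_iff''.mp hg h).mp (mem_zpowers h)
      have hi' : h ^ i = g⁻¹ * h * g := hi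
      have hxfix : f (h ^ i) x = x := by
        rw [map_zpow]
        exact Equiv.Perm.zpow_apply_eq_self_of_apply_eq_self (by rw [R.h_apply]; exact hx) i
      rw [← R.h_apply]
      calc f h (f g x) = f (g * h ^ i) x := by
            rw [hi', show g * (g⁻¹ * h * g) = h * g by group, map_mul, Equiv.Perm.mul_apply]
        _ = f g x := by rw [map_mul, Equiv.Perm.mul_apply, hxfix]
    have hj : ∀ k : G, f k tables7.inf = tables7.inf → f k tables7.o = tables7.o → k * h = h * k := by
      intro k h1 h2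
      obtain ⟨j, -, rfl⟩ := R.fix_two k h1 h2
      exact ((Commute.refl h).pow_left j).eq
    have hne' : tables7.inf ≠ tables7.o := by decide
    rcases hfix _ (hfixed _ R.h_fix.1) with h1 | h1
    · rcases hfix _ (hfixed _ R.h_fix.2) with h2 | h2
      · exact absurd ((f g).injective (h1.trans h2.symm)) hne'
      · exact hj g h1 h2
    · rcases hfix _ (hfixed _ R.h_fix.2) with h2 | h2
      · have h3 : (w⁻¹ * g) * h = h * (w⁻¹ * g) := hj (w⁻¹ * g)
          (by rw [map_mul, Equiv.Perm.mul_apply, h1, map_inv, Equiv.Perm.inv_eq_iff_eq, hw1])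
          (by rw [map_mul, Equiv.Perm.mul_apply, h2, map_inv, Equiv.Perm.inv_eq_iff_eq, hw2])
        have h4 : Commute w h := mul_inv_eq_iff_eq_mul.mp he'
        have := (h4.mul_left (h3 : Commute (w⁻¹ * g) h))
        rw [mul_inv_cancel_left] at this
        exact this.eq
      · exact absurd ((f g).injective (h1.trans h2.symm)) hne'
  rw [mem_centralizer_iff]
  rintro _ ⟨i, rfl⟩
  exact ((show Commute g h from hgc).zpow_right i).eq.symm

/-- Simple groups of order 168 are isomorphic. -/
theorem equiv_168 {G' : Type*} [Group G'] [Finite G'] [IsSimpleGroup G']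
    (h : Nat.card G = 168) (h' : Nat.card G' = 168) : Nonempty (G ≃* G') := by
  have : Fact (Nat.Prime 7) := ⟨by norm_num⟩
  have hG : Nat.card G = (7 + 1) * 7 * 3 := h
  have hG' : Nat.card G' = (7 + 1) * 7 * 3 := h'
  obtain ⟨f, x, t, R⟩ := exists_realises_prime
    (not_comm_of_card 7 3 (by norm_num) (by norm_num) hG) 7 2 3 3 1 (by norm_num) (by norm_num)
    ![7, 3, 5, 1, 6, 2, 4, 0] hG (card_sylow_eq_succ 7 3 (by norm_num) (by norm_num) hG (by decide)) cond7
  obtain ⟨f', x', t', R'⟩ := exists_realises_prime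
    (not_comm_of_card 7 3 (by norm_num) (by norm_num) hG') 7 2 3 3 1 (by norm_num) (by norm_num)
    ![7, 3, 5, 1, 6, 2, 4, 0] hG' (card_sylow_eq_succ 7 3 (by norm_num) (by norm_num) hG' (by decide)) cond7
  exact equiv_of_realises (T := tables7) R R' (by decide) (by decide) (by decide) check7
    (skip7 hG R) (skip7 hG' R')

/-- Simple groups of order 660 are isomorphic. -/
theorem equiv_660 {G' : Type*} [Group G'] [Finite G'] [IsSimpleGroup G']
    (h : Nat.card G = 660) (h' : Nat.card G' = 660) : Nonempty (G ≃* G') := by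
  have : Fact (Nat.Prime 11) := ⟨by norm_num⟩
  have hG : Nat.card G = (11 + 1) * 11 * 5 := h
  have hG' : Nat.card G' = (11 + 1) * 11 * 5 := h'
  obtain ⟨f, x, t, R⟩ := exists_realises_prime
    (not_comm_of_card 11 5 (by norm_num) (by norm_num) hG) 11 4 2 5 5 (by norm_num) (by norm_num)
    ![11, 2, 1, 8, 6, 7, 4, 5, 3, 10, 9, 0] hG
    (card_sylow_eq_succ 11 5 (by norm_num) (by norm_num) hG (by decide)) cond11
  obtain ⟨f', x', t', R'⟩ := exists_realises_prime
    (not_comm_of_card 11 5 (by norm_num) (by norm_num) hG') 11 4 2 5 5 (by norm_num) (by norm_num)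
    ![11, 2, 1, 8, 6, 7, 4, 5, 3, 10, 9, 0] hG'
    (card_sylow_eq_succ 11 5 (by norm_num) (by norm_num) hG' (by decide)) cond11
  exact equiv_of_realises (T := tables11) R R' (by decide) (by decide) (by decide) check11
    (fun w _ _ => skip_ne_of_eq_m R rfl move11 w) (fun w _ _ => skip_ne_of_eq_m R' rfl move11 w)

/-- Simple groups of order 1092 are isomorphic. -/
theorem equiv_1092 {G' : Type*} [Group G'] [Finite G'] [IsSimpleGroup G']
    (h : Nat.card G = 1092) (h' : Nat.card G' = 1092) : Nonempty (G ≃* G') := by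
  have : Fact (Nat.Prime 13) := ⟨by norm_num⟩
  have hG : Nat.card G = (13 + 1) * 13 * 6 := h
  have hG' : Nat.card G' = (13 + 1) * 13 * 6 := h'
  obtain ⟨f, x, t, R⟩ := exists_realises_prime
    (not_comm_of_card 13 6 (by norm_num) (by norm_num) hG) 13 4 2 6 6 (by norm_num) (by norm_num)
    ![13, 1, 7, 9, 10, 8, 11, 2, 5, 3, 4, 6, 12, 0] hG
    (card_sylow_eq_succ 13 6 (by norm_num) (by norm_num) hG (by decide)) cond13
  obtain ⟨f', x', t', R'⟩ := exists_realises_prime
    (not_comm_of_card 13 6 (by norm_num) (by norm_num) hG') 13 4 2 6 6 (by norm_num) (by norm_num)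
    ![13, 1, 7, 9, 10, 8, 11, 2, 5, 3, 4, 6, 12, 0] hG'
    (card_sylow_eq_succ 13 6 (by norm_num) (by norm_num) hG' (by decide)) cond13
  exact equiv_of_realises (T := tables13) R R' (by decide) (by decide) (by decide) check13
    (fun w _ _ => skip_ne_of_eq_m R rfl move13 w) (fun w _ _ => skip_ne_of_eq_m R' rfl move13 w)

omit [Finite G] [IsSimpleGroup G] in
/-- `PSL(2, q)` for `q ≥ 4` is simple. -/
theorem isSimpleGroup_psl_two (F : Type*) [Field F] [Fintype F] (hF : 4 ≤ Fintype.card F) :
    IsSimpleGroup (Matrix.ProjectiveSpecialLinearGroup (Fin 2) F) := by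
  refine LinearGroup.isSimpleGroup_PSL' (fun _ => ?_)
  classical
  by_contra hc
  push Not at hc
  have h1 : (Finset.univ : Finset F) ⊆ {0, 1, -1} := by
    intro a _
    by_cases ha : a = 0
    · simp [ha]
    · rcases mul_self_eq_one_iff.mp (by simpa [pow_two] using hc a ha) with h | h <;> simp [h]
  have h2 := Finset.card_le_card h1
  rw [Finset.card_univ] at h2
  have h3 : ({0, 1, -1} : Finset F).card ≤ 3 := Finset.card_le_three
  omega

end Cfsg.Agent.Classification
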