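import Cfsg.Agent.Classification.TwoTransSearch
import Cfsg.Agent.Lib.SmallGroups.Basic
import Cfsg.Agent.Lib.SmallGroups.Action

set_option autoImplicit false

/-!
# Simple groups of order 360 are isomorphic

The action on the ten Sylow 3-subgroups realises one fixed table.
-/

namespace Cfsg.Agent.Classification

open Subgroup

/-- The projective line over the field of nine elements; `a + 3 b` stands for `a + b i`. -/
def tables9 : Tables 10 where
  hT x := if (x : ℕ) < 9 then Fin.ofNat 10 (2 * ((x : ℕ) / 3) % 3 + 3 * ((x : ℕ) % 3)) else x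
  trT s x := if (x : ℕ) < 9 ∧ (s : ℕ) < 9 then
    Fin.ofNat 10 (((x : ℕ) % 3 + (s : ℕ) % 3) % 3 + 3 * (((x : ℕ) / 3 + (s : ℕ) / 3) % 3)) else x
  inf := 9
  o := 0
  u := 1
  r := 4
  m := 4
  skip := 4
  w0 := ![9, 1, 2, 6, 5, 4, 3, 8, 7, 0]

theorem check9 : tables9.check = true := by decide +kernel

theorem move9 : tables9.hT tables9.u ≠ tables9.u := by decide

theorem sq_add_sq_zmod_three : ∀ a b : ZMod 3, a * a + b * b = 0 → a = 0 := by decide

variable {G : Type*} [Group G] [Finite G] [IsSimpleGroup G]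

/-- In a simple group of order 360 two Sylow 3-subgroups meet trivially. -/
theorem sylow_three_ti (hG : Nat.card G = 360) {P R : Sylow 3 G} [Fact (Nat.Prime 3)] (hne' : P ≠ R)
    {x : G} (hxP : x ∈ (P : Subgroup G)) (hxR : x ∈ (R : Subgroup G)) : x = 1 := by
  by_contra hx1
  have hne : ¬ IsMulCommutative G := SmallGroups.not_comm_of_not_prime (by rw [hG]; norm_num)
  have hG' : Nat.card G = 3 ^ 2 * 40 := hG
  have hP := SmallGroups.card_sylow_eq hG' (by norm_num) P
  have hR := SmallGroups.card_sylow_eq hG' (by norm_num) R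
  have hPc := IsPGroup.isMulCommutative_of_card_eq_prime_sq hP
  have hRc := IsPGroup.isMulCommutative_of_card_eq_prime_sq hR
  let C : Subgroup G := centralizer ({x} : Set G)
  have hPC : (P : Subgroup G) ≤ C := fun y hy => mem_centralizer_singleton_iff.mpr
    (congrArg Subtype.val (hPc.is_comm.comm (⟨y, hy⟩ : (P : Subgroup G)) ⟨x, hxP⟩))
  have hRC : (R : Subgroup G) ≤ C := fun y hy => mem_centralizer_singleton_iff.mpr
    (congrArg Subtype.val (hRc.is_comm.comm (⟨y, hy⟩ : (R : Subgroup G)) ⟨x, hxR⟩))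
  have hCtop : C ≠ ⊤ := by
    intro h
    apply hx1
    have : x ∈ center G := mem_center_iff.mpr fun g =>
      mem_centralizer_singleton_iff.mp (h ▸ mem_top g : g ∈ C)
    rwa [SmallGroups.center_eq_bot_of_not_comm hne] at this
  have hidx : 5 < C.index :=
    SmallGroups.lt_index_of_not_dvd hne (by rw [hG]; decide) hCtop
  obtain ⟨k, hk⟩ : 3 ^ 2 ∣ Nat.card C := hP ▸ card_dvd_of_le hPC
  have hmul := C.card_mul_index
  rw [hk, hG', mul_assoc] at hmul
  have hk40 : k * C.index = 40 := Nat.eq_of_mul_eq_mul_left (by norm_num) hmul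
  have hk3 : ¬ 3 ∣ k := fun h => by
    have : 3 ∣ 40 := h.trans ⟨_, hk40.symm⟩
    norm_num at this
  -- `C` has at least two Sylow 3-subgroups
  let PC : Sylow 3 C := P.subtype hPC
  let RC : Sylow 3 C := R.subtype hRC
  have hPR : PC ≠ RC := fun h => hne' (Sylow.subtype_injective h)
  have hn2 : Nat.card (Sylow 3 C) ≠ 1 := fun h => hPR ((Nat.card_eq_one_iff_unique.mp h).1.elim _ _)
  obtain ⟨hd, hmod⟩ := SmallGroups.card_sylow_mem (G := C) hk hk3
  have hk7 : k ≤ 7 := by nlinarith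
  have hk4 : k = 4 ∧ Nat.card (Sylow 3 C) = 4 := by
    have := Nat.le_of_dvd (by rcases k with _ | k <;> omega) hd
    have hkd : k ∣ 40 := ⟨_, hk40.symm⟩
    interval_cases k <;> first | (norm_num at hkd; done) | (interval_cases h : Nat.card (Sylow 3 C) <;> omega)
  obtain ⟨rfl, hn4⟩ := hk4
  have hN : normalizer ((PC : Subgroup C) : Set C) = (PC : Subgroup C) := by
    refine (Subgroup.eq_of_le_of_card_ge le_normalizer ?_).symm
    rw [SmallGroups.normalizer_conj_eq_card PC hn4 (k := 9) (by omega),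
      SmallGroups.card_sylow_eq hk hk3 PC]
    norm_num
  have hPCc : IsMulCommutative (PC : Subgroup C) :=
    IsPGroup.isMulCommutative_of_card_eq_prime_sq (SmallGroups.card_sylow_eq hk hk3 PC)
  have hcompl := MonoidHom.ker_transferSylow_isComplement' PC
    (hN.le.trans (le_centralizer_iff_isMulCommutative.mpr hPCc))
  set K := (MonoidHom.transferSylow PC (hN.le.trans (le_centralizer_iff_isMulCommutative.mpr hPCc))).ker
  have hK : Nat.card K = 4 := by
    have := hcompl.card_mul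
    rw [SmallGroups.card_sylow_eq hk hk3 PC, hk] at this
    omega
  let V : Subgroup G := K.map C.subtype
  have hV : Nat.card V = 4 := by rw [← hK]; exact card_map_of_injective (subtype_injective C)
  have hCN : C ≤ normalizer (V : Set G) := by
    have h := le_normalizer_map (H := K) C.subtype
    rwa [normalizer_eq_top, ← MonoidHom.range_eq_map, range_subtype] at h
  have : Fact (Nat.Prime 2) := ⟨Nat.prime_two⟩
  obtain ⟨T, hT⟩ := (IsPGroup.of_card (p := 2) (n := 2) (hV.trans (by norm_num))).exists_le_sylow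
  have hT8 : Nat.card (T : Subgroup G) = 2 ^ 3 :=
    SmallGroups.card_sylow_eq (m := 45) (a := 3) (by rw [hG]; norm_num) (by norm_num) T
  have hidx2 : (V.subgroupOf (T : Subgroup G)).index = 2 := by
    have := (V.subgroupOf (T : Subgroup G)).card_mul_index
    rw [Nat.card_congr (subgroupOfEquivOfLe hT).toEquiv, hV, hT8] at this
    omega
  have hTN : (T : Subgroup G) ≤ normalizer (V : Set G) := by
    have hn : (V.subgroupOf (T : Subgroup G)).Normal := normal_of_index_eq_two hidx2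
    exact (normal_subgroupOf_iff_le_normalizer hT).mp hn
  have h1 : Nat.card C ∣ Nat.card (normalizer (V : Set G)) := card_dvd_of_le hCN
  have h2 : Nat.card (T : Subgroup G) ∣ Nat.card (normalizer (V : Set G)) := card_dvd_of_le hTN
  rw [hk] at h1
  rw [hT8] at h2
  have h72 : 72 ∣ Nat.card (normalizer (V : Set G)) := by
    have := Nat.lcm_dvd h1 h2
    norm_num at this
    exact this
  have hmulN := (normalizer (V : Set G)).card_mul_index
  obtain ⟨j, hj⟩ := h72
  rw [hj, hG] at hmulN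
  have hNtop : normalizer (V : Set G) ≠ ⊤ := by
    intro h
    have hn : V.Normal := normalizer_eq_top_iff.mp h
    rcases hn.eq_bot_or_eq_top with h' | h'
    · rw [h', card_bot] at hV; norm_num at hV
    · rw [h', card_top, hG] at hV; norm_num at hV
  have h5 : 5 < (normalizer (V : Set G)).index :=
    SmallGroups.lt_index_of_not_dvd hne (by rw [hG]; decide) hNtop
  rcases j with _ | j
  · simp at hmulN
  · nlinarith

/-- A simple group of order 360 realises the table. -/
theorem exists_realises_360 (hG : Nat.card G = 360) :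
    ∃ (f : G →* Equiv.Perm (Fin 10)) (h : G) (t : Fin 10 → G), Realises tables9 G f h t := by
  classical
  have : Fact (Nat.Prime 3) := ⟨Nat.prime_three⟩
  have hne : ¬ IsMulCommutative G := SmallGroups.not_comm_of_not_prime (by rw [hG]; norm_num)
  have hG' : Nat.card G = 3 ^ 2 * 40 := hG
  have hdvd : 3 ∣ Nat.card G := ⟨120, hG⟩
  obtain ⟨P⟩ : Nonempty (Sylow 3 G) := inferInstance
  have hP : Nat.card (P : Subgroup G) = 3 ^ 2 := SmallGroups.card_sylow_eq hG' (by norm_num) P
  have hPc := IsPGroup.isMulCommutative_of_card_eq_prime_sq hP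
  have hPcomm : ∀ a ∈ (P : Subgroup G), ∀ b ∈ (P : Subgroup G), a * b = b * a := fun a ha b hb =>
    congrArg Subtype.val (hPc.is_comm.comm (⟨a, ha⟩ : (P : Subgroup G)) ⟨b, hb⟩)
  have hn : Nat.card (Sylow 3 G) = 10 := by
    have h1 := SmallGroups.card_sylow_mem_list hG' (by norm_num : ¬ 3 ∣ 40)
    rw [show (40 : ℕ).divisors.filter (fun d => d % 3 = 1) = {1, 4, 10, 40} by decide] at h1
    simp only [Finset.mem_insert, Finset.mem_singleton] at h1
    have h2 := SmallGroups.two_mul_card_dvd_sylow hne hdvd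
    rcases h1 with h1 | h1 | h1 | h1
    · exact absurd h1 (SmallGroups.card_sylow_ne_one hne hdvd)
    · rw [h1, hG] at h2; exact absurd h2 (by decide)
    · exact h1
    · exfalso
      refine SmallGroups.not_normalizer_le_centralizer hne hdvd P ?_
      have hN := SmallGroups.normalizer_conj_eq_card P h1 (k := 9) (by rw [hG])
      rw [← eq_of_le_of_card_ge (le_normalizer : (P : Subgroup G) ≤ _) (by rw [hN, hP]; norm_num)]
      exact le_centralizer_iff_isMulCommutative.mpr hPc
  have hpfix : ∀ g ∈ (P : Subgroup G), g • P = P := fun g hg =>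
    Sylow.smul_eq_iff_mem_normalizer.mpr (le_normalizer hg)
  have hfix : ∀ (R : Sylow 3 G) (g : G), g ∈ (P : Subgroup G) → g ≠ 1 → g • R = R → R = P := by
    intro R g hg hg1 hgR
    by_contra hR
    have h2 : g ∈ (P : Subgroup G) ⊓ normalizer ((R : Subgroup G) : Set G) :=
      ⟨hg, Sylow.smul_eq_iff_mem_normalizer.mp hgR⟩
    have h3 : (P : Subgroup G) ⊓ normalizer ((R : Subgroup G) : Set G) = (P : Subgroup G) ⊓ (R : Subgroup G) :=
      P.2.inf_normalizer_sylow R
    rw [h3] at h2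
    exact hg1 (sylow_three_ti hG (Ne.symm hR) h2.1 h2.2)
  obtain ⟨R₀, hR₀⟩ : ∃ R : Sylow 3 G, R ≠ P := by
    by_contra hc'
    push Not at hc'
    have : Subsingleton (Sylow 3 G) := ⟨fun a b => (hc' a).trans (hc' b).symm⟩
    rw [Nat.card_of_subsingleton P] at hn
    omega
  have hne_P : ∀ g ∈ (P : Subgroup G), g • R₀ ≠ P := fun g hg h => hR₀ (smul_left_cancel g (h.trans (hpfix g hg).symm))
  have hregs : ∀ a ∈ (P : Subgroup G), ∀ b ∈ (P : Subgroup G), a • R₀ = b • R₀ → a = b := by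
    intro a ha b hb h
    by_contra hab
    refine hR₀ (hfix R₀ (b⁻¹ * a) ((P : Subgroup G).mul_mem ((P : Subgroup G).inv_mem hb) ha) ?_ ?_)
    · intro h'; exact hab (inv_mul_eq_one.mp h').symm
    · rw [mul_smul, h, inv_smul_smul]
  have hrest : ∀ R : Sylow 3 G, R ≠ P → ∃ g ∈ (P : Subgroup G), g • R₀ = R := by
    intro R hR
    let φ : ↥(P : Subgroup G) → {R : Sylow 3 G // R ≠ P} := fun g => ⟨(g : G) • R₀, hne_P _ g.2⟩
    have hbij : Function.Bijective φ := by
      refine (Nat.bijective_iff_injective_and_card φ).mpr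
        ⟨fun a b h => Subtype.ext (hregs _ a.2 _ b.2 (congrArg Subtype.val h)), ?_⟩
      rw [hP]
      have h1 := Set.ncard_add_ncard_compl ({P} : Set (Sylow 3 G))
      rw [Set.ncard_singleton, hn] at h1
      rw [show Nat.card {R : Sylow 3 G // R ≠ P} = ({P} : Set (Sylow 3 G))ᶜ.ncard from rfl]
      omega
    obtain ⟨g, hg⟩ := hbij.2 ⟨R, hR⟩
    exact ⟨g, g.2, congrArg Subtype.val hg⟩
  have hker : ∀ g : G, (∀ R : Sylow 3 G, g • R = R) → g = 1 := by
    intro g hg
    have hmem : g ∈ (MulAction.toPermHom G (Sylow 3 G)).ker := Equiv.ext hg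
    rcases (MulAction.toPermHom G (Sylow 3 G)).normal_ker.eq_bot_or_eq_top with h' | h'
    · rw [h'] at hmem; exact hmem
    · exfalso
      obtain ⟨g', hg'⟩ := MulAction.exists_smul_eq G P R₀
      have : g' ∈ (MulAction.toPermHom G (Sylow 3 G)).ker := h' ▸ mem_top g'
      exact hR₀ (hg'.symm.trans (Equiv.ext_iff.mp this P))
  let N : Subgroup G := normalizer ((P : Subgroup G) : Set G)
  have hNcard : Nat.card N = 36 := SmallGroups.normalizer_conj_eq_card P hn (by rw [hG])
  let H : Subgroup G := N ⊓ MulAction.stabilizer G R₀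
  have hHcard : Nat.card H = 4 := by
    have horb : MulAction.orbit N R₀ = {R | R ≠ P} := by
      ext R
      constructor
      · rintro ⟨⟨g, hg⟩, rfl⟩ h1
        exact hR₀ (smul_left_cancel g ((show g • R₀ = P from h1).trans (Sylow.smul_eq_iff_mem_normalizer.mpr hg).symm))
      · intro hR
        obtain ⟨g, hg, hgR⟩ := hrest R hR
        exact ⟨⟨g, le_normalizer hg⟩, hgR⟩
    have h1 := Subgroup.card_mul_index (MulAction.stabilizer N R₀)
    rw [MulAction.index_stabilizer, horb] at h1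
    have h2 := Set.ncard_add_ncard_compl ({P} : Set (Sylow 3 G))
    rw [Set.ncard_singleton, hn, show ({P} : Set (Sylow 3 G))ᶜ = {R | R ≠ P} by ext; simp] at h2
    rw [show Set.ncard {R : Sylow 3 G | R ≠ P} = 9 by omega, hNcard] at h1
    have h4 : Nat.card (MulAction.stabilizer N R₀) = 4 := by omega
    rw [← h4]
    exact Nat.card_congr
      { toFun := fun g => ⟨⟨g.1, g.2.1⟩, g.2.2⟩
        invFun := fun g => ⟨g.1.1, g.1.2, g.2⟩
        left_inv := fun g => rfl
        right_inv := fun g => rfl }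
  have hHsmul : ∀ z ∈ H, ∀ g : G, z • (g • R₀) = (z * g * z⁻¹) • R₀ := by
    intro z hz g
    conv_rhs => rw [← MulAction.mem_stabilizer_iff.mp hz.2]
    rw [← mul_smul, ← mul_smul, inv_mul_cancel_right]
  have hHnorm : ∀ z ∈ H, ∀ g ∈ (P : Subgroup G), z * g * z⁻¹ ∈ (P : Subgroup G) :=
    fun z hz g hg => (mem_normalizer_iff.mp hz.1 g).mp hg
  -- involutions of `H` invert `P`
  have hinv : ∀ z ∈ H, z * z = 1 → z ≠ 1 → ∀ g ∈ (P : Subgroup G), z * g * z⁻¹ = g⁻¹ := by
    intro z hz hz2 hz1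
    let CP : Subgroup G := (P : Subgroup G) ⊓ centralizer ({z} : Set G)
    have hmemCP : ∀ g, g ∈ CP ↔ g ∈ (P : Subgroup G) ∧ z * g * z⁻¹ = g := by
      intro g
      show g ∈ (P : Subgroup G) ∧ g ∈ centralizer ({z} : Set G) ↔ _
      rw [mem_centralizer_singleton_iff, mul_inv_eq_iff_eq_mul]
      exact and_congr_right fun _ => eq_comm
    have hcount : Nat.card (MulAction.fixedBy (Sylow 3 G) z) = Nat.card CP + 1 := by
      have hfx : MulAction.fixedBy (Sylow 3 G) z = insert P ((fun g : G => g • R₀) '' (CP : Set G)) := by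
        ext R
        rw [MulAction.mem_fixedBy, Set.mem_insert_iff, Set.mem_image]
        constructor
        · intro hR
          by_cases hRP : R = P
          · exact Or.inl hRP
          · obtain ⟨g, hg, rfl⟩ := hrest R hRP
            rw [hHsmul z hz] at hR
            exact Or.inr ⟨g, (hmemCP g).mpr ⟨hg, hregs _ (hHnorm z hz g hg) _ hg hR⟩, rfl⟩
        · rintro (rfl | ⟨g, hg, rfl⟩)
          · exact Sylow.smul_eq_iff_mem_normalizer.mpr hz.1
          · rw [hHsmul z hz, ((hmemCP g).mp hg).2]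
      rw [Nat.card_coe_set_eq, hfx, Set.ncard_insert_of_notMem, Set.InjOn.ncard_image,
        ← Nat.card_coe_set_eq]
      · rfl
      · exact fun a ha b hb h => hregs a ((hmemCP a).mp ha).1 b ((hmemCP b).mp hb).1 h
      · rintro ⟨g, hg, hgP⟩
        exact hne_P g ((hmemCP g).mp hg).1 hgP
    have h4 := SmallGroups.four_dvd_moved (α := Sylow 3 G) hne (t := z) (by rw [pow_two, hz2])
    rw [hn, hcount] at h4
    have hdv : Nat.card CP ∣ 3 ^ 2 := hP ▸ card_dvd_of_le inf_le_left
    have h9 : Nat.card CP ≠ 9 := by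
      intro h
      apply hz1
      refine hker z fun R => ?_
      by_cases hRP : R = P
      · subst hRP; exact Sylow.smul_eq_iff_mem_normalizer.mpr hz.1
      · obtain ⟨g, hg, rfl⟩ := hrest R hRP
        have hCP : CP = (P : Subgroup G) := eq_of_le_of_card_ge inf_le_left (by rw [h, hP]; norm_num)
        rw [hHsmul z hz, ((hmemCP g).mp (hCP.symm ▸ hg)).2]
    have h1 : Nat.card CP = 1 := by
      have hle := Nat.le_of_dvd (by norm_num) hdv
      interval_cases h : Nat.card CP <;> omega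
    intro g hg
    have hgz := hHnorm z hz g hg
    have hmem : g * (z * g * z⁻¹) ∈ CP := by
      refine (hmemCP _).mpr ⟨(P : Subgroup G).mul_mem hg hgz, ?_⟩
      rw [hPcomm g hg _ hgz]
      have hzi : z⁻¹ = z := inv_eq_of_mul_eq_one_right hz2
      calc z * ((z * g * z⁻¹) * g) * z⁻¹ = (z * z) * g * (z⁻¹ * z⁻¹) * (z * g * z⁻¹) := by group
        _ = g * (z * g * z⁻¹) := by rw [hz2, ← mul_inv_rev, hz2, one_mul, inv_one, mul_one]
        _ = z * g * z⁻¹ * g := hPcomm g hg _ hgz
    rw [Subgroup.card_eq_one.mp h1, mem_bot] at hmem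
    exact eq_inv_of_mul_eq_one_right hmem
  have hcent : ∀ z ∈ H, (∀ g ∈ (P : Subgroup G), z * g * z⁻¹ = g) → z = 1 := by
    intro z hz hzc
    refine hker z fun R => ?_
    by_cases hRP : R = P
    · subst hRP; exact Sylow.smul_eq_iff_mem_normalizer.mpr hz.1
    · obtain ⟨g, hg, rfl⟩ := hrest R hRP
      rw [hHsmul z hz, hzc g hg]
  obtain ⟨h, hhH, hho⟩ : ∃ h ∈ H, orderOf h = 4 := by
    by_contra hc
    push Not at hc
    have hsq : ∀ z ∈ H, z * z = 1 := by
      intro z hz
      have hd : orderOf z ∣ 4 := hHcard ▸ orderOf_dvd_natCard H hz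
      have h2 : orderOf z ∣ 2 := by
        have := Nat.le_of_dvd (by norm_num) hd
        have := hc z hz
        interval_cases h : orderOf z <;> omega
      rw [← pow_two]; exact orderOf_dvd_iff_pow_eq_one.mp h2
    obtain ⟨a, ha, ha1⟩ : ∃ a ∈ H, a ≠ 1 := by
      by_contra hc'
      push Not at hc'
      have : H = ⊥ := eq_bot_iff.mpr fun x hx => mem_bot.mpr (hc' x hx)
      rw [this, card_bot] at hHcard; omega
    have hsub : H ≤ zpowers a := by
      intro b hb
      by_cases hb1 : b = 1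
      · rw [hb1]; exact one_mem _
      have hab : a * b = 1 := by
        refine hcent _ (H.mul_mem ha hb) fun g hg => ?_
        calc a * b * g * (a * b)⁻¹ = a * (b * g * b⁻¹) * a⁻¹ := by group
          _ = g := by rw [hinv b hb (hsq b hb) hb1 g hg, ← conj_inv, hinv a ha (hsq a ha) ha1 g hg, inv_inv]
      rw [eq_inv_of_mul_eq_one_right hab]
      exact inv_mem (mem_zpowers a)
    have h1 := card_le_of_le hsub
    rw [Nat.card_zpowers, hHcard] at h1
    have h2 : orderOf a ≤ 2 := Nat.le_of_dvd two_pos (orderOf_dvd_of_pow_eq_one (by rw [pow_two]; exact hsq a ha))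
    omega
  have hh4 : h ^ 4 = 1 := hho ▸ pow_orderOf_eq_one h
  have hpows : ∀ k ∈ H, ∃ j < 4, k = h ^ j := by
    intro k hk
    have htop : zpowers h = H :=
      eq_of_le_of_card_ge (zpowers_le.mpr hhH) (by rw [Nat.card_zpowers, hho, hHcard])
    obtain ⟨j, hj, hjk⟩ := Finset.mem_image.mp
      ((IsOfFinOrder.mem_zpowers_iff_mem_range_orderOf (isOfFinOrder_of_finite _)).mp (htop.symm ▸ hk : k ∈ zpowers h))
    exact ⟨j, hho ▸ Finset.mem_range.mp hj, hjk.symm⟩
  obtain ⟨⟨t1, ht1P⟩, ht1o'⟩ := exists_prime_orderOf_dvd_card' (G := (P : Subgroup G)) 3 (by rw [hP]; norm_num)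
  have ht1o : orderOf t1 = 3 := by rwa [Subgroup.orderOf_mk] at ht1o'
  let t2 : G := h * t1 * h⁻¹
  have ht2P : t2 ∈ (P : Subgroup G) := hHnorm h hhH t1 ht1P
  have ht2o : orderOf t2 = 3 := by
    rw [← ht1o]; exact (SemiconjBy.orderOf_eq h (show SemiconjBy h t1 t2 by simp [t2, SemiconjBy])).symm
  have ht23 : t2 ^ 3 = 1 := ht2o ▸ pow_orderOf_eq_one t2
  have ht13 : t1 ^ 3 = 1 := ht1o ▸ pow_orderOf_eq_one t1
  have hz : h * t2 * h⁻¹ = t1⁻¹ := by
    have h2 : h ^ 2 ≠ 1 := fun h' => by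
      have := Nat.le_of_dvd two_pos (orderOf_dvd_of_pow_eq_one h'); omega
    have := hinv (h ^ 2) (H.pow_mem hhH 2) (by rw [← pow_add]; exact hh4) h2 t1 ht1P
    rw [← this, pow_two]
    show h * (h * t1 * h⁻¹) * h⁻¹ = _
    group
  have hindep : ∀ i j : ℤ, t1 ^ i * t2 ^ j = 1 → (3 : ℤ) ∣ i ∧ (3 : ℤ) ∣ j := by
    intro i j hij
    have hmod3 : ∀ (x : G) (k : ℤ), orderOf x = 3 → (x ^ k = 1 ↔ (3 : ℤ) ∣ k) := fun x k hx => by
      rw [← orderOf_dvd_iff_zpow_eq_one, hx]; rfl
    by_cases hj : (3 : ℤ) ∣ j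
    · rw [(hmod3 t2 j ht2o).mpr hj, mul_one] at hij
      exact ⟨(hmod3 t1 i ht1o).mp hij, hj⟩
    exfalso
    -- apply `h` to the relation
    have himg : t2 ^ i * t1 ^ (-j) = 1 := by
      have := congrArg (fun g => h * g * h⁻¹) hij
      simp only [mul_one, mul_inv_cancel] at this
      rw [← this, show t1 ^ (-j) = (h * t2 * h⁻¹) ^ j by rw [hz, inv_zpow, zpow_neg],
        show t2 ^ i = (h * t1 * h⁻¹) ^ i from rfl, conj_zpow, conj_zpow]
      group
    have e1 : t2 ^ j = t1 ^ (-i) := by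
      rw [zpow_neg, eq_inv_iff_mul_eq_one, (hPcomm _ ((P : Subgroup G).zpow_mem ht2P j) _ ((P : Subgroup G).zpow_mem ht1P i))]
      exact hij
    have e2 : t2 ^ i = t1 ^ j := by
      rw [zpow_neg, mul_inv_eq_one] at himg; exact himg
    have e3 : t1 ^ (j * j + i * i) = 1 := by
      have h' : t2 ^ (i * j) = t2 ^ (j * i) := by rw [mul_comm]
      rw [zpow_mul, zpow_mul, e1, e2, ← zpow_mul, ← zpow_mul] at h'
      rw [zpow_add, h', ← zpow_add, show -i * i + i * i = 0 by ring, zpow_zero]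
    rw [hmod3 t1 _ ht1o] at e3
    have hj : ¬ ((j : ZMod 3) = 0) := fun h' => hj ((ZMod.intCast_zmod_eq_zero_iff_dvd j 3).mp h')
    have e4 : ((j : ZMod 3)) * j + (i : ZMod 3) * i = 0 := by
      have := (ZMod.intCast_zmod_eq_zero_iff_dvd _ 3).mpr e3
      push_cast at this
      exact this
    exact hj (sq_add_sq_zmod_three _ _ e4)
  let pos : ℕ → G := fun k => t1 ^ (k % 3) * t2 ^ (k / 3 % 3)
  have hposP : ∀ k, pos k ∈ (P : Subgroup G) := fun k =>
    (P : Subgroup G).mul_mem ((P : Subgroup G).pow_mem ht1P _) ((P : Subgroup G).pow_mem ht2P _)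
  have hm1 : ∀ k : ℕ, t1 ^ (k % 3) = t1 ^ k := fun k => by rw [← ht1o, pow_mod_orderOf]
  have hm2 : ∀ k : ℕ, t2 ^ (k % 3) = t2 ^ k := fun k => by rw [← ht2o, pow_mod_orderOf]
  have hpos_code : ∀ a b : ℕ, pos (a % 3 + 3 * (b % 3)) = t1 ^ a * t2 ^ b := by
    intro a b
    show t1 ^ _ * t2 ^ _ = _
    rw [show (a % 3 + 3 * (b % 3)) % 3 = a % 3 by omega, show (a % 3 + 3 * (b % 3)) / 3 % 3 = b % 3 by omega,
      hm1, hm2]
  have hposinj : ∀ a b : ℕ, a < 9 → b < 9 → pos a = pos b → a = b := by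
    intro a b ha hb hab
    have h1 : t1 ^ (((a % 3 : ℕ) : ℤ) - ((b % 3 : ℕ) : ℤ)) * t2 ^ (((a / 3 % 3 : ℕ) : ℤ) - ((b / 3 % 3 : ℕ) : ℤ)) = 1 := by
      rw [zpow_sub, zpow_sub, zpow_natCast, zpow_natCast, zpow_natCast, zpow_natCast]
      have hc := hPcomm ((t1 ^ (b % 3))⁻¹) ((P : Subgroup G).inv_mem ((P : Subgroup G).pow_mem ht1P _))
        (t2 ^ (a / 3 % 3)) ((P : Subgroup G).pow_mem ht2P _)
      calc t1 ^ (a % 3) * (t1 ^ (b % 3))⁻¹ * (t2 ^ (a / 3 % 3) * (t2 ^ (b / 3 % 3))⁻¹)
          = t1 ^ (a % 3) * ((t1 ^ (b % 3))⁻¹ * t2 ^ (a / 3 % 3)) * (t2 ^ (b / 3 % 3))⁻¹ := by group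
        _ = pos a * ((t1 ^ (b % 3))⁻¹ * (t2 ^ (b / 3 % 3))⁻¹) := by rw [hc]; simp only [pos]; group
        _ = pos a * (pos b)⁻¹ := by
            rw [hPcomm _ ((P : Subgroup G).inv_mem ((P : Subgroup G).pow_mem ht1P _)) _
              ((P : Subgroup G).inv_mem ((P : Subgroup G).pow_mem ht2P _)), ← mul_inv_rev]
        _ = 1 := by rw [hab, mul_inv_cancel]
    obtain ⟨⟨i, hi⟩, ⟨j, hj⟩⟩ := hindep _ _ h1
    omega
  let enum : Fin 10 → Sylow 3 G := fun x => if (x : ℕ) < 9 then pos x • R₀ else P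
  have hinj : Function.Injective enum := by
    intro x y hxy
    simp only [enum] at hxy
    split_ifs at hxy with hx hy hy
    · exact Fin.ext (hposinj _ _ hx hy (hregs _ (hposP _) _ (hposP _) hxy))
    · exact absurd hxy (hne_P _ (hposP _))
    · exact absurd hxy.symm (hne_P _ (hposP _))
    · exact Fin.ext (by omega)
  let e : Fin 10 ≃ Sylow 3 G := Equiv.ofBijective enum
    ((Nat.bijective_iff_injective_and_card enum).mpr ⟨hinj, by rw [Nat.card_fin, hn]⟩)
  have he : ∀ x, e x = enum x := fun x => rfl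
  let f : G →* Equiv.Perm (Fin 10) :=
    e.symm.permCongrHom.toMonoidHom.comp (MulAction.toPermHom G (Sylow 3 G))
  have hf : ∀ g x, e (f g x) = g • e x := fun g x => by
    show e (e.symm (g • e x)) = _
    exact e.apply_symm_apply _
  have henum : ∀ k : ℕ, k < 9 → e (Fin.ofNat 10 k) = pos k • R₀ := fun k hk => by
    rw [he]
    have : ((Fin.ofNat 10 k : Fin 10) : ℕ) = k := Nat.mod_eq_of_lt (by omega)
    simp only [enum, this, if_pos hk]
  have henum' : ∀ x : Fin 10, (x : ℕ) < 9 → e x = pos x • R₀ := fun x hx => by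
    rw [he]; simp only [enum, if_pos hx]
  have henum_last : ∀ x : Fin 10, ¬ (x : ℕ) < 9 → e x = P := fun x hx => by
    rw [he]; simp only [enum, if_neg hx]
  have he0 : e 0 = R₀ := by
    rw [henum' 0 (by norm_num)]
    simp [pos]
  let t : Fin 10 → G := fun s => if (s : ℕ) < 9 then pos s else 1
  have hgP : ∀ g : G, f g 9 = 9 → g • P = P := by
    intro g hg
    have h2 := hf g 9
    rw [hg, henum_last 9 (by decide)] at h2
    exact h2.symm
  refine ⟨f, h, t, ?_⟩
  refine
    { inj := ?_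
      h_apply := fun x => ?_
      t_apply := fun s x => ?_
      stab := fun g hg => ?_
      fix_two := fun g hg hg' => ?_
      trans := fun x => ?_
      h_fix := ⟨by decide, by decide⟩
      t_fix := by decide
      h_pow := hh4 }
  · rw [injective_iff_map_eq_one]
    intro g hg
    refine hker g fun R => ?_
    have := hf g (e.symm R)
    rw [hg, Equiv.Perm.one_apply, Equiv.apply_symm_apply] at this
    exact this.symm
  · apply e.injective
    rw [hf]
    simp only [tables9]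
    split_ifs with hx
    · rw [henum' x hx, henum _ (by omega), hHsmul h hhH,
        show 2 * ((x : ℕ) / 3) % 3 + 3 * ((x : ℕ) % 3) = 2 * ((x : ℕ) / 3 % 3) % 3 + 3 * (((x : ℕ) % 3) % 3) by omega,
        hpos_code]
      congr 1
      show h * (t1 ^ ((x : ℕ) % 3) * t2 ^ ((x : ℕ) / 3 % 3)) * h⁻¹ = _
      rw [show h * (t1 ^ ((x : ℕ) % 3) * t2 ^ ((x : ℕ) / 3 % 3)) * h⁻¹ =
        (h * t1 ^ ((x : ℕ) % 3) * h⁻¹) * (h * t2 ^ ((x : ℕ) / 3 % 3) * h⁻¹) by group, ← conj_pow, ← conj_pow, hz]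
      rw [hPcomm _ ((P : Subgroup G).pow_mem ht2P _) _ ((P : Subgroup G).pow_mem ((P : Subgroup G).inv_mem ht1P) _)]
      congr 1
      rw [pow_mul, inv_eq_of_mul_eq_one_right (show t1 * t1 ^ 2 = 1 by rw [← pow_succ']; exact ht13)]
    · rw [henum_last x hx]; exact Sylow.smul_eq_iff_mem_normalizer.mpr hhH.1
  · apply e.injective
    rw [hf]
    simp only [tables9, t]
    by_cases hs : (s : ℕ) < 9
    · by_cases hx : (x : ℕ) < 9
      · rw [if_pos hs, if_pos ⟨hx, hs⟩, henum' x hx, henum _ (by omega), ← mul_smul,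
          show ((x : ℕ) % 3 + (s : ℕ) % 3) % 3 + 3 * (((x : ℕ) / 3 + (s : ℕ) / 3) % 3) =
            ((s : ℕ) % 3 + (x : ℕ) % 3) % 3 + 3 * (((s : ℕ) / 3 % 3 + (x : ℕ) / 3 % 3) % 3) by omega,
          hpos_code, pow_add, pow_add]
        congr 1
        simp only [pos]
        have hc := hPcomm _ ((P : Subgroup G).pow_mem ht2P ((s : ℕ) / 3 % 3)) _
          ((P : Subgroup G).pow_mem ht1P ((x : ℕ) % 3))
        calc t1 ^ ((s : ℕ) % 3) * t2 ^ ((s : ℕ) / 3 % 3) * (t1 ^ ((x : ℕ) % 3) * t2 ^ ((x : ℕ) / 3 % 3))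
            = t1 ^ ((s : ℕ) % 3) * (t2 ^ ((s : ℕ) / 3 % 3) * t1 ^ ((x : ℕ) % 3)) * t2 ^ ((x : ℕ) / 3 % 3) := by group
          _ = _ := by rw [hc]; group
      · rw [if_pos hs, if_neg (fun h' => hx h'.1), henum_last x hx]; exact hpfix _ (hposP _)
    · rw [if_neg hs, if_neg (fun h' => hs h'.2), one_smul]
  · have h1 : g • P = P := hgP g hg
    have hgN : g ∈ N := Sylow.smul_eq_iff_mem_normalizer.mp h1
    have hne' : g • R₀ ≠ P := fun h' => hR₀ (smul_left_cancel g (h'.trans h1.symm))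
    obtain ⟨x, hx⟩ : ∃ x : Fin 10, e x = g • R₀ := ⟨e.symm _, e.apply_symm_apply _⟩
    have hx9 : (x : ℕ) < 9 := by
      by_contra hc
      rw [henum_last x hc] at hx
      exact hne' hx.symm
    rw [henum' x hx9] at hx
    obtain ⟨j, hj, hjk⟩ := hpows ((pos x)⁻¹ * g) ⟨N.mul_mem (N.inv_mem (le_normalizer (hposP _))) hgN,
      MulAction.mem_stabilizer_iff.mpr (by rw [mul_smul, ← hx, inv_smul_smul])⟩
    refine ⟨x, j, hj, ?_⟩
    rw [← hjk]
    simp [t, hx9]
  · refine hpows g ⟨Sylow.smul_eq_iff_mem_normalizer.mp (hgP g hg), MulAction.mem_stabilizer_iff.mpr ?_⟩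
    have h2 := hf g 0
    have h3 : f g 0 = 0 := hg'
    rw [h3, he0] at h2
    exact h2.symm
  · obtain ⟨g, hg⟩ := MulAction.exists_smul_eq G P (e x)
    refine ⟨g, e.injective ?_⟩
    show e (f g 9) = e x
    rw [hf, henum_last 9 (by decide), hg]

end Cfsg.Agent.Classification
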