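import Mathlib
import Cfsg.Agent.OddLocal43.Coprime
import Cfsg.Agent.Lib.Transfer.Frobenius

set_option autoImplicit false

/-!
Odd order automorphisms of small or cyclic-by-two 2-groups, and consequences of the Frobenius criterion.
-/

namespace Cfsg.Agent.Classification

open Subgroup

variable {G : Type*} [Group G]

/-- An element whose order is coprime to `(#Q)!` up to a factor `5` centralizes a 2-group `Q` of
order dividing `8`. -/
theorem mem_centralizer_of_small [Finite G] {Q : Subgroup G} (hQ : Nat.card Q ∣ 8) {g : G}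
    (hg : g ∈ Subgroup.normalizer (Q : Set G))
    (hcop : Nat.gcd (orderOf g) (Nat.card Q).factorial ∣ 5) :
    g ∈ Subgroup.centralizer (Q : Set G) := by
  let g' : Subgroup.normalizer (Q : Set G) := ⟨g, hg⟩
  let φ : Subgroup.normalizer (Q : Set G) →* Equiv.Perm Q :=
    (MulAut.toPerm Q).comp (normalizerMonoidHom Q)
  let σ : Equiv.Perm Q := φ g'
  have h1 : σ ^ orderOf g = 1 := by
    rw [← map_pow, ← Subgroup.orderOf_mk g hg, pow_orderOf_eq_one, map_one]
  have h2 : σ ^ (Nat.card Q).factorial = 1 := by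
    rw [← Nat.card_perm]; exact pow_card_eq_one'
  have h5 : σ ^ 5 = 1 := by
    obtain ⟨c, hc⟩ := hcop
    rw [hc, pow_mul, pow_gcd_eq_one.mpr ⟨h1, h2⟩, one_pow]
  have : Fact (Nat.Prime 5) := ⟨by norm_num⟩
  have hp : IsPGroup 5 (Subgroup.zpowers σ) := by
    intro x
    refine ⟨1, ?_⟩
    obtain ⟨k, hk⟩ := x.2
    have hk' : σ ^ k = (x : Equiv.Perm Q) := hk
    apply Subtype.ext
    show (x : Equiv.Perm Q) ^ (5 ^ 1) = 1
    rw [← hk', ← zpow_natCast, ← zpow_mul, mul_comm, zpow_mul, zpow_natCast, pow_one, h5, one_zpow]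
  have hσ : ∀ q : Q, (σ q : G) = g * q * g⁻¹ := fun q => rfl
  let F : Subgroup G := Q ⊓ Subgroup.centralizer ({g} : Set G)
  have e : MulAction.fixedPoints (Subgroup.zpowers σ) Q ≃ F :=
    { toFun := fun q => ⟨(q.1 : G), q.1.2, Subgroup.mem_centralizer_singleton_iff.mpr <| by
        have h := congrArg Subtype.val (q.2 ⟨σ, Subgroup.mem_zpowers σ⟩)
        have h' : g * (q.1 : G) * g⁻¹ = q.1 := h
        rw [mul_inv_eq_iff_eq_mul] at h'
        exact h'.symm⟩
      invFun := fun f => ⟨⟨f.1, f.2.1⟩, fun x => by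
        obtain ⟨k, hk⟩ := x.2
        have hfix : σ ⟨f.1, f.2.1⟩ = ⟨f.1, f.2.1⟩ := by
          apply Subtype.ext
          rw [hσ]
          show g * (f : G) * g⁻¹ = f
          rw [← Subgroup.mem_centralizer_singleton_iff.mp f.2.2, mul_inv_cancel_right]
        have hk' : σ ^ k = (x : Equiv.Perm Q) := hk
        show (x : Equiv.Perm Q) ⟨f.1, f.2.1⟩ = ⟨f.1, f.2.1⟩
        rw [← hk']
        exact Equiv.Perm.zpow_apply_eq_self_of_apply_eq_self hfix k⟩
      left_inv := fun q => rfl
      right_inv := fun f => rfl }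
  have hmod := hp.card_modEq_card_fixedPoints (α := Q)
  rw [Nat.card_congr e] at hmod
  have hFdvd : Nat.card F ∣ Nat.card Q := Subgroup.card_dvd_of_le inf_le_left
  have hcard : Nat.card F = Nat.card Q := by
    have key : ∀ a ∈ Nat.divisors 8, ∀ b ∈ Nat.divisors 8, a ≡ b [MOD 5] → a = b := by decide
    exact (key _ (Nat.mem_divisors.mpr ⟨hQ, by norm_num⟩) _
      (Nat.mem_divisors.mpr ⟨hFdvd.trans hQ, by norm_num⟩) hmod).symm
  have hFQ : F = Q := Subgroup.eq_of_le_of_card_ge inf_le_left hcard.ge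
  rw [Subgroup.mem_centralizer_iff]
  intro q hq
  have : q ∈ F := hFQ.symm ▸ hq
  exact Subgroup.mem_centralizer_singleton_iff.mp this.2

/-- An element of odd order normalizing a cyclic 2-group centralizes it. -/
theorem commute_of_zpowers_two_pow [Finite G] {g : G} (hg : Odd (orderOf g)) :
    ∀ (m : ℕ) (c : G), orderOf c = 2 ^ m → g * c * g⁻¹ ∈ Subgroup.zpowers c → Commute g c := by
  intro m
  induction m with
  | zero =>
    intro c hc _
    rw [pow_zero, orderOf_eq_one_iff] at hc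
    rw [hc]
    exact Commute.one_right g
  | succ m ih =>
    intro c hc hmem
    obtain ⟨k, hk⟩ := hmem
    have hk' : g * c * g⁻¹ = c ^ k := hk.symm
    have h2 : orderOf (c ^ 2) = 2 ^ m := by
      rw [orderOf_pow' c two_ne_zero, hc, Nat.gcd_eq_right (dvd_pow_self 2 m.succ_ne_zero), pow_succ,
        Nat.mul_div_cancel _ two_pos]
    have hc2 : Commute g (c ^ 2) := ih (c ^ 2) h2
      ⟨k, by
        show (c ^ 2) ^ k = g * c ^ 2 * g⁻¹
        rw [← conj_pow, hk', ← zpow_natCast, ← zpow_natCast (c ^ k), ← zpow_mul, ← zpow_mul, mul_comm]⟩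
    rcases Int.even_or_odd k with ⟨r, hr⟩ | ⟨r, hr⟩
    · exfalso
      have h3 : orderOf (c ^ k) = orderOf c := by
        rw [← hk']; exact (SemiconjBy.orderOf_eq g (show SemiconjBy g c (g * c * g⁻¹) by
          simp [SemiconjBy])).symm
      have h4 : c ^ k = (c ^ 2) ^ r := by
        rw [hr, ← two_mul, zpow_mul, zpow_two, pow_two]
      have h5 : orderOf (c ^ k) ∣ 2 ^ m := by
        rw [← h2, h4]
        exact orderOf_dvd_of_mem_zpowers ⟨r, rfl⟩
      rw [h3, hc] at h5
      have := Nat.le_of_dvd (by positivity) h5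
      rw [pow_succ] at this
      have := Nat.two_pow_pos m
      omega
    · refine OddLocal43.commute_of_stab (c := c ^ (k - 1)) ?_ ?_ ?_
      · rw [hr, add_sub_cancel_right, zpow_mul, zpow_two, ← pow_two]
        exact hc2.zpow_right r
      · rw [hk']; exact (zpow_sub_one c k).symm ▸ (inv_mul_cancel_right (c ^ k) c).symm
      · exact Nat.Coprime.coprime_dvd_right
          ((orderOf_dvd_of_mem_zpowers ⟨_, rfl⟩).trans hc.dvd)
          ((Nat.coprime_two_right.mpr hg).pow_right _)

/-- An odd order element fixing a subgroup of index at most two of a 2-group fixes the 2-group. -/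
theorem commute_of_index_two [Finite G] {g : G} (hg : Odd (orderOf g)) {Q C : Subgroup G}
    (hQ : IsPGroup 2 Q) (hgQ : g ∈ Subgroup.normalizer (Q : Set G)) (hCQ : C ≤ Q)
    (h2 : ∀ x ∈ Q, ∀ y ∈ Q, x ∉ C → y ∉ C → x * y⁻¹ ∈ C) (hC : ∀ c ∈ C, Commute g c) :
    ∀ b ∈ Q, Commute g b := by
  intro b hb
  by_cases hbC : b ∈ C
  · exact hC b hbC
  have hgb : g * b * g⁻¹ ∈ Q := (Subgroup.mem_normalizer_iff.mp hgQ b).mp hb
  have hgbC : g * b * g⁻¹ ∉ C := by
    intro h
    apply hbC
    have h1 := (hC _ h).eq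
    have : g * b * g⁻¹ = b := by
      calc g * b * g⁻¹ = g⁻¹ * (g * (g * b * g⁻¹)) := by group
        _ = g⁻¹ * (g * b * g⁻¹ * g) := by rw [h1]
        _ = b := by group
    rwa [this] at h
  have hd := h2 _ hgb _ hb hgbC hbC
  refine OddLocal43.commute_of_stab (hC _ hd) (by group) ?_
  obtain ⟨j, hj⟩ := (IsPGroup.iff_orderOf.mp hQ) ⟨_, hCQ hd⟩
  rw [Subgroup.orderOf_mk] at hj
  rw [hj]
  exact (Nat.coprime_two_right.mpr hg).pow_right _

end Cfsg.Agent.Classification
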