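import Cfsg.Prelude.Def_CaseTheorems
import Mathlib

set_option autoImplicit false

/-!
Elementary facts about Klein four-subgroups and the commuting graph on them.
-/

open scoped Pointwise

namespace Cfsg.Agent.Classification

variable {G : Type*} [Group G]

/-- The conjugate `g H g⁻¹`. -/
def cj (g : G) (H : Subgroup G) : Subgroup G := H.map (MulAut.conj g).toMonoidHom

theorem mem_cj {g x : G} {H : Subgroup G} : x ∈ cj g H ↔ g⁻¹ * x * g ∈ H := by
  constructor
  · rintro ⟨h, hh, rfl⟩
    simpa [mul_assoc] using hh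
  · intro hx
    exact ⟨g⁻¹ * x * g, hx, by simp [mul_assoc]⟩

theorem cj_mul (g h : G) (H : Subgroup G) : cj g (cj h H) = cj (g * h) H := by
  ext x; simp [mem_cj, mul_assoc]

@[simp] theorem cj_one (H : Subgroup G) : cj 1 H = H := by
  ext x; simp [mem_cj]

theorem cj_inv_cancel (g : G) (H : Subgroup G) : cj g⁻¹ (cj g H) = H := by
  rw [cj_mul, inv_mul_cancel, cj_one]

theorem cj_cancel_inv (g : G) (H : Subgroup G) : cj g (cj g⁻¹ H) = H := by
  rw [cj_mul, mul_inv_cancel, cj_one]

theorem cj_mono (g : G) {H K : Subgroup G} (h : H ≤ K) : cj g H ≤ cj g K :=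
  Subgroup.map_mono h

theorem cj_le_iff {g : G} {H K : Subgroup G} : cj g H ≤ K ↔ H ≤ cj g⁻¹ K := by
  constructor
  · intro h; simpa [cj_inv_cancel] using cj_mono g⁻¹ h
  · intro h; simpa [cj_cancel_inv] using cj_mono g h

theorem card_cj (g : G) (H : Subgroup G) : Nat.card (cj g H) = Nat.card H :=
  Subgroup.card_map_of_injective (MulAut.conj g).injective

theorem mem_normalizer_of_cj_eq {g : G} {H : Subgroup G} (h : cj g H = H) :
    g ∈ Subgroup.normalizer (H : Set G) := by
  rw [Subgroup.mem_normalizer_iff]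
  intro x
  conv_rhs => rw [← h, mem_cj]
  simp [mul_assoc]

theorem cj_eq_of_mem_normalizer {g : G} {H : Subgroup G}
    (h : g ∈ Subgroup.normalizer (H : Set G)) : cj g H = H := by
  ext x
  rw [mem_cj]
  rw [Subgroup.mem_normalizer_iff] at h
  rw [h]
  simp [mul_assoc]

/-- Every `p`-subgroup lies in a conjugate of a given Sylow subgroup. -/
theorem exists_le_cj_sylow [Finite G] {p : ℕ} [Fact p.Prime] (S : Sylow p G) {R : Subgroup G}
    (hR : IsPGroup p R) : ∃ h : G, R ≤ cj h (S : Subgroup G) := by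
  obtain ⟨T, hT⟩ := hR.exists_le_sylow
  obtain ⟨h, rfl⟩ := MulAction.exists_smul_eq G S T
  refine ⟨h, fun x hx => ?_⟩
  have hx' := hT hx
  exact mem_cj.mpr (by
    have hx'' : x ∈ MulAut.conj h • (S : Subgroup G) := hx'
    rw [Subgroup.mem_pointwise_smul_iff_inv_smul_mem] at hx''
    simpa [MulAut.smul_def, mul_assoc] using hx'')

/-! ### Klein four-subgroups -/

theorem isKleinFour_of_mulEquiv {H K : Type*} [Group H] [Group K] (e : H ≃* K)
    (h : IsKleinFour H) : IsKleinFour K :=
  ⟨(Nat.card_congr e.toEquiv).symm.trans h.card_four,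
    (Monoid.exponent_eq_of_mulEquiv e).symm.trans h.exponent_two⟩

theorem isKleinFour_map {H : Type*} [Group H] (f : G →* H) (hf : Function.Injective f)
    {U : Subgroup G} (hU : IsKleinFour U) : IsKleinFour (U.map f) :=
  isKleinFour_of_mulEquiv (U.equivMapOfInjective f hf) hU

theorem isKleinFour_cj (g : G) {U : Subgroup G} (hU : IsKleinFour U) : IsKleinFour (cj g U) :=
  isKleinFour_map _ (MulAut.conj g).injective hU

theorem isKleinFour_sq {U : Subgroup G} (hU : IsKleinFour U) {a : G} (ha : a ∈ U) : a ^ 2 = 1 := by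
  have := Monoid.pow_exponent_eq_one (⟨a, ha⟩ : U)
  rw [hU.exponent_two] at this
  simpa [Subtype.ext_iff] using this

theorem isKleinFour_isPGroup {U : Subgroup G} (hU : IsKleinFour U) : IsPGroup 2 U :=
  IsPGroup.of_card (n := 2) (by rw [hU.card_four]; norm_num)

theorem isKleinFour_comm {U : Subgroup G} (hU : IsKleinFour U) {a b : G} (ha : a ∈ U)
    (hb : b ∈ U) : a * b = b * a := by
  have h := hU.isMulCommutative
  exact congrArg Subtype.val (h.is_comm.comm (⟨a, ha⟩ : U) ⟨b, hb⟩)

theorem isKleinFour_iff {U : Subgroup G} :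
    IsKleinFour U ↔ Nat.card U = 4 ∧ ∀ a ∈ U, a ^ 2 = 1 := by
  refine ⟨fun h => ⟨h.card_four, fun a ha => isKleinFour_sq h ha⟩, fun ⟨h4, h2⟩ => ⟨h4, ?_⟩⟩
  have : Finite U := Nat.finite_of_card_ne_zero (by omega)
  have : Nontrivial U := Finite.one_lt_card_iff_nontrivial.mp (by omega)
  rw [Monoid.exponent_eq_prime_iff Nat.prime_two]
  intro g hg
  exact orderOf_eq_prime (Subtype.ext (by simpa using h2 g g.2)) hg

/-- An elementary abelian 2-group of order at least 4 contains a Klein four-subgroup. -/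
theorem exists_isKleinFour_le {A : Subgroup G} [Finite A] (h2 : ∀ a ∈ A, a ^ 2 = 1)
    (hA : 2 < Nat.card A) : ∃ U : Subgroup G, IsKleinFour U ∧ U ≤ A := by
  have hp : IsPGroup 2 A := fun a => ⟨1, Subtype.ext (by simpa using h2 a a.2)⟩
  obtain ⟨n, hn⟩ := hp.exists_card_eq
  have hn2 : 2 ≤ n := by
    by_contra hc
    push Not at hc
    interval_cases n <;> simp only [pow_zero, pow_one] at hn <;> omega
  obtain ⟨K, hK⟩ := Sylow.exists_subgroup_card_pow_prime (G := A) 2 (n := 2)
    (hn ▸ pow_dvd_pow 2 hn2)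
  refine ⟨K.map A.subtype, isKleinFour_iff.mpr ⟨?_, ?_⟩, Subgroup.map_subtype_le K⟩
  · rw [Subgroup.card_map_of_injective (Subgroup.subtype_injective A), hK]; norm_num
  · exact fun a ha => h2 a (Subgroup.map_subtype_le K ha)

theorem exists_isKleinFour_of_not_prankLE [Finite G] (h : ¬ Cfsg.PRankLE 2 1 G) :
    ∃ U : Subgroup G, IsKleinFour U := by
  simp only [Cfsg.PRankLE, not_forall, not_le, pow_one] at h
  obtain ⟨A, -, hA2, hA⟩ := h
  exact (exists_isKleinFour_le hA2 hA).imp fun _ hU => hU.1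

theorem not_prankLE_of_isKleinFour_le {U Q : Subgroup G} (hU : IsKleinFour U) (hUQ : U ≤ Q) :
    ¬ Cfsg.PRankLE 2 1 Q := by
  intro h
  have hU' : IsKleinFour (U.subgroupOf Q) :=
    isKleinFour_of_mulEquiv (Subgroup.subgroupOfEquivOfLe hUQ).symm hU
  have := h (U.subgroupOf Q) hU'.isMulCommutative (fun a ha => isKleinFour_sq hU' ha)
  rw [hU'.card_four] at this
  norm_num at this

/-- Adjacency in the commuting graph of Klein four-subgroups. -/
def FourRel (A B : Subgroup G) : Prop :=
  IsKleinFour A ∧ IsKleinFour B ∧ ∀ a ∈ A, ∀ b ∈ B, a * b = b * a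

theorem fourRel_symm {A B : Subgroup G} (h : FourRel A B) : FourRel B A :=
  ⟨h.2.1, h.1, fun b hb a ha => (h.2.2 a ha b hb).symm⟩

theorem fourRel_map {H : Type*} [Group H] (f : G →* H) (hf : Function.Injective f)
    {A B : Subgroup G} (h : FourRel A B) : FourRel (A.map f) (B.map f) := by
  refine ⟨isKleinFour_map f hf h.1, isKleinFour_map f hf h.2.1, ?_⟩
  rintro _ ⟨a, ha, rfl⟩ _ ⟨b, hb, rfl⟩
  rw [← map_mul, ← map_mul, h.2.2 a ha b hb]

/-- Being joined by a chain in the commuting graph of Klein four-subgroups. -/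
def FourJoined (A B : Subgroup G) : Prop := Relation.ReflTransGen FourRel A B

theorem FourJoined.symm {A B : Subgroup G} (h : FourJoined A B) : FourJoined B A :=
  haveI : Std.Symm (FourRel (G := G)) := ⟨fun _ _ h => fourRel_symm h⟩
  (inferInstance : Std.Symm (Relation.ReflTransGen (FourRel (G := G)))).symm _ _ h

theorem FourJoined.map {H : Type*} [Group H] (f : G →* H) (hf : Function.Injective f)
    {A B : Subgroup G} (h : FourJoined A B) : FourJoined (A.map f) (B.map f) :=
  Relation.ReflTransGen.lift (fun X : Subgroup G => X.map f) (fun _ _ h => fourRel_map f hf h) _ _ h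

end Cfsg.Agent.Classification
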