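import Cfsg.Agent.Classification.SimpleOrderTools
import Cfsg.Agent.Lib.Transfer.Focal

set_option autoImplicit false

/-!
# No simple group has order 612, 756, 1008, 1040 or 1080
-/

namespace Cfsg.Agent.Classification

open Subgroup

variable {G : Type*} [Group G] [Finite G]

/-- Translation of the cosets of `N(P)` to the Sylow subgroups respects the action. -/
theorem card_fixedBy_sylow {p : ℕ} [Fact p.Prime] (P : Sylow p G) (y : G) :
    Nat.card (MulAction.fixedBy (Sylow p G) y) =
      Nat.card (MulAction.fixedBy (G ⧸ normalizer ((P : Subgroup G) : Set G)) y) := by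
  let f : G ⧸ normalizer ((P : Subgroup G) : Set G) → Sylow p G :=
    Quotient.lift (fun g : G => g • P) fun a b hab => by
      replace hab : a⁻¹ * b ∈ normalizer ((P : Subgroup G) : Set G) := QuotientGroup.leftRel_apply.mp hab
      show a • P = b • P
      rw [eq_comm, ← inv_smul_eq_iff, ← mul_smul]
      exact Sylow.smul_eq_iff_mem_normalizer.mpr hab
  have hf : Function.Bijective f := by
    refine (Nat.bijective_iff_surjective_and_card f).mpr
      ⟨fun R => ?_, P.card_eq_card_quotient_normalizer.symm⟩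
    obtain ⟨g, hg⟩ := MulAction.exists_smul_eq G P R
    exact ⟨(g : G ⧸ _), hg⟩
  have heq : ∀ a, f (y • a) = y • f a := fun a => by
    induction a using QuotientGroup.induction_on with
    | _ g => exact mul_smul y g P
  symm
  refine Nat.card_congr ((Equiv.ofBijective f hf).subtypeEquiv fun a => ?_)
  show y • a = a ↔ y • f a = f a
  rw [← heq, hf.1.eq_iff]

/-- An element normalising a Sylow subgroup of order `p` without centralising it fixes few Sylow
subgroups. -/
theorem card_fixedBy_sylow_le {p : ℕ} [Fact p.Prime] (P : Sylow p G)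
    (hP : Nat.card ↥(P : Subgroup G) = p) {u : G}
    (hu : u ∈ normalizer ((P : Subgroup G) : Set G))
    (huc : u ∉ centralizer ((P : Subgroup G) : Set G)) :
    (Nat.card (MulAction.fixedBy (Sylow p G) u) - 1) * p + 1 ≤ Nat.card (Sylow p G) := by
  rw [card_fixedBy_sylow P, ← SmallGroups.card_orbits_mul P hP]
  have h := Nat.card_le_card_of_injective _ (SmallGroups.fixedBy_orbit_injective P hP hu huc)
  exact Nat.add_le_add_right (Nat.mul_le_mul_right _ (Nat.sub_le_sub_right h 1)) 1

/-- A non-trivial element of prime order centralising a Sylow subgroup of order `p` moves a multiple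
of `p` Sylow subgroups. -/
theorem dvd_card_moved_sylow {p : ℕ} [Fact p.Prime] (P : Sylow p G)
    (hP : Nat.card ↥(P : Subgroup G) = p) {z : G}
    (hz : z ∈ centralizer ((P : Subgroup G) : Set G)) :
    p ∣ Nat.card {R : Sylow p G // z • R ≠ R} := by
  obtain ⟨x, hx, hx1⟩ : ∃ x ∈ (P : Subgroup G), x ≠ 1 := by
    by_contra hc
    push Not at hc
    rw [(eq_bot_iff_forall _).mpr hc, card_bot] at hP
    exact (Fact.out : p.Prime).ne_one hP.symm
  have hxp : x ^ p = 1 := by
    rw [← orderOf_dvd_iff_pow_eq_one]; exact hP ▸ orderOf_dvd_natCard _ hx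
  refine dvd_card_moved_of_commute (mem_centralizer_iff.mp hz x hx) hxp fun R hR hxR => hR ?_
  have hR' : R = P := by
    have h1 : x ∈ normalizer ((R : Subgroup G) : Set G) := Sylow.smul_eq_iff_mem_normalizer.mp hxR
    have h2 : x ∈ zpowers x ⊓ normalizer ((R : Subgroup G) : Set G) := ⟨mem_zpowers x, h1⟩
    have h3 : zpowers x ⊓ normalizer ((R : Subgroup G) : Set G) = zpowers x ⊓ (R : Subgroup G) :=
      (P.2.to_le (zpowers_le.mpr hx)).inf_normalizer_sylow R
    rw [h3] at h2
    refine (R.ext ?_)
    have hRc : Nat.card ↥(R : Subgroup G) = p := (Nat.card_congr (R.equiv P).toEquiv).trans hP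
    exact ((SmallGroups.zpowers_eq_of_card_prime hP hx hx1).symm.trans
      (SmallGroups.zpowers_eq_of_card_prime hRc h2.2 hx1)).symm
  rw [hR']
  exact Sylow.smul_eq_iff_mem_normalizer.mpr (centralizer_le_normalizer _ hz)

/-- At least `p` conjugates of an element of `N(P) \ C(P)` lie in `N(P)`. -/
theorem le_card_conj_inter {p : ℕ} [Fact p.Prime] (P : Subgroup G) (hP : Nat.card P = p) {u : G}
    (hu : u ∈ normalizer (P : Set G)) (huc : u ∉ centralizer (P : Set G)) :
    p ≤ Nat.card {g : G // IsConj u g ∧ g ∈ normalizer (P : Set G)} := by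
  rw [← hP]
  refine Nat.card_le_card_of_injective
    (fun v : P => ⟨(v : G) * u * (v : G)⁻¹, isConj_iff.mpr ⟨v, rfl⟩,
      mul_mem (mul_mem (le_normalizer v.2) hu) (inv_mem (le_normalizer v.2))⟩) fun v w hvw => ?_
  have h : (v : G) * u * (v : G)⁻¹ = (w : G) * u * (w : G)⁻¹ := congrArg Subtype.val hvw
  by_contra hne
  let d : P := w⁻¹ * v
  have hd1 : (d : G) ≠ 1 := fun h1 => hne (inv_mul_eq_one.mp (Subtype.ext h1 : d = 1)).symm
  have hd : Commute u (d : G) := by
    show u * ((w : G)⁻¹ * v) = (w : G)⁻¹ * v * u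
    calc u * ((w : G)⁻¹ * v) = (w : G)⁻¹ * ((w : G) * u * (w : G)⁻¹) * v := by group
      _ = (w : G)⁻¹ * v * u := by rw [← h]; group
  apply huc
  rw [mem_centralizer_iff]
  intro z hz
  rw [SetLike.mem_coe, ← SmallGroups.zpowers_eq_of_card_prime hP d.2 hd1, mem_zpowers_iff] at hz
  obtain ⟨i, rfl⟩ := hz
  exact (hd.zpow_right i).eq.symm

/-- A bound for the centralizer from the fixed points on cosets. -/
theorem card_centralizer_mul_le {H : Subgroup G} {u : G} {f k : ℕ}
    (hf : Nat.card (MulAction.fixedBy (G ⧸ H) u) ≤ f)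
    (hk : k ≤ Nat.card {g : G // IsConj u g ∧ g ∈ H}) :
    Nat.card (centralizer ({u} : Set G)) * (H.index * k) ≤ Nat.card G * f :=
  calc Nat.card (centralizer ({u} : Set G)) * (H.index * k)
      ≤ Nat.card (centralizer ({u} : Set G)) *
        (H.index * Nat.card {g : G // IsConj u g ∧ g ∈ H}) :=
        Nat.mul_le_mul_left _ (Nat.mul_le_mul_left _ hk)
    _ ≤ Nat.card (centralizer ({u} : Set G)) * (f * Nat.card {g : G // IsConj u g}) := by
        rw [← SmallGroups.card_fixedBy_mul]
        exact Nat.mul_le_mul_left _ (Nat.mul_le_mul_right _ hf)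
    _ = Nat.card G * f := by rw [← SmallGroups.card_conj_mul_centralizer u]; ring

/-- Two Sylow subgroups inside a subgroup. -/
theorem sylow_count_of_le {p a m : ℕ} [hp : Fact p.Prime] (hG : Nat.card G = p ^ a * m)
    (hm : ¬ p ∣ m) {P R : Sylow p G} (hPR : P ≠ R) {H : Subgroup G} (hP : (P : Subgroup G) ≤ H)
    (hR : (R : Subgroup G) ≤ H) :
    (P : Subgroup G).relIndex H * H.index = m ∧
      Nat.card (Sylow p H) ∣ (P : Subgroup G).relIndex H ∧
      Nat.card (Sylow p H) % p = 1 ∧ Nat.card (Sylow p H) ≠ 1 := by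
  refine ⟨?_, ?_, ?_, fun h => hPR (Sylow.subtype_injective (hP := hP) (hQ := hR)
    ((Nat.card_eq_one_iff_unique.mp h).1.elim _ _))⟩
  · rw [relIndex_mul_index hP]; exact SmallGroups.index_sylow_eq hG hm P
  · have := (P.subtype hP).card_dvd_index
    rwa [Sylow.coe_subtype] at this
  · have := card_sylow_modEq_one p H
    unfold Nat.ModEq at this
    rwa [Nat.mod_eq_of_lt hp.out.one_lt] at this

variable [IsSimpleGroup G]

theorem centralizer_ne_top (hG : ¬ IsMulCommutative G) {d : G} (hd : d ≠ 1) :
    centralizer ({d} : Set G) ≠ ⊤ := by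
  intro h
  apply hd
  have : d ∈ center G := mem_center_iff.mpr fun g =>
    mem_centralizer_singleton_iff.mp (h ▸ mem_top g : g ∈ centralizer ({d} : Set G))
  rwa [SmallGroups.center_eq_bot_of_not_comm hG] at this

theorem normalizer_ne_top (hG : ¬ IsMulCommutative G) {D : Subgroup G} (hD : D ≠ ⊥) {p : ℕ}
    [Fact p.Prime] (hDp : IsPGroup p D) : normalizer (D : Set G) ≠ ⊤ := fun h =>
  hD ((normalizer_eq_top_iff.mp h).eq_bot_or_eq_top.resolve_right fun hT =>
    hG (SmallGroups.comm_of_isPGroup ((hT ▸ hDp : IsPGroup p (⊤ : Subgroup G)).of_equiv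
      Subgroup.topEquiv)))

/-- A non-trivial element moves some Sylow subgroup. -/
theorem card_moved_sylow_pos (hG : ¬ IsMulCommutative G) {p : ℕ} [Fact p.Prime]
    (hp : p ∣ Nat.card G) {z : G} (hz : z ≠ 1) :
    0 < Nat.card {R : Sylow p G // z • R ≠ R} := by
  obtain ⟨R, hR⟩ : ∃ R : Sylow p G, z • R ≠ R := by
    by_contra hc
    push Not at hc
    let K : Subgroup G := (MulAction.toPermHom G (Sylow p G)).ker
    have hzK : z ∈ K := Equiv.ext hc
    have hK : K = ⊤ := (inferInstance : K.Normal).eq_bot_or_eq_top.resolve_left fun h =>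
      hz (by rwa [h, mem_bot] at hzK)
    obtain ⟨P⟩ := (inferInstance : Nonempty (Sylow p G))
    apply SmallGroups.card_sylow_ne_one hG hp
    rw [P.card_eq_index_normalizer, index_eq_one, eq_top_iff]
    intro g _
    have hg : g ∈ K := hK ▸ mem_top g
    exact Sylow.smul_eq_iff_mem_normalizer.mp (congrArg (fun σ : Equiv.Perm (Sylow p G) => σ P) hg)
  exact Nat.card_pos_iff.mpr ⟨⟨⟨R, hR⟩⟩, inferInstance⟩

/-- No simple group has order 612. -/
theorem card_ne_612 : Nat.card G ≠ 612 := by
  intro hG
  have hne : ¬ IsMulCommutative G :=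
    SmallGroups.not_comm_of_not_prime (by rw [hG]; norm_num)
  have : Fact (Nat.Prime 17) := ⟨by norm_num⟩
  have : Fact (Nat.Prime 3) := ⟨by norm_num⟩
  have : Fact (Nat.Prime 2) := ⟨Nat.prime_two⟩
  have hG17 : Nat.card G = 17 ^ 1 * 36 := by rw [hG]; norm_num
  have h17 : Nat.card (Sylow 17 G) = 18 := by
    have hm := SmallGroups.card_sylow_mem_list hG17 (by norm_num)
    rw [show (Nat.divisors 36).filter (fun d => d % 17 = 1) = {1, 18} by decide] at hm
    simp only [Finset.mem_insert, Finset.mem_singleton] at hm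
    exact hm.resolve_left (SmallGroups.card_sylow_ne_one hne (by rw [hG]; norm_num))
  obtain ⟨P⟩ := (inferInstance : Nonempty (Sylow 17 G))
  have hP : Nat.card ↥(P : Subgroup G) = 17 := by
    simpa using SmallGroups.card_sylow_eq hG17 (by norm_num) P
  set N := normalizer ((P : Subgroup G) : Set G) with hN
  have hidx : N.index = 18 := P.card_eq_index_normalizer.symm.trans h17
  -- every involution has a centralizer of order at most four
  have key : ∀ t : G, orderOf t = 2 → Nat.card (centralizer ({t} : Set G)) ≤ 4 := by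
    intro t ht
    have ht2 : t ^ 2 = 1 := ht ▸ pow_orderOf_eq_one t
    have ht1 : t ≠ 1 := fun h => by rw [h, orderOf_one] at ht; norm_num at ht
    have h4 := four_dvd_card_moved hne N ht2
    have hsum := card_moved_add_fixed (α := G ⧸ N) t
    rw [← index_eq_card, hidx] at hsum
    have hpos : 0 < Nat.card (MulAction.fixedBy (G ⧸ N) t) := by omega
    obtain ⟨⟨a, ha⟩⟩ := (Nat.card_pos_iff.mp hpos).1
    induction a using QuotientGroup.induction_on with
    | _ g =>
    have hu := (SmallGroups.mk_mem_fixedBy_iff N t g).mp ha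
    set u := g⁻¹ * t * g with hudef
    have huo : orderOf u = 2 := by
      rw [hudef, show g⁻¹ * t * g = MulAut.conj g⁻¹ t by simp, MulEquiv.orderOf_eq, ht]
    have huc : u ∉ centralizer ((P : Subgroup G) : Set G) := fun h => by
      have := movedBlock_mul_le hne (p := 17) (r := 2) (by norm_num) (by rw [hG]; norm_num) P hP h huo
      rw [h17] at this
      norm_num [movedBlock] at this
    obtain ⟨f, hf1, hf2, hf3⟩ := SmallGroups.exists_fixed_count P hne hP hu huc (huo ▸ pow_orderOf_eq_one u)
    have hfle : Nat.card (MulAction.fixedBy (G ⧸ N) u) ≤ 2 := by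
      have := card_fixedBy_sylow_le P hP hu huc
      rw [card_fixedBy_sylow P, h17] at this
      change (Nat.card (MulAction.fixedBy (G ⧸ N) u) - 1) * 17 + 1 ≤ 18 at this
      omega
    have hb := card_centralizer_mul_le hfle (le_card_conj_inter _ hP hu huc)
    rw [hidx, hG] at hb
    have hconj : IsConj t u := isConj_iff.mpr ⟨g⁻¹, by rw [hudef]; group⟩
    have h1 := SmallGroups.card_conj_mul_centralizer t
    have h2 := SmallGroups.card_conj_mul_centralizer u
    have h3 : Nat.card {x : G // IsConj t x} = Nat.card {x : G // IsConj u x} :=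
      Nat.card_congr (Equiv.subtypeEquivRight fun x =>
        ⟨fun h => hconj.symm.trans h, fun h => hconj.trans h⟩)
    rw [← h2, h3] at h1
    have h4' : 0 < Nat.card {x : G // IsConj u x} :=
      Nat.card_pos_iff.mpr ⟨⟨⟨u, IsConj.refl u⟩⟩, inferInstance⟩
    rw [Nat.eq_of_mul_eq_mul_left h4' h1]
    omega
  have hG3 : Nat.card G = 3 ^ 2 * 68 := by rw [hG]; norm_num
  have h34 : ¬ Nat.card (Sylow 3 G) ≡ 1 [MOD 3 ^ 2] := by
    have hm := SmallGroups.card_sylow_mem_list hG3 (by norm_num)
    rw [show (Nat.divisors 68).filter (fun d => d % 3 = 1) = {1, 4, 34} by decide] at hm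
    simp only [Finset.mem_insert, Finset.mem_singleton] at hm
    have h1 := SmallGroups.card_sylow_ne_one hne (p := 3) (by rw [hG]; norm_num)
    rcases hm with h | h | h
    · exact absurd h h1
    · rw [h]; decide
    · rw [h]; decide
  obtain ⟨Q, R, hQR, hQRidx⟩ := SmallGroups.exists_small_index_inter 2 h34
  have hS := SmallGroups.card_sylow_eq hG3 (by norm_num)
  obtain ⟨d, hdQ, hdR, hd1⟩ : ∃ d ∈ (Q : Subgroup G), d ∈ (R : Subgroup G) ∧ d ≠ 1 := by
    by_contra hc
    push Not at hc
    have h1 : (R : Subgroup G).subgroupOf (Q : Subgroup G) = ⊥ :=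
      (eq_bot_iff_forall _).mpr fun x hx => Subtype.ext (hc x.1 x.2 hx)
    rw [h1, index_bot, hS Q] at hQRidx
    norm_num at hQRidx
  set C := centralizer ({d} : Set G) with hC
  have hle : ∀ S : Sylow 3 G, d ∈ (S : Subgroup G) → (S : Subgroup G) ≤ C := fun S hdS y hy =>
    mem_centralizer_singleton_iff.mpr (congrArg Subtype.val
      ((IsPGroup.isMulCommutative_of_card_eq_prime_sq (hS S)).is_comm.comm
        (⟨y, hy⟩ : (S : Subgroup G)) ⟨d, hdS⟩))
  obtain ⟨hmul, hn1, hn2, hn3⟩ := sylow_count_of_le hG3 (by norm_num) hQR (hle Q hdQ) (hle R hdR)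
  have heven : 2 ∣ (Q : Subgroup G).relIndex C := by
    have hr : (Q : Subgroup G).relIndex C ∈ Nat.divisors 68 := Nat.mem_divisors.mpr ⟨⟨_, hmul.symm⟩, by norm_num⟩
    rw [show Nat.divisors 68 = {1, 2, 4, 17, 34, 68} by decide] at hr
    simp only [Finset.mem_insert, Finset.mem_singleton] at hr
    rcases hr with h | h | h | h | h | h <;> rw [h] at hn1 ⊢ <;> try norm_num
    · exact hn3 (Nat.dvd_one.mp hn1)
    · rcases (Nat.dvd_prime (by norm_num)).mp hn1 with h' | h'
      · exact hn3 h'
      · rw [h'] at hn2; norm_num at hn2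
  obtain ⟨t, ht⟩ := exists_prime_orderOf_dvd_card' (G := C) 2
    (heven.trans ((Q : Subgroup G).relIndex_dvd_card C))
  have ht' : orderOf (t : G) = 2 := by rw [Subgroup.orderOf_coe]; exact ht
  have hdt : d ∈ centralizer ({(t : G)} : Set G) :=
    mem_centralizer_singleton_iff.mpr (mem_centralizer_singleton_iff.mp t.2).symm
  have h3 : 3 ∣ Nat.card (centralizer ({(t : G)} : Set G)) := by
    obtain ⟨k, hk, hdk⟩ := (Nat.dvd_prime_pow (by norm_num : Nat.Prime 3)).mp
      (hS Q ▸ orderOf_dvd_natCard _ hdQ)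
    refine (dvd_trans ?_ (orderOf_dvd_natCard _ hdt))
    rcases k with _ | k
    · exact absurd (orderOf_eq_one_iff.mp (by simpa using hdk)) hd1
    · rw [hdk]; exact dvd_pow_self 3 k.succ_ne_zero
  have h2 : 2 ∣ Nat.card (centralizer ({(t : G)} : Set G)) :=
    ht' ▸ orderOf_dvd_natCard _ (mem_centralizer_singleton_iff.mpr rfl)
  have h6 := Nat.le_of_dvd Nat.card_pos (Nat.Coprime.mul_dvd_of_dvd_of_dvd (by norm_num) h3 h2)
  have := key t ht'
  omega

/-- No simple group has order 756. -/
theorem card_ne_756 : Nat.card G ≠ 756 := by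
  intro hG
  have hne : ¬ IsMulCommutative G :=
    SmallGroups.not_comm_of_not_prime (by rw [hG]; norm_num)
  have : Fact (Nat.Prime 3) := ⟨by norm_num⟩
  have hG3 : Nat.card G = 3 ^ 3 * 28 := by rw [hG]; norm_num
  have h3d : 3 ∣ Nat.card G := by rw [hG]; norm_num
  have hlt : ∀ H : Subgroup G, H ≠ ⊤ → 8 < H.index := fun H hH =>
    SmallGroups.lt_index_of_not_dvd hne (by rw [hG]; decide) hH
  have hn28 : Nat.card (Sylow 3 G) = 28 := by
    have hm := SmallGroups.card_sylow_mem_list hG3 (by norm_num)
    rw [show (Nat.divisors 28).filter (fun d => d % 3 = 1) = {1, 4, 7, 28} by decide] at hm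
    simp only [Finset.mem_insert, Finset.mem_singleton] at hm
    have h1 := SmallGroups.card_sylow_ne_one hne h3d
    obtain ⟨P⟩ := (inferInstance : Nonempty (Sylow 3 G))
    have h8 := hlt _ (fun h => h1 (P.card_eq_index_normalizer.trans (index_eq_one.mpr h)))
    rw [← P.card_eq_index_normalizer] at h8
    omega
  obtain ⟨P⟩ := (inferInstance : Nonempty (Sylow 3 G))
  have hS := SmallGroups.card_sylow_eq hG3 (by norm_num)
  have hN : normalizer ((P : Subgroup G) : Set G) = (P : Subgroup G) :=
    (eq_of_le_of_card_ge le_normalizer (by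
      rw [SmallGroups.normalizer_conj_eq_card P hn28 (k := 27) (by rw [hG]), hS P]; norm_num)).symm
  -- a Sylow subgroup is a maximal subgroup
  have hmax : ∀ Q : Sylow 3 G, ∀ H : Subgroup G, H ≠ ⊤ → (Q : Subgroup G) ≤ H → H = Q := by
    intro Q H hH hQH
    have hmul := relIndex_mul_index hQH
    rw [SmallGroups.index_sylow_eq hG3 (by norm_num) Q] at hmul
    have h8 := hlt H hH
    have hr : (Q : Subgroup G).relIndex H ≤ 3 := by nlinarith
    have hd1 : Nat.card (Sylow 3 H) ∣ (Q : Subgroup G).relIndex H := by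
      have := (Q.subtype hQH).card_dvd_index
      rwa [Sylow.coe_subtype] at this
    have hd2 : Nat.card (Sylow 3 H) % 3 = 1 := card_sylow_modEq_one 3 H
    have hr3 : ¬ 3 ∣ (Q : Subgroup G).relIndex H := fun h => by
      have : 3 ∣ 28 := hmul ▸ h.mul_right _
      norm_num at this
    have hr0 : 0 < (Q : Subgroup G).relIndex H := Nat.pos_of_ne_zero fun h => by
      rw [h, zero_mul] at hmul; norm_num at hmul
    have hone : Nat.card (Sylow 3 H) = 1 := by
      have := Nat.le_of_dvd hr0 hd1
      omega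
    have hnorm : (H : Subgroup G) ≤ normalizer ((Q : Subgroup G) : Set G) := by
      have := SmallGroups.normal_of_card_sylow_eq_one hone (Q.subtype hQH)
      rw [Sylow.coe_subtype] at this
      exact (normal_subgroupOf_iff_le_normalizer hQH).mp this
    have hcard : Nat.card (normalizer ((Q : Subgroup G) : Set G)) = 27 :=
      SmallGroups.normalizer_conj_eq_card Q hn28 (by rw [hG])
    refine (eq_of_le_of_card_ge hQH ?_).symm
    rw [hS Q]
    exact (card_le_of_le hnorm).trans hcard.le
  -- a central element of order three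
  have hnt : Nontrivial (P : Subgroup G) := Finite.one_lt_card_iff_nontrivial.mp (by rw [hS P]; norm_num)
  have hZnt := P.2.center_nontrivial
  obtain ⟨z₀, hz₀⟩ := exists_prime_orderOf_dvd_card' (G := center (P : Subgroup G)) 3 (by
    obtain ⟨k, hk⟩ := IsPGroup.iff_card.mp (P.2.to_subgroup (center (P : Subgroup G)))
    have h1 : 1 < Nat.card (center (P : Subgroup G)) := Finite.one_lt_card
    rw [hk] at h1 ⊢
    exact dvd_pow_self 3 (fun h => by rw [h] at h1; norm_num at h1))
  set z : G := ((z₀ : (P : Subgroup G)) : G) with hz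
  have hzo : orderOf z = 3 := by rw [hz, Subgroup.orderOf_coe, Subgroup.orderOf_coe, hz₀]
  have hzP : z ∈ (P : Subgroup G) := (z₀ : (P : Subgroup G)).2
  have hz1 : z ≠ 1 := fun h => by rw [h, orderOf_one] at hzo; norm_num at hzo
  have hzc : ∀ y ∈ (P : Subgroup G), y * z = z * y := fun y hy =>
    congrArg Subtype.val (mem_center_iff.mp z₀.2 ⟨y, hy⟩)
  let Z : Subgroup G := zpowers z
  have hZP : Z ≤ (P : Subgroup G) := zpowers_le.mpr hzP
  have hZ : Z ≤ centralizer ((P : Subgroup G) : Set G) :=
    zpowers_le.mpr (mem_centralizer_iff.mpr hzc)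
  have hW : Cfsg.IsWeaklyClosed Z (P : Subgroup G) := by
    refine ⟨hZP, fun g hg => ?_⟩
    set z' := g * z * g⁻¹ with hz'
    have hz'P : z' ∈ (P : Subgroup G) := hg ⟨z, mem_zpowers z, rfl⟩
    have hz'1 : z' ≠ 1 := fun h => hz1 (conj_eq_one_iff.mp h)
    have hmap : Z.map (MulAut.conj g).toMonoidHom = zpowers z' := MonoidHom.map_zpowers _ _
    rw [hmap]
    let Q : Sylow 3 G := g • P
    have hQ : centralizer ({z'} : Set G) = (Q : Subgroup G) := by
      refine hmax Q _ (centralizer_ne_top hne hz'1) ?_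
      intro y hy
      obtain ⟨x, hx, rfl⟩ : ∃ x ∈ (P : Subgroup G), g * x * g⁻¹ = y := by
        rw [show (Q : Subgroup G) = (P : Subgroup G).map (MulAut.conj g).toMonoidHom from rfl] at hy
        obtain ⟨x, hx, hxy⟩ := hy
        exact ⟨x, hx, hxy⟩
      refine mem_centralizer_singleton_iff.mpr ?_
      rw [hz']
      calc g * x * g⁻¹ * (g * z * g⁻¹) = g * (x * z) * g⁻¹ := by group
        _ = g * z * g⁻¹ * (g * x * g⁻¹) := by rw [hzc x hx]; group
    by_cases hmem : z' ∈ Z
    · refine eq_of_le_of_card_ge (zpowers_le.mpr hmem) (le_of_eq ?_)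
      rw [Nat.card_zpowers, Nat.card_zpowers, hz', show g * z * g⁻¹ = MulAut.conj g z from rfl,
        MulEquiv.orderOf_eq]
    exfalso
    set A := (P : Subgroup G) ⊓ (Q : Subgroup G) with hA
    have hzQ : z ∈ (Q : Subgroup G) := by
      rw [← hQ, mem_centralizer_singleton_iff]; exact (hzc z' hz'P).symm
    have hz'Q : z' ∈ (Q : Subgroup G) := by
      rw [← hQ, mem_centralizer_singleton_iff]
    have hlt' : Z < A := lt_of_le_of_ne (zpowers_le.mpr ⟨hzP, hzQ⟩) fun h => hmem (by
      rw [h]; exact ⟨hz'P, hz'Q⟩)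
    have hcA : 9 ≤ Nat.card A := by
      have hZ3 : Nat.card Z = 3 := by rw [Nat.card_zpowers, hzo]
      have hAdvd : Nat.card A ∣ 3 ^ 3 := hS P ▸ card_dvd_of_le inf_le_left
      obtain ⟨i, hi, hAi⟩ := (Nat.dvd_prime_pow (by norm_num : Nat.Prime 3)).mp hAdvd
      have h3 : 3 < Nat.card A := by
        by_contra hc
        exact hlt'.ne (eq_of_le_of_card_ge hlt'.le (by rw [hZ3]; omega))
      rw [hAi] at h3 ⊢
      interval_cases i <;> simp_all
    have hnorm : ∀ S : Sylow 3 G, A ≤ (S : Subgroup G) → (S : Subgroup G) ≤ normalizer (A : Set G) := by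
      intro S hAS
      have hidx := (A.subgroupOf (S : Subgroup G)).card_mul_index
      rw [Nat.card_congr (subgroupOfEquivOfLe hAS).toEquiv, hS S] at hidx
      by_cases hAeq : A = (S : Subgroup G)
      · exact hAeq ▸ le_normalizer
      refine (normal_subgroupOf_iff_le_normalizer hAS).mp (normal_of_index_eq_minFac_card ?_)
      rw [hS S, Nat.pow_minFac (by norm_num : (3 : ℕ) ≠ 0), Nat.Prime.minFac_eq (by norm_num)]
      have h27 : Nat.card A < 27 := by
        refine lt_of_le_of_ne ((card_le_of_le hAS).trans (hS S).le) fun h => hAeq ?_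
        exact eq_of_le_of_card_ge hAS (by rw [hS S, h]; norm_num)
      obtain ⟨i, hi, hAi⟩ := (Nat.dvd_prime_pow (by norm_num : Nat.Prime 3)).mp
        (hS S ▸ card_dvd_of_le hAS)
      rw [hAi] at hcA h27 hidx
      interval_cases i <;> first | omega | (norm_num at hcA h27 hidx ⊢ <;> omega) | simp_all
    have hNA : normalizer (A : Set G) ≠ ⊤ := normalizer_ne_top hne (fun h => by
      rw [h, card_bot] at hcA; norm_num at hcA) (P.2.to_le inf_le_left)
    have h1 := hmax P _ hNA (hnorm P inf_le_left)
    have h2 := hmax Q _ hNA (hnorm Q inf_le_right)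
    have hPQ : (Q : Subgroup G) = P := h2.symm.trans h1
    have hgP : g ∈ (P : Subgroup G) := by
      rw [← hN]
      exact Sylow.smul_eq_iff_mem_normalizer.mp (Sylow.ext hPQ : g • P = P)
    apply hmem
    rw [hz', hzc g hgP, mul_inv_cancel_right]
    exact mem_zpowers z
  have hNZ : normalizer (Z : Set G) = (P : Subgroup G) := by
    refine hmax P _ (normalizer_ne_top hne (fun h => hz1 (zpowers_eq_bot.mp h)) (P.2.to_le hZP)) ?_
    exact (le_centralizer_iff.mp hZ).trans (centralizer_le_normalizer _)
  have hgrun := Transfer.commutator_inf_eq_of_weaklyClosed P hZ hW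
  have htop : commutator G = ⊤ :=
    (inferInstance : (commutator G).Normal).eq_bot_or_eq_top.resolve_left fun h =>
      hne (isMulCommutative_iff.mpr fun a b => by
        have hab := commutator_mem_commutator (mem_top a) (mem_top b)
        rw [← _root_.commutator_def, h, mem_bot] at hab
        exact commutatorElement_eq_one_iff_mul_comm.mp hab)
  rw [htop, top_inf_eq, hNZ] at hgrun
  have hle : (P : Subgroup G) ≤ ⁅(P : Subgroup G), (P : Subgroup G)⁆ := hgrun.le.trans inf_le_left
  have : Group.IsNilpotent (P : Subgroup G) := P.2.isNilpotent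
  have := Transfer.eq_bot_of_le_commutator le_rfl hle
  rw [this, mem_bot] at hzP
  exact hz1 hzP

/-- No simple group has order 1080. -/
theorem card_ne_1080 : Nat.card G ≠ 1080 := by
  intro hG
  have hne : ¬ IsMulCommutative G :=
    SmallGroups.not_comm_of_not_prime (by rw [hG]; norm_num)
  have : Fact (Nat.Prime 3) := ⟨by norm_num⟩
  have : Fact (Nat.Prime 5) := ⟨by norm_num⟩
  have hG3 : Nat.card G = 3 ^ 3 * 40 := by rw [hG]; norm_num
  have hlt : ∀ H : Subgroup G, H ≠ ⊤ → 8 < H.index := fun H hH =>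
    SmallGroups.lt_index_of_not_dvd hne (by rw [hG]; decide) hH
  obtain ⟨M, hM⟩ : ∃ M : Subgroup G, M.index = 10 := by
    have hm := SmallGroups.card_sylow_mem_list hG3 (by norm_num)
    rw [show (Nat.divisors 40).filter (fun d => d % 3 = 1) = {1, 4, 10, 40} by decide] at hm
    simp only [Finset.mem_insert, Finset.mem_singleton] at hm
    have h1 := SmallGroups.card_sylow_ne_one hne (p := 3) (by rw [hG]; norm_num)
    obtain ⟨P⟩ := (inferInstance : Nonempty (Sylow 3 G))
    have h8 := hlt _ (fun h => h1 (P.card_eq_index_normalizer.trans (index_eq_one.mpr h)))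
    rcases hm with h | h | h | h
    · exact absurd h h1
    · rw [← P.card_eq_index_normalizer, h] at h8; norm_num at h8
    · exact ⟨_, P.card_eq_index_normalizer.symm.trans h⟩
    obtain ⟨Q, R, hQR, hidx⟩ := SmallGroups.exists_small_index_inter (G := G) (p := 3) 2
      (by rw [h]; decide)
    have hS := SmallGroups.card_sylow_eq hG3 (by norm_num)
    set D := (R : Subgroup G) ⊓ (Q : Subgroup G) with hD
    have hcardD : Nat.card D * ((R : Subgroup G).subgroupOf (Q : Subgroup G)).index = 27 := by
      have h := ((R : Subgroup G).subgroupOf (Q : Subgroup G)).card_mul_index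
      rw [hS Q, ← inf_subgroupOf_right,
        Nat.card_congr (subgroupOfEquivOfLe (inf_le_right : D ≤ (Q : Subgroup G))).toEquiv] at h
      rw [← inf_subgroupOf_right]
      exact h
    have hD9 : Nat.card D = 9 := by
      obtain ⟨i, hi⟩ := Q.2.index ((R : Subgroup G).subgroupOf (Q : Subgroup G))
      rw [hi] at hidx hcardD
      rcases i with _ | _ | i
      · exfalso
        have hle : (Q : Subgroup G) ≤ R :=
          subgroupOf_eq_top.mp (index_eq_one.mp (by rw [hi, pow_zero]))
        exact hQR (Q.ext (eq_of_le_of_card_ge hle (by rw [hS Q, hS R])))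
      · norm_num at hcardD; omega
      · exfalso
        have h3 : 3 ^ 1 < 3 ^ (i + 1 + 1) := Nat.pow_lt_pow_right (by norm_num) (by omega)
        norm_num at hidx h3
        omega
    have hnorm : ∀ S : Sylow 3 G, D ≤ (S : Subgroup G) → (S : Subgroup G) ≤ normalizer (D : Set G) := by
      intro S hDS
      refine (normal_subgroupOf_iff_le_normalizer hDS).mp (normal_of_index_eq_minFac_card ?_)
      have h := (D.subgroupOf (S : Subgroup G)).card_mul_index
      rw [Nat.card_congr (subgroupOfEquivOfLe hDS).toEquiv, hS S, hD9] at h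
      rw [hS S, Nat.pow_minFac (by norm_num : (3 : ℕ) ≠ 0), Nat.Prime.minFac_eq (by norm_num)]
      omega
    refine ⟨normalizer (D : Set G), ?_⟩
    have hNtop := normalizer_ne_top hne (D := D) (fun hb => by rw [hb, card_bot] at hD9; norm_num at hD9)
      (Q.2.to_le inf_le_right)
    obtain ⟨hmul, hn1, hn2, hn3⟩ := sylow_count_of_le hG3 (by norm_num) hQR
      (hnorm Q inf_le_right) (hnorm R inf_le_left)
    have h9 := hlt _ hNtop
    have hr : (Q : Subgroup G).relIndex (normalizer (D : Set G)) ≤ 4 := by nlinarith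
    have hr0 : 0 < (Q : Subgroup G).relIndex (normalizer (D : Set G)) :=
      Nat.pos_of_ne_zero fun h => by rw [h, zero_mul] at hmul; norm_num at hmul
    have hn4 : Nat.card (Sylow 3 (normalizer (D : Set G))) ≤ 4 := (Nat.le_of_dvd hr0 hn1).trans hr
    have h4 : (Q : Subgroup G).relIndex (normalizer (D : Set G)) = 4 := by
      have : Nat.card (Sylow 3 (normalizer (D : Set G))) = 4 := by omega
      have := Nat.le_of_dvd hr0 hn1
      omega
    rw [h4] at hmul
    omega
  have hMtop : M ≠ ⊤ := fun h => by rw [h, index_top] at hM; norm_num at hM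
  have hMc : Nat.card M = 108 := by
    have := M.card_mul_index
    rw [hM, hG] at this
    omega
  -- an element of order three commuting with one of order five
  have hG5 : Nat.card G = 5 ^ 1 * 216 := by rw [hG]; norm_num
  have h36 : Nat.card (Sylow 5 G) = 36 := by
    have hm := SmallGroups.card_sylow_mem_list hG5 (by norm_num)
    rw [show (Nat.divisors 216).filter (fun d => d % 5 = 1) = {1, 6, 36, 216} by decide] at hm
    simp only [Finset.mem_insert, Finset.mem_singleton] at hm
    have h1 := SmallGroups.card_sylow_ne_one hne (p := 5) (by rw [hG]; norm_num)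
    have h2 := SmallGroups.two_mul_card_dvd_sylow hne (p := 5) (by rw [hG]; norm_num)
    rcases hm with h | h | h | h
    · exact absurd h h1
    · rw [h, hG] at h2; exact absurd h2 (by decide)
    · exact h
    · exfalso
      obtain ⟨P⟩ := (inferInstance : Nonempty (Sylow 5 G))
      have hN := SmallGroups.normalizer_conj_eq_card P h (k := 5) (by rw [hG])
      exact SmallGroups.not_coprime_normalizer hne P
        (by simpa using SmallGroups.card_sylow_eq hG5 (by norm_num) P) (by rw [hN]; norm_num)
  obtain ⟨P⟩ := (inferInstance : Nonempty (Sylow 5 G))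
  have hP : Nat.card ↥(P : Subgroup G) = 5 := by
    simpa using SmallGroups.card_sylow_eq hG5 (by norm_num) P
  have hN := SmallGroups.normalizer_conj_eq_card P h36 (k := 30) (by rw [hG])
  set C := centralizer ((P : Subgroup G) : Set G) with hC
  have hC15 : 3 ∣ Nat.card C := by
    have hk : C.relIndex (normalizer ((P : Subgroup G) : Set G)) ∣ Nat.gcd 30 4 :=
      Nat.dvd_gcd (hN ▸ SmallGroups.relIndex_dvd_normalizer P)
        (SmallGroups.relIndex_centralizer_dvd_of_prime _ hP)
    have h := (C.subgroupOf (normalizer ((P : Subgroup G) : Set G))).card_mul_index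
    rw [Nat.card_congr (subgroupOfEquivOfLe (centralizer_le_normalizer _)).toEquiv, hN] at h
    have hle := Nat.le_of_dvd (by norm_num) hk
    norm_num at hk hle
    have h3 : 3 ∣ Nat.card C * C.relIndex (normalizer ((P : Subgroup G) : Set G)) :=
      ⟨10, by rw [show Nat.card C * C.relIndex _ = 30 from h]⟩
    refine ((by norm_num : Nat.Prime 3).dvd_mul.mp h3).resolve_right fun h' => ?_
    have := h'.trans hk
    norm_num at this
  obtain ⟨y, hy⟩ := exists_prime_orderOf_dvd_card' (G := C) 3 hC15
  obtain ⟨x, hx⟩ := exists_prime_orderOf_dvd_card' (G := (P : Subgroup G)) 5 (by rw [hP])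
  have hy3 : (y : G) ^ 3 = 1 := by rw [← hy, ← Subgroup.orderOf_coe, pow_orderOf_eq_one]
  have hy1 : (y : G) ≠ 1 := fun h => by
    rw [← Subgroup.orderOf_coe, h, orderOf_one] at hy; norm_num at hy
  have hx5 : (x : G) ^ 5 = 1 := orderOf_dvd_iff_pow_eq_one.mp ((Subgroup.orderOf_coe x).trans hx).dvd
  have h5 : 5 ∣ Nat.card {a : G ⧸ M // (y : G) • a ≠ a} := by
    refine dvd_card_moved_of_commute (mem_centralizer_iff.mp y.2 x x.2) hx5 fun a _ hxa => ?_
    induction a using QuotientGroup.induction_on with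
    | _ g =>
      have h := (SmallGroups.mk_mem_fixedBy_iff M x g).mp hxa
      have h5 := orderOf_dvd_natCard _ h
      rw [hMc, show g⁻¹ * (x : G) * g = MulAut.conj g⁻¹ (x : G) by simp, MulEquiv.orderOf_eq,
        Subgroup.orderOf_coe, hx] at h5
      norm_num at h5
  have h15 := Nat.le_of_dvd (card_moved_pos M hMtop hy1)
    (Nat.Coprime.mul_dvd_of_dvd_of_dvd (by norm_num) (dvd_card_moved hy3) h5)
  have hsum := card_moved_add_fixed (α := G ⧸ M) (y : G)
  rw [← index_eq_card, hM] at hsum
  omega

/-- No simple group has order 1008. -/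
theorem card_ne_1008 : Nat.card G ≠ 1008 := by
  intro hG
  have hne : ¬ IsMulCommutative G :=
    SmallGroups.not_comm_of_not_prime (by rw [hG]; norm_num)
  have : Fact (Nat.Prime 7) := ⟨by norm_num⟩
  have : Fact (Nat.Prime 2) := ⟨Nat.prime_two⟩
  have : Fact (Nat.Prime 3) := ⟨by norm_num⟩
  have hG7 : Nat.card G = 7 ^ 1 * 144 := by rw [hG]; norm_num
  have h7d : 7 ∣ Nat.card G := by rw [hG]; norm_num
  have hS : ∀ P : Sylow 7 G, Nat.card ↥(P : Subgroup G) = 7 := fun P => by
    simpa using SmallGroups.card_sylow_eq hG7 (by norm_num) P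
  obtain ⟨P⟩ := (inferInstance : Nonempty (Sylow 7 G))
  set N := normalizer ((P : Subgroup G) : Set G) with hNdef
  set C := centralizer ((P : Subgroup G) : Set G) with hCdef
  have hCN : Nat.card C * C.relIndex N = Nat.card N := by
    have h := (C.subgroupOf N).card_mul_index
    rwa [Nat.card_congr (subgroupOfEquivOfLe (centralizer_le_normalizer _)).toEquiv] at h
  have he : C.relIndex N ∣ 6 := SmallGroups.relIndex_centralizer_dvd_of_prime _ (hS P)
  have he0 : C.relIndex N ≠ 1 := fun h =>
    SmallGroups.not_normalizer_le_centralizer hne h7d P (relIndex_eq_one.mp h)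
  have h36 : Nat.card (Sylow 7 G) = 36 := by
    have hm := SmallGroups.card_sylow_mem_list hG7 (by norm_num)
    rw [show (Nat.divisors 144).filter (fun d => d % 7 = 1) = {1, 8, 36} by decide] at hm
    simp only [Finset.mem_insert, Finset.mem_singleton] at hm
    rcases hm with h | h | h
    · exact absurd h (SmallGroups.card_sylow_ne_one hne h7d)
    · exfalso
      have hN : Nat.card N = 126 := SmallGroups.normalizer_conj_eq_card P h (by rw [hG])
      have h3 : 3 ∣ Nat.card C := by
        have h9 : 3 ^ 2 ∣ Nat.card C * C.relIndex N := ⟨14, by rw [hCN, hN]; norm_num⟩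
        by_contra h3
        have := ((Nat.prime_three.coprime_iff_not_dvd.mpr h3).pow_left 2).dvd_of_dvd_mul_left h9
        have := this.trans he
        norm_num at this
      obtain ⟨y, hy⟩ := exists_prime_orderOf_dvd_card' (G := C) 3 h3
      have := movedBlock_mul_le hne (p := 7) (r := 3) (by norm_num) h7d P (hS P) y.2
        (by rw [Subgroup.orderOf_coe]; exact hy)
      rw [h] at this
      norm_num [movedBlock] at this
    · exact h
  have hN : Nat.card N = 28 := SmallGroups.normalizer_conj_eq_card P h36 (by rw [hG])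
  have h2C : 2 ∣ Nat.card C := by
    have h4 : 2 ^ 2 ∣ Nat.card C * C.relIndex N := ⟨7, by rw [hCN, hN]; norm_num⟩
    by_contra h2
    have := ((Nat.prime_two.coprime_iff_not_dvd.mpr h2).pow_left 2).dvd_of_dvd_mul_left h4
    have := this.trans he
    norm_num at this
  obtain ⟨t₀, ht₀⟩ := exists_prime_orderOf_dvd_card' (G := C) 2 h2C
  obtain ⟨t, htC, ht2, ht1⟩ : ∃ t : G, t ∈ C ∧ t ^ 2 = 1 ∧ t ≠ 1 := ⟨t₀, t₀.2,
    by rw [← ht₀, ← Subgroup.orderOf_coe, pow_orderOf_eq_one],
    fun h => by rw [← Subgroup.orderOf_coe, h, orderOf_one] at ht₀; norm_num at ht₀⟩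
  -- `t` fixes eight Sylow subgroups
  have h4 : 4 ∣ Nat.card {R : Sylow 7 G // t • R ≠ R} := by
    have h := SmallGroups.four_dvd_moved hne (α := Sylow 7 G) ht2
    rwa [← card_moved_add_fixed t, Nat.add_sub_cancel_right] at h
  have h28 := Nat.le_of_dvd (card_moved_sylow_pos hne h7d ht1)
    (Nat.Coprime.mul_dvd_of_dvd_of_dvd (by norm_num) h4 (dvd_card_moved_sylow P (hS P) htC))
  obtain ⟨j, hj⟩ : 4 * 7 ∣ Nat.card {R : Sylow 7 G // t • R ≠ R} :=
    Nat.Coprime.mul_dvd_of_dvd_of_dvd (by norm_num) h4 (dvd_card_moved_sylow P (hS P) htC)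
  have hsum := card_moved_add_fixed (α := Sylow 7 G) t
  rw [h36] at hsum
  have hfix : Nat.card (MulAction.fixedBy (Sylow 7 G) t) = 8 := by omega
  set M := centralizer ({t} : Set G) with hMdef
  have hcen : ∀ R : Sylow 7 G, R ∈ MulAction.fixedBy (Sylow 7 G) t → (R : Subgroup G) ≤ M := by
    intro R hR
    by_cases h : t ∈ centralizer ((R : Subgroup G) : Set G)
    · exact fun y hy => mem_centralizer_singleton_iff.mpr (mem_centralizer_iff.mp h y hy)
    · exfalso
      have := card_fixedBy_sylow_le R (hS R) (Sylow.smul_eq_iff_mem_normalizer.mp hR) h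
      rw [hfix, h36] at this
      norm_num at this
  have hn8 : 8 ≤ Nat.card (Sylow 7 M) := by
    rw [← hfix]
    refine Nat.card_le_card_of_injective
      (fun R : MulAction.fixedBy (Sylow 7 G) t => (R.1.subtype (hcen R.1 R.2) : Sylow 7 M))
      fun R R' h => Subtype.ext (Sylow.subtype_injective h)
  have hPM : (P : Subgroup G) ≤ M :=
    hcen P (Sylow.smul_eq_iff_mem_normalizer.mpr (centralizer_le_normalizer _ htC))
  have hmul : (P : Subgroup G).relIndex M * M.index = 144 := by
    rw [relIndex_mul_index hPM]; exact SmallGroups.index_sylow_eq hG7 (by norm_num) P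
  have hMtop : M ≠ ⊤ := centralizer_ne_top hne ht1
  have hlt : 7 < M.index := SmallGroups.lt_index_of_not_dvd hne (by rw [hG]; decide) hMtop
  -- the normaliser of `P` in `M` is of even index over `P`
  let PM : Sylow 7 M := P.subtype hPM
  have hidxP : ((PM : Subgroup M)).index = (P : Subgroup G).relIndex M := by
    show (PM : Subgroup M).index = ((P : Subgroup G).subgroupOf M).index
    rw [Sylow.coe_subtype]
  have hPle : (PM : Subgroup M) ≤ normalizer ((PM : Subgroup M) : Set M) := le_normalizer
  have hsplit := relIndex_mul_index hPle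
  rw [hidxP] at hsplit
  have hidxN : (normalizer ((PM : Subgroup M) : Set M)).index = Nat.card (Sylow 7 M) :=
    PM.card_eq_index_normalizer.symm
  rw [hidxN] at hsplit
  have h2 : 2 ∣ (PM : Subgroup M).relIndex (normalizer ((PM : Subgroup M) : Set M)) := by
    have h := (PM : Subgroup M).subgroupOf (normalizer ((PM : Subgroup M) : Set M)) |>.card_mul_index
    rw [Nat.card_congr (subgroupOfEquivOfLe hPle).toEquiv] at h
    have htM : t ∈ M := mem_centralizer_singleton_iff.mpr rfl
    have htN : (⟨t, htM⟩ : M) ∈ normalizer ((PM : Subgroup M) : Set M) := by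
      refine centralizer_le_normalizer _ (mem_centralizer_iff.mpr fun y hy => ?_)
      rw [SetLike.mem_coe, Sylow.coe_subtype, mem_subgroupOf] at hy
      exact Subtype.ext (mem_centralizer_iff.mp htC y hy)
    have ht : orderOf (⟨t, htM⟩ : M) = 2 := by
      rw [Subgroup.orderOf_mk]; exact orderOf_eq_prime ht2 ht1
    have h2' : 2 ∣ Nat.card (PM : Subgroup M) *
        ((PM : Subgroup M).subgroupOf (normalizer ((PM : Subgroup M) : Set M))).index :=
      h.symm ▸ ht ▸ orderOf_dvd_natCard _ htN
    refine ((Nat.prime_two.dvd_mul).mp h2').resolve_left fun h' => ?_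
    rw [Sylow.coe_subtype, Nat.card_congr (subgroupOfEquivOfLe hPM).toEquiv, hS P] at h'
    norm_num at h'
  have hM9 : M.index = 9 := by
    have hd : Nat.card (Sylow 7 M) ∣ (P : Subgroup G).relIndex M := ⟨_, by rw [← hsplit]; ring⟩
    have hrel : 2 * Nat.card (Sylow 7 M) ∣ (P : Subgroup G).relIndex M :=
      hsplit ▸ Nat.mul_dvd_mul_right h2 _
    have hr0 : 0 < (P : Subgroup G).relIndex M := Nat.pos_of_ne_zero fun h => by
      rw [h, zero_mul] at hmul; norm_num at hmul
    have h16 : 16 ≤ (P : Subgroup G).relIndex M :=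
      le_trans (by omega) (Nat.le_of_dvd hr0 hrel)
    have h9 : M.index ≤ 9 := by nlinarith
    have hd144 : M.index ∣ 144 := ⟨_, by rw [← hmul]; ring⟩
    interval_cases hi : M.index
    · exfalso
      have : (P : Subgroup G).relIndex M = 18 := by omega
      rw [this] at hrel
      have hle := Nat.le_of_dvd (by norm_num) hrel
      have h7' : Nat.card (Sylow 7 M) % 7 = 1 := card_sylow_modEq_one 7 M
      have : Nat.card (Sylow 7 M) = 8 := by omega
      rw [this] at hrel
      norm_num at hrel
    · rfl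
  -- the action on the nine cosets of `M`
  obtain ⟨x, hx⟩ := exists_prime_orderOf_dvd_card' (G := (P : Subgroup G)) 7 (by rw [hS P])
  have hx7 : (x : G) ^ 7 = 1 := orderOf_dvd_iff_pow_eq_one.mp ((Subgroup.orderOf_coe x).trans hx).dvd
  have hx1 : (x : G) ≠ 1 := fun h => by
    rw [← Subgroup.orderOf_coe, h, orderOf_one] at hx; norm_num at hx
  have hxb : (x : G) • ((1 : G) : G ⧸ M) = ((1 : G) : G ⧸ M) :=
    (SmallGroups.mk_mem_fixedBy_iff M _ 1).mpr (by simpa using hPM x.2)
  have htb : t • ((1 : G) : G ⧸ M) = ((1 : G) : G ⧸ M) :=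
    (SmallGroups.mk_mem_fixedBy_iff M _ 1).mpr (by
      simp only [inv_one, one_mul, mul_one]; exact mem_centralizer_singleton_iff.mpr rfl)
  have hxfix : Nat.card (MulAction.fixedBy (G ⧸ M) (x : G)) ≤ 2 := by
    have h1 := card_moved_add_fixed (α := G ⧸ M) (x : G)
    have h2' := Nat.le_of_dvd (card_moved_pos M hMtop hx1) (dvd_card_moved hx7)
    rw [← index_eq_card, hM9] at h1
    omega
  have h7 : 7 ∣ Nat.card {a : G ⧸ M // t • a ≠ a} := by
    refine dvd_card_moved_of_commute (mem_centralizer_iff.mp htC x x.2) hx7 fun a hta hxa => ?_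
    -- otherwise three fixed points of `x`
    have hne1 : a ≠ ((1 : G) : G ⧸ M) := fun h => hta (by rw [h]; exact htb)
    have hne2 : t • a ≠ ((1 : G) : G ⧸ M) := fun h => hne1 (by
      rw [← htb] at h
      exact smul_left_cancel t h)
    have hxta : (x : G) • (t • a) = t • a := by
      rw [← mul_smul, mem_centralizer_iff.mp htC x x.2, mul_smul, hxa]
    have h3 : 3 ≤ Nat.card (MulAction.fixedBy (G ⧸ M) (x : G)) := by
      classical
      rw [Nat.card_coe_set_eq]
      have hsub : ({a, t • a, ((1 : G) : G ⧸ M)} : Set (G ⧸ M)) ⊆ MulAction.fixedBy (G ⧸ M) (x : G) := by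
        rintro b (rfl | rfl | rfl) <;> assumption
      refine le_of_eq_of_le ?_ (Set.ncard_le_ncard hsub)
      rw [Set.ncard_eq_three.mpr ⟨a, t • a, _, Ne.symm hta, hne1, hne2, rfl⟩]
    omega
  have h28' := Nat.le_of_dvd (card_moved_pos M hMtop ht1)
    (Nat.Coprime.mul_dvd_of_dvd_of_dvd (by norm_num) (four_dvd_card_moved hne M ht2) h7)
  have hsum' := card_moved_add_fixed (α := G ⧸ M) t
  rw [← index_eq_card, hM9] at hsum'
  omega

end Cfsg.Agent.Classification
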