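import Mathlib.RingTheory.ZMod.UnitsCyclic
import Cfsg.Agent.Classification.SimpleOrderExceptions

set_option autoImplicit false

/-!
# No simple group has order 1040

An involution inverting an element of order thirteen fixes no coset of a subgroup of order eight in
the normaliser of a Sylow 5-subgroup, and so would be an odd permutation.
-/

namespace Cfsg.Agent.Classification

open Subgroup

variable {G : Type*} [Group G] [Finite G] [IsSimpleGroup G]

/-- An involution of a simple group of order 1040 centralises at most one Sylow 5-subgroup. -/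
theorem sylow_five_eq_of_commute_1040 (hG : Nat.card G = 1040) [Fact (Nat.Prime 5)]
    (h26 : Nat.card (Sylow 5 G) = 26) {P P' : Sylow 5 G} {z : G} (hz : orderOf z = 2)
    (hzP : z ∈ centralizer ((P : Subgroup G) : Set G))
    (hzP' : z ∈ centralizer ((P' : Subgroup G) : Set G)) : P = P' := by
  by_contra hPP
  have hne : ¬ IsMulCommutative G :=
    SmallGroups.not_comm_of_not_prime (by rw [hG]; norm_num)
  have hG5 : Nat.card G = 5 ^ 1 * 208 := by rw [hG]; norm_num
  have h5d : 5 ∣ Nat.card G := by rw [hG]; norm_num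
  have hS : ∀ R : Sylow 5 G, Nat.card ↥(R : Subgroup G) = 5 := fun R => by
    simpa using SmallGroups.card_sylow_eq hG5 (by norm_num) R
  have hz2 : z ^ 2 = 1 := hz ▸ pow_orderOf_eq_one z
  have hz1 : z ≠ 1 := fun h => by rw [h, orderOf_one] at hz; norm_num at hz
  have h4 : 4 ∣ Nat.card {R : Sylow 5 G // z • R ≠ R} := by
    have h := SmallGroups.four_dvd_moved hne (α := Sylow 5 G) hz2
    rwa [← card_moved_add_fixed z, Nat.add_sub_cancel_right] at h
  obtain ⟨j, hj⟩ : 4 * 5 ∣ Nat.card {R : Sylow 5 G // z • R ≠ R} :=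
    Nat.Coprime.mul_dvd_of_dvd_of_dvd (by norm_num) h4 (dvd_card_moved_sylow P (hS P) hzP)
  have hpos := card_moved_sylow_pos hne h5d hz1
  have hsum := card_moved_add_fixed (α := Sylow 5 G) z
  rw [h26] at hsum
  have hfix : Nat.card (MulAction.fixedBy (Sylow 5 G) z) = 6 := by omega
  set C := centralizer ({z} : Set G) with hC
  have hle : ∀ R : Sylow 5 G, z ∈ centralizer ((R : Subgroup G) : Set G) → (R : Subgroup G) ≤ C :=
    fun R hR y hy => mem_centralizer_singleton_iff.mpr (mem_centralizer_iff.mp hR y hy)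
  obtain ⟨hmul, hn1, hn2, hn3⟩ := sylow_count_of_le hG5 (by norm_num) hPP (hle P hzP) (hle P' hzP')
  have hn16 : 16 ≤ Nat.card (Sylow 5 C) := by
    have hm : Nat.card (Sylow 5 C) ∈ (Nat.divisors 208).filter (fun d => d % 5 = 1) :=
      Finset.mem_filter.mpr ⟨Nat.mem_divisors.mpr ⟨hn1.trans ⟨_, hmul.symm⟩, by norm_num⟩, hn2⟩
    rw [show (Nat.divisors 208).filter (fun d => d % 5 = 1) = {1, 16, 26} by decide] at hm
    simp only [Finset.mem_insert, Finset.mem_singleton] at hm
    omega
  have hinj : Nat.card (Sylow 5 C) ≤ Nat.card (MulAction.fixedBy (Sylow 5 G) z) := by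
    have hmap : ∀ R : Sylow 5 C, ∃ Q : MulAction.fixedBy (Sylow 5 G) z,
        (R : Subgroup C).map C.subtype = (Q.1 : Subgroup G) := by
      intro R
      have hp : IsPGroup 5 ((R : Subgroup C).map C.subtype) := R.2.map _
      obtain ⟨Q, hQ⟩ := hp.exists_le_sylow
      have heq : (R : Subgroup C).map C.subtype = (Q : Subgroup G) := by
        refine eq_of_le_of_card_ge hQ ?_
        rw [hS Q, card_map_of_injective (subtype_injective C)]
        have h5 : 5 ∣ Nat.card ↥(R : Subgroup C) :=
          R.dvd_card_of_dvd_card (((hS P) ▸ card_dvd_of_le (hle P hzP)))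
        exact Nat.le_of_dvd Nat.card_pos h5
      refine ⟨⟨Q, Sylow.smul_eq_iff_mem_normalizer.mpr (centralizer_le_normalizer _ ?_)⟩, heq⟩
      rw [mem_centralizer_iff]
      intro y hy
      replace hy : y ∈ (R : Subgroup C).map C.subtype := by rw [heq]; exact hy
      obtain ⟨w, -, rfl⟩ := hy
      exact mem_centralizer_singleton_iff.mp w.2
    choose f hf using hmap
    refine Nat.card_le_card_of_injective f fun R R' h => Sylow.ext ?_
    exact map_injective (subtype_injective C) ((hf R).trans (h ▸ (hf R').symm))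
  omega

/-- No simple group has order 1040. -/
theorem card_ne_1040 : Nat.card G ≠ 1040 := by
  intro hG
  have hne : ¬ IsMulCommutative G :=
    SmallGroups.not_comm_of_not_prime (by rw [hG]; norm_num)
  have : Fact (Nat.Prime 13) := ⟨by norm_num⟩
  have : Fact (Nat.Prime 5) := ⟨by norm_num⟩
  have : Fact (Nat.Prime 2) := ⟨Nat.prime_two⟩
  -- an involution with centralizer of order at most eight
  obtain ⟨u, hu2, hu8⟩ : ∃ u : G, orderOf u = 2 ∧ Nat.card (centralizer ({u} : Set G)) ≤ 8 := by
    have hG13 : Nat.card G = 13 ^ 1 * 80 := by rw [hG]; norm_num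
    have h13d : 13 ∣ Nat.card G := by rw [hG]; norm_num
    have h40 : Nat.card (Sylow 13 G) = 40 := by
      have hm := SmallGroups.card_sylow_mem_list hG13 (by norm_num)
      rw [show (Nat.divisors 80).filter (fun d => d % 13 = 1) = {1, 40} by decide] at hm
      simp only [Finset.mem_insert, Finset.mem_singleton] at hm
      exact hm.resolve_left (SmallGroups.card_sylow_ne_one hne h13d)
    obtain ⟨P⟩ := (inferInstance : Nonempty (Sylow 13 G))
    have hP : Nat.card ↥(P : Subgroup G) = 13 := by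
      simpa using SmallGroups.card_sylow_eq hG13 (by norm_num) P
    have hN := SmallGroups.normalizer_conj_eq_card P h40 (k := 26) (by rw [hG])
    obtain ⟨u₀, hu₀⟩ := exists_prime_orderOf_dvd_card'
      (G := normalizer ((P : Subgroup G) : Set G)) 2 (by rw [hN]; norm_num)
    have hu2 : orderOf (u₀ : G) = 2 := (Subgroup.orderOf_coe u₀).trans hu₀
    have huc : (u₀ : G) ∉ centralizer ((P : Subgroup G) : Set G) := fun h => by
      have := movedBlock_mul_le hne (p := 13) (r := 2) (by norm_num) h13d P hP h hu2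
      rw [h40] at this
      norm_num [movedBlock] at this
    refine ⟨u₀, hu2, ?_⟩
    have hfle : Nat.card (MulAction.fixedBy (G ⧸ normalizer ((P : Subgroup G) : Set G)) (u₀ : G)) ≤ 4 := by
      have := card_fixedBy_sylow_le P hP u₀.2 huc
      rw [card_fixedBy_sylow P, h40] at this
      omega
    have hb := card_centralizer_mul_le hfle (le_card_conj_inter _ hP u₀.2 huc)
    have hidx : (normalizer ((P : Subgroup G) : Set G)).index = 40 :=
      P.card_eq_index_normalizer.symm.trans h40
    rw [hidx, hG] at hb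
    omega
  have hG5 : Nat.card G = 5 ^ 1 * 208 := by rw [hG]; norm_num
  have h5d : 5 ∣ Nat.card G := by rw [hG]; norm_num
  have hS : ∀ R : Sylow 5 G, Nat.card ↥(R : Subgroup G) = 5 := fun R => by
    simpa using SmallGroups.card_sylow_eq hG5 (by norm_num) R
  obtain ⟨P⟩ := (inferInstance : Nonempty (Sylow 5 G))
  have h26 : Nat.card (Sylow 5 G) = 26 := by
    have hm := SmallGroups.card_sylow_mem_list hG5 (by norm_num)
    rw [show (Nat.divisors 208).filter (fun d => d % 5 = 1) = {1, 16, 26} by decide] at hm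
    simp only [Finset.mem_insert, Finset.mem_singleton] at hm
    rcases hm with h | h | h
    · exact absurd h (SmallGroups.card_sylow_ne_one hne h5d)
    · exfalso
      have hN := SmallGroups.normalizer_conj_eq_card P h (k := 65) (by rw [hG])
      exact SmallGroups.not_coprime_normalizer hne P (hS P) (by rw [hN]; norm_num)
    · exact h
  set N := normalizer ((P : Subgroup G) : Set G) with hNdef
  have hN : Nat.card N = 40 := SmallGroups.normalizer_conj_eq_card P h26 (by rw [hG])
  obtain ⟨H, hHN, hH⟩ : ∃ H ≤ N, Nat.card H = 2 ^ 3 := by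
    obtain ⟨H₀, hH₀⟩ := Sylow.exists_subgroup_card_pow_prime (G := N) 2 (n := 3) (by rw [hN]; norm_num)
    exact ⟨H₀.map N.subtype, map_subtype_le _,
      (card_map_of_injective (subtype_injective N)).trans hH₀⟩
  obtain ⟨S, hS16, hHS⟩ := Sylow.exists_subgroup_card_pow_succ (G := G) (p := 2) (n := 3)
    (by rw [hG]; norm_num) hH
  have hHidx : (H.subgroupOf S).index = 2 := by
    have := (H.subgroupOf S).card_mul_index
    rw [Nat.card_congr (subgroupOfEquivOfLe hHS).toEquiv, hH, hS16] at this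
    omega
  have hSH : S ≤ normalizer (H : Set G) :=
    (normal_subgroupOf_iff_le_normalizer hHS).mp (normal_of_index_eq_two hHidx)
  obtain ⟨g, hgS, hgH⟩ : ∃ g ∈ S, g ∉ H := by
    by_contra hc
    push Not at hc
    have := card_le_of_le hc
    omega
  have hgH' : ∀ h ∈ H, g * h * g⁻¹ ∈ H := fun h hh => (mem_normalizer_iff.mp (hSH hgS) h).mp hh
  have hg2 : g * g ∈ H := by
    have := (mul_mem_iff_of_index_two hHidx (a := (⟨g, hgS⟩ : S)) (b := ⟨g, hgS⟩)).mpr Iff.rfl
    exact this
  have hgN : g ∉ N := fun hgN => by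
    have hle : S ≤ N := fun s hs => by
      by_cases hsH : s ∈ H
      · exact hHN hsH
      · have h1 : (⟨g, hgS⟩ : S)⁻¹ * ⟨s, hs⟩ ∈ H.subgroupOf S :=
          (mul_mem_iff_of_index_two hHidx).mpr (by
            rw [inv_mem_iff, mem_subgroupOf, mem_subgroupOf]
            exact ⟨fun h => absurd h hgH, fun h => absurd h hsH⟩)
        have := mul_mem hgN (hHN h1)
        simpa using this
    have := card_dvd_of_le hle
    rw [hN, hS16] at this
    norm_num at this
  set C := centralizer ((P : Subgroup G) : Set G) with hC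
  set K := H ⊓ C with hK
  have hP' : g • P ≠ P := fun h => hgN (Sylow.smul_eq_iff_mem_normalizer.mp h)
  let K' : Subgroup G := K.map (MulAut.conj g).toMonoidHom
  have hK'H : K' ≤ H := by
    rintro _ ⟨k, hk, rfl⟩
    exact hgH' k hk.1
  have hdisj : ∀ w ∈ K, w ∈ K' → w = 1 := by
    intro w hw hw'
    by_contra hw1
    have hord : orderOf w ∣ 2 ^ 3 := hH ▸ orderOf_dvd_natCard _ hw.1
    obtain ⟨i, hi, hwi⟩ := (Nat.dvd_prime_pow Nat.prime_two).mp hord
    rcases i with _ | i
    · exact hw1 (orderOf_eq_one_iff.mp (by simpa using hwi))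
    let z := w ^ (orderOf w / 2)
    have hz : orderOf z = 2 :=
      orderOf_pow_orderOf_div (orderOf_pos w).ne' (hwi ▸ dvd_pow_self 2 i.succ_ne_zero)
    have hzK' : z ∈ K' := K'.pow_mem hw' _
    obtain ⟨k, hk, hkz⟩ := hzK'
    refine hP' (sylow_five_eq_of_commute_1040 hG h26 hz ?_ (K.pow_mem hw _).2)
    rw [mem_centralizer_iff]
    intro y hy
    obtain ⟨x, hx, rfl⟩ : ∃ x ∈ (P : Subgroup G), g * x * g⁻¹ = y := by
      rw [SetLike.mem_coe,
        show ((g • P : Sylow 5 G) : Subgroup G) = (P : Subgroup G).map (MulAut.conj g).toMonoidHom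
          from rfl] at hy
      obtain ⟨x, hx, hxy⟩ := hy
      exact ⟨x, hx, hxy⟩
    rw [← hkz]
    show g * x * g⁻¹ * (g * k * g⁻¹) = g * k * g⁻¹ * (g * x * g⁻¹)
    calc g * x * g⁻¹ * (g * k * g⁻¹) = g * (x * k) * g⁻¹ := by group
      _ = g * (k * x) * g⁻¹ := by rw [mem_centralizer_iff.mp hk.2 x hx]
      _ = g * k * g⁻¹ * (g * x * g⁻¹) := by group
  -- the automorphisms induced on `P`
  let φ : H →* MulAut (P : Subgroup G) :=
    (P : Subgroup G).normalizerMonoidHom.comp (inclusion hHN)
  have hker : ∀ h : H, φ h = 1 ↔ (h : G) ∈ C := fun h => by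
    show (P : Subgroup G).normalizerMonoidHom (inclusion hHN h) = 1 ↔ _
    rw [← MonoidHom.mem_ker, normalizerMonoidHom_ker, mem_subgroupOf]
    rfl
  have hPc : IsCyclic (P : Subgroup G) := isCyclic_of_prime_card (hS P)
  have hAut : Nat.card (MulAut (P : Subgroup G)) = 4 := by
    rw [hPc.card_mulAut, hS P]; decide
  have hAutc : IsCyclic (MulAut (P : Subgroup G)) := by
    have : IsCyclic (ZMod (Nat.card (P : Subgroup G)))ˣ := by
      rw [hS P]; exact ZMod.isCyclic_units_prime (Nat.prime_five)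
    exact isCyclic_of_surjective (IsCyclic.mulAutMulEquiv (P : Subgroup G)).symm (MulEquiv.surjective _)
  have hKcard : Nat.card (φ.ker) = Nat.card K := by
    have : φ.ker = K.subgroupOf H := by
      ext h
      rw [MonoidHom.mem_ker, hker, mem_subgroupOf, hK]
      exact ⟨fun hh => ⟨h.2, hh⟩, fun hh => hh.2⟩
    rw [this, Nat.card_congr (subgroupOfEquivOfLe inf_le_left).toEquiv]
  have hprod : Nat.card K * Nat.card φ.range = 8 := by
    rw [← hKcard, ← index_ker, card_mul_index, hH]
    norm_num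
  have hrange : Nat.card φ.range ∣ 4 := hAut ▸ card_subgroup_dvd_card _
  have hKrange : Nat.card K ≤ Nat.card φ.range := by
    have hinj : Function.Injective (fun k : K =>
        (⟨φ ⟨g * k * g⁻¹, hgH' k k.2.1⟩, _, rfl⟩ : φ.range)) := by
      intro a b hab
      have hab' : φ ⟨g * a * g⁻¹, hgH' a a.2.1⟩ = φ ⟨g * b * g⁻¹, hgH' b b.2.1⟩ :=
        congrArg Subtype.val hab
      rw [← mul_inv_eq_one, ← map_inv, ← map_mul, hker] at hab'
      have h1 := hdisj _ ⟨H.mul_mem (hgH' a a.2.1) (H.inv_mem (hgH' b b.2.1)), hab'⟩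
        ⟨a * (b : G)⁻¹, K.mul_mem a.2 (K.inv_mem b.2), by
          show g * ((a : G) * (b : G)⁻¹) * g⁻¹ = g * a * g⁻¹ * (g * b * g⁻¹)⁻¹
          group⟩
      change g * a * g⁻¹ * (g * b * g⁻¹)⁻¹ = 1 at h1
      rw [mul_inv_eq_one] at h1
      exact Subtype.ext (mul_left_cancel (mul_right_cancel h1))
    exact Nat.card_le_card_of_injective _ hinj
  have hle4 := Nat.le_of_dvd (by norm_num) hrange
  have hK2 : Nat.card K = 2 := by
    obtain ⟨i, hi, hKi⟩ := (Nat.dvd_prime_pow Nat.prime_two).mp
      (show Nat.card K ∣ 2 ^ 3 from hH ▸ card_dvd_of_le inf_le_left)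
    rw [hKi] at hKrange hprod ⊢
    interval_cases i <;> omega
  obtain ⟨t₀, ht₀⟩ := exists_prime_orderOf_dvd_card' (G := K) 2 (by rw [hK2])
  have ht2 : orderOf (t₀ : G) = 2 := (Subgroup.orderOf_coe t₀).trans ht₀
  obtain ⟨t, htH, htC, ht1, hKt⟩ : ∃ t : G, t ∈ H ∧ t ∈ C ∧ t ≠ 1 ∧ ∀ w ∈ K, w = 1 ∨ w = t := by
    refine ⟨t₀, t₀.2.1, t₀.2.2, fun h => by rw [h, orderOf_one] at ht2; norm_num at ht2,
      fun w hw => ?_⟩
    have hz : zpowers (t₀ : G) = K :=
      eq_of_le_of_card_ge (zpowers_le.mpr t₀.2) (by rw [Nat.card_zpowers, ht2, hK2])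
    rw [← hz, mem_zpowers_iff] at hw
    obtain ⟨i, rfl⟩ := hw
    rw [← zpow_mod_orderOf, ht2]
    rcases Int.emod_two_eq_zero_or_one i with h | h
    · left; rw [show i % ((2 : ℕ) : ℤ) = 0 by simpa using h, zpow_zero]
    · right; rw [show i % ((2 : ℕ) : ℤ) = 1 by simpa using h, zpow_one]
  have ht : t * t = 1 := by
    rcases hKt (t * t) (K.mul_mem ⟨htH, htC⟩ ⟨htH, htC⟩) with h | h
    · exact h
    · exact absurd (mul_left_cancel (h.trans (mul_one t).symm)) ht1
  -- `t` is central in `H`
  have htc : ∀ h ∈ H, Commute h t := fun h hh => by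
    have hmem : h * t * h⁻¹ ∈ K := ⟨H.mul_mem (H.mul_mem hh htH) (H.inv_mem hh), by
      have hCn : (C.subgroupOf N).Normal := by
        rw [hC, hNdef, ← normalizerMonoidHom_ker]; exact MonoidHom.normal_ker _
      exact hCn.conj_mem ⟨t, hHN htH⟩ htC ⟨h, hHN hh⟩⟩
    rcases hKt _ hmem with h' | h'
    · exact absurd (conj_eq_one_iff.mp h') ht1
    · exact mul_inv_eq_iff_eq_mul.mp h'
  set s := g * t * g⁻¹ with hs
  have hsH : s ∈ H := hgH' t htH
  have hsc : ∀ h ∈ H, Commute h s := fun h hh => by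
    have hh' : g⁻¹ * h * g ∈ H :=
      (mem_normalizer_iff'.mp (hSH hgS) (g⁻¹ * h)).mpr (by simpa using hh)
    show h * (g * t * g⁻¹) = g * t * g⁻¹ * h
    calc h * (g * t * g⁻¹) = g * (g⁻¹ * h * g * t) * g⁻¹ := by group
      _ = g * t * g⁻¹ * h := by rw [(htc _ hh').eq]; group
  have hs1 : φ ⟨s, hsH⟩ ≠ 1 := fun h => by
    rw [hker] at h
    have := hdisj s ⟨hsH, h⟩ ⟨t, ⟨htH, htC⟩, rfl⟩
    exact ht1 (conj_eq_one_iff.mp this)
  -- the involutions of `H`
  have hinv : ∀ w ∈ H, w * w = 1 → w = 1 ∨ w = t ∨ w = s ∨ w = t * s := by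
    intro w hw hw2
    have hsq : s * s = 1 := by rw [hs]; simp [mul_assoc, ← mul_assoc t, ht]
    have huniq : φ ⟨w, hw⟩ = 1 ∨ φ ⟨w, hw⟩ = φ ⟨s, hsH⟩ := by
      by_cases h1 : φ ⟨w, hw⟩ = 1
      · exact Or.inl h1
      right
      classical
      have := Fintype.ofFinite (MulAut (P : Subgroup G))
      obtain ⟨hw', hs'⟩ : φ ⟨w, hw⟩ ^ 2 = 1 ∧ φ ⟨s, hsH⟩ ^ 2 = 1 := by
        constructor <;> rw [← map_pow, ← map_one φ] <;> congr 1 <;> apply Subtype.ext <;>
          rw [SubgroupClass.coe_pow, pow_two] <;> assumption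
      by_contra hne'
      have h3 := IsCyclic.card_pow_eq_one_le (α := MulAut (P : Subgroup G)) (n := 2) two_pos
      have h3' : ({1, φ ⟨w, hw⟩, φ ⟨s, hsH⟩} : Finset (MulAut (P : Subgroup G))) ⊆
          Finset.univ.filter (fun a => a ^ 2 = 1) := by
        intro a ha
        simp only [Finset.mem_insert, Finset.mem_singleton] at ha
        rcases ha with rfl | rfl | rfl <;> simp [hw', hs']
      have h4 := (Finset.card_le_card h3').trans h3
      rw [Finset.card_insert_of_notMem (by simp [Ne.symm h1, Ne.symm hs1]),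
        Finset.card_pair hne'] at h4
      norm_num at h4
    rcases huniq with h1 | h1
    · rw [hker] at h1
      rcases hKt w ⟨hw, h1⟩ with h' | h'
      · exact Or.inl h'
      · exact Or.inr (Or.inl h')
    · rw [← mul_inv_eq_one, ← map_inv, ← map_mul, hker] at h1
      rcases hKt (w * s⁻¹) ⟨H.mul_mem hw (H.inv_mem hsH), h1⟩ with h' | h'
      · exact Or.inr (Or.inr (Or.inl (mul_inv_eq_one.mp h')))
      · exact Or.inr (Or.inr (Or.inr (mul_inv_eq_iff_eq_mul.mp h')))
  -- their centralizers are too big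
  have hbig : ∀ w ∈ H, w * w = 1 → 8 < Nat.card (centralizer ({w} : Set G)) := by
    intro w hw hw2
    have h8 : ∀ v : G, (∀ h ∈ H, Commute h v) → H ≤ centralizer ({v} : Set G) := fun v hv h hh =>
      mem_centralizer_singleton_iff.mpr (hv h hh).eq
    have h40 : ∀ v : G, v ∈ C → (∀ h ∈ H, Commute h v) →
        8 < Nat.card (centralizer ({v} : Set G)) := by
      intro v hv hvH
      have h5 : (5 : ℕ) ∣ Nat.card (centralizer ({v} : Set G)) := hS P ▸ card_dvd_of_le
        (fun y hy => mem_centralizer_singleton_iff.mpr (mem_centralizer_iff.mp hv y hy))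
      have h8' : 8 ∣ Nat.card (centralizer ({v} : Set G)) := by
        have := card_dvd_of_le (h8 v hvH)
        rwa [hH] at this
      have := Nat.le_of_dvd Nat.card_pos (Nat.Coprime.mul_dvd_of_dvd_of_dvd (by norm_num) h5 h8')
      omega
    rcases hinv w hw hw2 with h | h | h | h <;> rw [h]
    · rw [show centralizer ({(1 : G)} : Set G) = ⊤ from eq_top_iff.mpr fun y _ =>
        mem_centralizer_singleton_iff.mpr (by simp), card_top, hG]
      norm_num
    · exact h40 t htC htc
    · rw [hs]
      have h := h40 t htC htc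
      have hcc : ∀ v, Nat.card (centralizer ({g * v * g⁻¹} : Set G)) =
          Nat.card (centralizer ({v} : Set G)) := fun v => by
        have h1 := SmallGroups.card_conj_mul_centralizer v
        have h2 := SmallGroups.card_conj_mul_centralizer (g * v * g⁻¹)
        have hc : IsConj v (g * v * g⁻¹) := isConj_iff.mpr ⟨g, rfl⟩
        rw [Nat.card_congr (Equiv.subtypeEquivRight (p := fun x => IsConj (g * v * g⁻¹) x)
          (q := fun x => IsConj v x) fun x => ⟨hc.trans, hc.symm.trans⟩), ← h1] at h2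
        exact Nat.eq_of_mul_eq_mul_left
          (Nat.card_pos_iff.mpr ⟨⟨⟨v, IsConj.refl v⟩⟩, inferInstance⟩) h2
      rw [hcc]
      exact h
    · have hgs : g * (t * s) * g⁻¹ = t * s := by
        have hgg : g * g * t * (g * g)⁻¹ = t := mul_inv_eq_iff_eq_mul.mpr (htc _ hg2).eq
        calc g * (t * s) * g⁻¹ = g * t * g⁻¹ * (g * s * g⁻¹) := by group
          _ = s * t := by
            rw [← hs]; congr 1
            rw [hs]
            calc g * (g * t * g⁻¹) * g⁻¹ = g * g * t * (g * g)⁻¹ := by group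
              _ = t := hgg
          _ = t * s := (htc s hsH).eq
      have hHle : H ≤ centralizer ({t * s} : Set G) := h8 _ fun h hh => (htc h hh).mul_right (hsc h hh)
      have hgC : g ∈ centralizer ({t * s} : Set G) :=
        mem_centralizer_singleton_iff.mpr (mul_inv_eq_iff_eq_mul.mp hgs)
      have hlt : H < centralizer ({t * s} : Set G) :=
        lt_of_le_of_ne hHle fun h => hgH (h ▸ hgC)
      have := Set.ncard_lt_ncard (SetLike.coe_ssubset_coe.mpr hlt) (Set.toFinite _)
      rw [← Nat.card_coe_set_eq, ← Nat.card_coe_set_eq] at this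
      simp only [SetLike.coe_sort_coe] at this
      omega
  -- `u` has no fixed coset
  have hfix : ∀ a : G ⧸ H, u • a ≠ a := by
    intro a ha
    induction a using QuotientGroup.induction_on with
    | _ x =>
    have hmem := (SmallGroups.mk_mem_fixedBy_iff H u x).mp ha
    have hu : u * u = 1 := by rw [← pow_two, ← hu2, pow_orderOf_eq_one]
    have h := hbig _ hmem (by
      calc x⁻¹ * u * x * (x⁻¹ * u * x) = x⁻¹ * (u * u) * x := by group
        _ = 1 := by rw [hu]; group)
    have h1 := SmallGroups.card_conj_mul_centralizer u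
    have h2 := SmallGroups.card_conj_mul_centralizer (x⁻¹ * u * x)
    have hc : IsConj u (x⁻¹ * u * x) := isConj_iff.mpr ⟨x⁻¹, by group⟩
    rw [Nat.card_congr (Equiv.subtypeEquivRight (p := fun y => IsConj (x⁻¹ * u * x) y)
      (q := fun y => IsConj u y) fun y => ⟨hc.trans, hc.symm.trans⟩), ← h1] at h2
    have := Nat.eq_of_mul_eq_mul_left
      (Nat.card_pos_iff.mpr ⟨⟨⟨u, IsConj.refl u⟩⟩, inferInstance⟩) h2
    omega
  have h4 := four_dvd_card_moved hne H (hu2 ▸ pow_orderOf_eq_one u)
  have hidx : H.index = 130 := by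
    have := H.card_mul_index
    rw [hH, hG] at this
    omega
  rw [Nat.card_congr (Equiv.subtypeUnivEquiv hfix), ← index_eq_card, hidx] at h4
  norm_num at h4

end Cfsg.Agent.Classification
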