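import Cfsg.Agent.Classification.SimpleOrderExceptions
import Cfsg.Agent.Lib.CharCore.Burnside
import Cfsg.Agent.Lib.Fitting.Minimal
import Cfsg.Agent.Lib.Components.GenFitting
import Cfsg.Agent.Lib.Thompson.Cores

set_option autoImplicit false

/-!
# No simple group has order 720

Either some subgroup of index ten has a non-trivial normal 2-subgroup, which is impossible, or the
Sylow 3-subgroups are disjoint and an element of order four is an odd permutation on the cosets of
the centralizer of another one.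
-/

namespace Cfsg.Agent.Classification.Order720

open Subgroup

variable {G : Type*} [Group G] [Finite G] [IsSimpleGroup G]

theorem not_comm (hG : Nat.card G = 720) : ¬ IsMulCommutative G :=
  SmallGroups.not_comm_of_not_prime (by rw [hG]; norm_num)

theorem lt_index (hG : Nat.card G = 720) {H : Subgroup G} (hH : H ≠ ⊤) : 6 < H.index :=
  SmallGroups.lt_index_of_not_dvd (not_comm hG) (by rw [hG]; decide) hH

section IndexTen

variable {M : Subgroup G}

theorem index_ten_ne_top (hM : M.index = 10) : M ≠ ⊤ := fun h => by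
  rw [h, index_top] at hM; norm_num at hM

theorem card_of_index_ten (hG : Nat.card G = 720) (hM : M.index = 10) : Nat.card M = 72 := by
  have := M.card_mul_index
  rw [hM, hG] at this
  omega

/-- A subgroup of index ten is maximal. -/
theorem eq_top_of_lt (hG : Nat.card G = 720) (hM : M.index = 10) {H : Subgroup G} (hle : M < H) :
    H = ⊤ := by
  by_contra hH
  have h6 := lt_index hG hH
  have hd : H.index ∣ 10 := hM ▸ index_dvd_of_le hle.le
  have hlt : H.index < 10 := hM ▸ index_strictAnti hle
  interval_cases hi : H.index <;> norm_num at hd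

/-- The orbits of a subgroup of index ten, off its own point, have at least four elements. -/
theorem four_le_orbit (hG : Nat.card G = 720) (hM : M.index = 10) {a : G ⧸ M}
    (ha : a ≠ ((1 : G) : G ⧸ M)) : 4 ≤ Nat.card (MulAction.orbit M a) := by
  induction a using QuotientGroup.induction_on with
  | _ g =>
  set M' := M.map (MulAut.conj g).toMonoidHom with hM'
  set L := M ⊓ M' with hL
  have hmem : ∀ m : G, m • (g : G ⧸ M) = (g : G ⧸ M) ↔ m ∈ M' := fun m => by
    refine (SmallGroups.mk_mem_fixedBy_iff M m g).trans ⟨fun h => ⟨_, h, ?_⟩, ?_⟩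
    · show g * (g⁻¹ * m * g) * g⁻¹ = m
      group
    · rintro ⟨x, hx, rfl⟩
      show g⁻¹ * (g * x * g⁻¹) * g ∈ M
      rwa [show g⁻¹ * (g * x * g⁻¹) * g = x by group]
  have hst : MulAction.stabilizer M (g : G ⧸ M) = L.subgroupOf M := by
    ext m
    rw [MulAction.mem_stabilizer_iff, mem_subgroupOf, hL, mem_inf]
    exact (hmem (m : G)).trans ⟨fun h => ⟨m.2, h⟩, fun h => h.2⟩
  set s := Nat.card (MulAction.orbit M (g : G ⧸ M)) with hs
  have hidx : (L.subgroupOf M).index = s := by
    rw [← hst, MulAction.index_stabilizer, hs, Nat.card_coe_set_eq]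
  have hMc := card_of_index_ten hG hM
  have hM'c : Nat.card M' = 72 := by
    rw [hM', card_map_of_injective (MulAut.conj g).injective]; exact hMc
  have hcard : Nat.card L * s = 72 := by
    have := (L.subgroupOf M).card_mul_index
    rwa [hidx, Nat.card_congr (subgroupOfEquivOfLe inf_le_left).toEquiv, hMc] at this
  have hidx' : (L.subgroupOf M').index = s := by
    have := (L.subgroupOf M').card_mul_index
    rw [Nat.card_congr (subgroupOfEquivOfLe inf_le_right).toEquiv, hM'c, ← hcard] at this
    exact Nat.eq_of_mul_eq_mul_left Nat.card_pos this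
  have hne' : M' ≠ M := by
    intro h
    apply ha
    have hgN : g ∈ normalizer (M : Set G) := by
      rw [mem_normalizer_iff]
      intro m
      constructor
      · intro hm
        rw [← h]
        exact ⟨m, hm, rfl⟩
      · intro hm
        rw [← h] at hm
        obtain ⟨x, hx, hxe⟩ := hm
        have : x = m := mul_left_cancel (mul_right_cancel (hxe : g * x * g⁻¹ = g * m * g⁻¹))
        exact this ▸ hx
    have hN : normalizer (M : Set G) = M := by
      refine (eq_of_le_of_not_lt le_normalizer fun hlt => ?_).symm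
      have hn : M.Normal := normalizer_eq_top_iff.mp (eq_top_of_lt hG hM hlt)
      rcases hn.eq_bot_or_eq_top with hb | ht
      · rw [hb, card_bot] at hMc; norm_num at hMc
      · exact index_ten_ne_top hM ht
    rw [hN] at hgN
    rw [QuotientGroup.eq, mul_one]
    exact M.inv_mem hgN
  have htop : M ⊔ M' = ⊤ := eq_top_of_lt hG hM (lt_of_le_of_ne le_sup_left fun h => hne'
    (eq_of_le_of_card_ge (h ▸ le_sup_right) (by rw [hM'c, hMc])))
  have key : ∀ R : Subgroup G, R ≠ ⊥ → R ≤ M → M ≤ normalizer (R : Set G) →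
      M' ≤ normalizer (R : Set G) → False := by
    intro R hR hRM h1 h2
    have hn : R.Normal := normalizer_eq_top_iff.mp (top_le_iff.mp (htop ▸ sup_le h1 h2))
    exact index_ten_ne_top hM (top_le_iff.mp
      ((hn.eq_bot_or_eq_top.resolve_left hR).ge.trans hRM))
  by_contra hlt
  push Not at hlt
  interval_cases hsv : s
  · simp at hcard
  · refine hne' (eq_of_le_of_card_ge ?_ (by rw [hM'c, hMc])).symm
    have := index_eq_one.mp hidx
    rw [subgroupOf_eq_top] at this
    exact this.trans inf_le_right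
  · refine key L (fun h => ?_) inf_le_left
      ((normal_subgroupOf_iff_le_normalizer inf_le_left).mp (normal_of_index_eq_two hidx))
      ((normal_subgroupOf_iff_le_normalizer inf_le_right).mp (normal_of_index_eq_two hidx'))
    rw [h, card_bot] at hcard
    norm_num at hcard
  · -- the elements of `L` of order dividing nine generate a normal subgroup
    have : Fact (Nat.Prime 3) := ⟨Nat.prime_three⟩
    let R : Subgroup G := closure {y | y ∈ L ∧ y ^ 9 = 1}
    have hgen : ∀ N : Subgroup G, L ≤ N → (L.subgroupOf N).index = 3 →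
        ∀ m ∈ N, ∀ y ∈ L, y ^ 9 = 1 → m⁻¹ * y * m ∈ L := by
      intro N hLN hN3 m hm y hy hy9
      let z : N := ⟨y, hLN hy⟩
      have hp : IsPGroup 3 (zpowers z) := by
        have h9 : orderOf z ∣ 3 ^ 2 :=
          orderOf_dvd_of_pow_eq_one (Subtype.ext (by simpa using hy9))
        obtain ⟨i, -, hi⟩ := (Nat.dvd_prime_pow Nat.prime_three).mp h9
        exact IsPGroup.of_card (n := i) (by rw [Nat.card_zpowers, hi])
      have hmod := hp.card_modEq_card_fixedPoints (N ⧸ L.subgroupOf N)
      rw [← index_eq_card, hN3] at hmod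
      set F := MulAction.fixedPoints (zpowers z) (N ⧸ L.subgroupOf N)
      have h0 : ((1 : N) : N ⧸ L.subgroupOf N) ∈ F := by
        rintro ⟨w, hw⟩
        refine (SmallGroups.mk_mem_fixedBy_iff (L.subgroupOf N) w 1).mpr ?_
        rw [inv_one, one_mul, mul_one]
        exact zpowers_le.mpr (show z ∈ L.subgroupOf N from hy) hw
      have hpos : 0 < Nat.card F := Nat.card_pos_iff.mpr ⟨⟨⟨_, h0⟩⟩, inferInstance⟩
      have hle : Nat.card F ≤ 3 := hN3 ▸ index_eq_card (L.subgroupOf N) ▸
        Nat.card_le_card_of_injective _ Subtype.val_injective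
      have hF : Nat.card F = 3 := by
        unfold Nat.ModEq at hmod
        omega
      have huniv : F = Set.univ := by
        refine Set.eq_of_subset_of_ncard_le (Set.subset_univ _) ?_ (Set.toFinite _)
        rw [Set.ncard_univ, ← index_eq_card, hN3, ← Nat.card_coe_set_eq, hF]
      have hfix : ((⟨m, hm⟩ : N) : N ⧸ L.subgroupOf N) ∈ F := huniv ▸ Set.mem_univ _
      exact (SmallGroups.mk_mem_fixedBy_iff (L.subgroupOf N) z ⟨m, hm⟩).mp
        (hfix ⟨z, mem_zpowers z⟩)
    have hnorm : ∀ N : Subgroup G, L ≤ N → (L.subgroupOf N).index = 3 →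
        N ≤ normalizer (R : Set G) := by
      intro N hLN hN3 m hm
      have h1 : ∀ m ∈ N, ∀ r ∈ R, m * r * m⁻¹ ∈ R := by
        intro m hm r hr
        have hsub : R ≤ R.comap (MulAut.conj m).toMonoidHom :=
          (closure_le _).mpr fun y ⟨hy, hy9⟩ => subset_closure
            ⟨by simpa using hgen N hLN hN3 m⁻¹ (N.inv_mem hm) y hy hy9, by
              show (m * y * m⁻¹) ^ 9 = 1
              rw [conj_pow, hy9, mul_one, mul_inv_cancel]⟩
        exact hsub hr
      rw [mem_normalizer_iff]
      exact fun r => ⟨h1 m hm r, fun hr => by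
        simpa [mul_assoc] using h1 m⁻¹ (N.inv_mem hm) _ hr⟩
    obtain ⟨y, hy⟩ := exists_prime_orderOf_dvd_card' (G := L) 3 (by omega)
    refine key R (fun h => ?_) ((closure_le _).mpr fun z hz => hz.1.1)
      (hnorm M inf_le_left hidx) (hnorm M' inf_le_right hidx')
    have hyR : (y : G) ∈ R := subset_closure ⟨y.2, by
      rw [show 9 = 3 * 3 from rfl, pow_mul, ← hy, ← Subgroup.orderOf_coe, pow_orderOf_eq_one, one_pow]⟩
    rw [h, mem_bot] at hyR
    rw [← Subgroup.orderOf_coe, hyR, orderOf_one] at hy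
    norm_num at hy

/-- A subgroup of index ten is transitive on the other nine cosets. -/
theorem orbit_eq (hG : Nat.card G = 720) (hM : M.index = 10) {a b : G ⧸ M}
    (ha : a ≠ ((1 : G) : G ⧸ M)) (hb : b ≠ ((1 : G) : G ⧸ M)) : b ∈ MulAction.orbit M a := by
  classical
  by_contra hbO
  have hMc := card_of_index_ten hG hM
  set o := ((1 : G) : G ⧸ M)
  have hbase : MulAction.orbit M o = {o} := by
    ext c
    simp only [MulAction.mem_orbit_iff, Set.mem_singleton_iff]
    constructor
    · rintro ⟨m, rfl⟩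
      exact (SmallGroups.mk_mem_fixedBy_iff M (m : G) 1).mpr (by simp)
    · rintro rfl
      exact ⟨1, one_smul _ _⟩
  have hdvd : ∀ c : G ⧸ M, Nat.card (MulAction.orbit M c) ∣ 72 := fun c => by
    rw [Nat.card_coe_set_eq, ← MulAction.index_stabilizer, ← hMc]
    exact index_dvd_card _
  have hno : ∀ c, c ≠ o → o ∉ MulAction.orbit M c := fun c hc ho => hc (by
    have : c ∈ MulAction.orbit M o := MulAction.mem_orbit_symm.mp ho
    rwa [hbase, Set.mem_singleton_iff] at this)
  have hsum : ∀ c d, c ≠ o → d ≠ o → d ∉ MulAction.orbit M c →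
      Nat.card (MulAction.orbit M c) + Nat.card (MulAction.orbit M d) ≤ 9 ∧
      (Nat.card (MulAction.orbit M c) + Nat.card (MulAction.orbit M d) < 9 →
        ∃ e, e ≠ o ∧ e ∉ MulAction.orbit M c ∧ e ∉ MulAction.orbit M d) := by
    intro c d hc hd hdc
    have hdis : Disjoint (MulAction.orbit M c) (MulAction.orbit M d) :=
      Set.disjoint_left.mpr fun x hx hx' => hdc
        (MulAction.orbit_eq_iff.mpr hx ▸ MulAction.mem_orbit_symm.mp hx')
    have hu := Set.ncard_union_eq hdis
    have hnot : o ∉ MulAction.orbit M c ∪ MulAction.orbit M d := fun h => h.elim (hno c hc) (hno d hd)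
    have hins := Set.ncard_insert_of_notMem hnot
    have hle := Set.ncard_le_card (insert o (MulAction.orbit M c ∪ MulAction.orbit M d))
    rw [← index_eq_card, hM, hins, hu, ← Nat.card_coe_set_eq, ← Nat.card_coe_set_eq] at hle
    refine ⟨by omega, fun hlt => ?_⟩
    by_contra hc'
    push Not at hc'
    have huniv : insert o (MulAction.orbit M c ∪ MulAction.orbit M d) = Set.univ := by
      refine Set.eq_univ_of_forall fun e => ?_
      by_cases he : e = o
      · exact Or.inl he
      by_cases he' : e ∈ MulAction.orbit M c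
      · exact Or.inr (Or.inl he')
      · exact Or.inr (Or.inr (hc' e he he'))
    rw [huniv, Set.ncard_univ, ← index_eq_card, hM] at hins
    rw [hu, ← Nat.card_coe_set_eq, ← Nat.card_coe_set_eq] at hins
    omega
  have h4a := four_le_orbit hG hM ha
  have h4b := four_le_orbit hG hM hb
  obtain ⟨hle, hex⟩ := hsum a b ha hb hbO
  have hda := hdvd a
  have hdb := hdvd b
  rcases Nat.lt_or_ge (Nat.card (MulAction.orbit M a) + Nat.card (MulAction.orbit M b)) 9 with h | h
  · obtain ⟨e, heo, hea, heb⟩ := hex h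
    have := (hsum a e ha heo hea).1
    have := four_le_orbit hG hM heo
    have h3 : MulAction.orbit M a ∪ MulAction.orbit M b ∪ MulAction.orbit M e ⊆ {o}ᶜ := by
      rintro x ((hx | hx) | hx) (rfl : x = o)
      exacts [hno a ha hx, hno b hb hx, hno e heo hx]
    have hd1 : Disjoint (MulAction.orbit M a) (MulAction.orbit M b) :=
      Set.disjoint_left.mpr fun x hx hx' => hbO
        (MulAction.orbit_eq_iff.mpr hx ▸ MulAction.mem_orbit_symm.mp hx')
    have hd2 : Disjoint (MulAction.orbit M a ∪ MulAction.orbit M b) (MulAction.orbit M e) := by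
      refine Set.disjoint_left.mpr fun x hx hx' => ?_
      rcases hx with hx | hx
      · exact hea (MulAction.orbit_eq_iff.mpr hx ▸ MulAction.mem_orbit_symm.mp hx')
      · exact heb (MulAction.orbit_eq_iff.mpr hx ▸ MulAction.mem_orbit_symm.mp hx')
    have := Set.ncard_le_ncard h3
    rw [Set.ncard_union_eq hd2, Set.ncard_union_eq hd1, Set.ncard_compl, Set.ncard_singleton,
      ← index_eq_card, hM, ← Nat.card_coe_set_eq, ← Nat.card_coe_set_eq, ← Nat.card_coe_set_eq] at this
    omega
  · have h9 : Nat.card (MulAction.orbit M a) + Nat.card (MulAction.orbit M b) = 9 := by omega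
    rcases le_or_gt (Nat.card (MulAction.orbit M a)) (Nat.card (MulAction.orbit M b)) with h' | h'
    · have h5 : Nat.card (MulAction.orbit M b) = 5 := by omega
      rw [h5] at hdb; norm_num at hdb
    · have h5 : Nat.card (MulAction.orbit M a) = 5 := by omega
      rw [h5] at hda; norm_num at hda

/-- A subgroup of index ten has no non-trivial normal 2-subgroup. -/
theorem eq_bot_of_two_subgroup (hG : Nat.card G = 720) (hM : M.index = 10) {V : Subgroup G}
    (hVM : V ≤ M) (hMV : M ≤ normalizer (V : Set G)) (hV : IsPGroup 2 V) : V = ⊥ := by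
  have : Fact (Nat.Prime 2) := ⟨Nat.prime_two⟩
  set o := ((1 : G) : G ⧸ M)
  have hmod := hV.card_modEq_card_fixedPoints (G ⧸ M)
  rw [← index_eq_card, hM] at hmod
  set F := MulAction.fixedPoints V (G ⧸ M)
  have h0 : o ∈ F := fun v => (SmallGroups.mk_mem_fixedBy_iff M (v : G) 1).mpr (by simpa using hVM v.2)
  have hpos : 0 < Nat.card F := Nat.card_pos_iff.mpr ⟨⟨⟨_, h0⟩⟩, inferInstance⟩
  have h2 : 1 < Nat.card F := by
    unfold Nat.ModEq at hmod
    omega
  have := Finite.one_lt_card_iff_nontrivial.mp h2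
  obtain ⟨⟨a, haF⟩, hne⟩ := exists_ne (⟨o, h0⟩ : F)
  have ha : a ≠ o := fun h => hne (Subtype.ext h)
  have hall : ∀ v ∈ V, ∀ b : G ⧸ M, v • b = b := by
    intro v hv b
    by_cases hb : b = o
    · rw [hb]; exact h0 ⟨v, hv⟩
    obtain ⟨⟨m, hm⟩, rfl⟩ := orbit_eq hG hM ha hb
    show v • m • a = m • a
    have hconj : m⁻¹ * v * m ∈ V := by
      simpa using (mem_normalizer_iff.mp (hMV (M.inv_mem hm)) v).mp hv
    rw [← mul_smul, show v * m = m * (m⁻¹ * v * m) by group, mul_smul,
      show (m⁻¹ * v * m) • a = a from haF ⟨_, hconj⟩]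
  rw [eq_bot_iff_forall]
  intro v hv
  by_contra hv1
  obtain ⟨b, hb⟩ := exists_moved M (index_ten_ne_top hM) hv1
  exact hb (hall v hv b)

end IndexTen

/-- In a simple group of order 720 two Sylow 3-subgroups meet trivially. -/
theorem sylow_three_ti (hG : Nat.card G = 720) [Fact (Nat.Prime 3)] {P R : Sylow 3 G}
    (hPR : P ≠ R) {d : G} (hdP : d ∈ (P : Subgroup G)) (hdR : d ∈ (R : Subgroup G)) : d = 1 := by
  by_contra hd1
  have hne := not_comm hG
  have : Fact (Nat.Prime 5) := ⟨by norm_num⟩
  have : Fact (Nat.Prime 2) := ⟨Nat.prime_two⟩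
  have hG3 : Nat.card G = 3 ^ 2 * 80 := by rw [hG]; norm_num
  have hS := SmallGroups.card_sylow_eq hG3 (by norm_num)
  set C := centralizer ({d} : Set G) with hC
  have hle : ∀ S : Sylow 3 G, d ∈ (S : Subgroup G) → (S : Subgroup G) ≤ C := fun S hdS y hy =>
    mem_centralizer_singleton_iff.mpr (congrArg Subtype.val
      ((IsPGroup.isMulCommutative_of_card_eq_prime_sq (hS S)).is_comm.comm
        (⟨y, hy⟩ : (S : Subgroup G)) ⟨d, hdS⟩))
  obtain ⟨hmul, hn1, hn2, hn3⟩ := sylow_count_of_le hG3 (by norm_num) hPR (hle P hdP) (hle R hdR)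
  have hCtop : C ≠ ⊤ := centralizer_ne_top hne hd1
  have h6 := lt_index hG hCtop
  have hcardC : Nat.card C = 9 * (P : Subgroup G).relIndex C := by
    have := ((P : Subgroup G).subgroupOf C).card_mul_index
    rw [Nat.card_congr (subgroupOfEquivOfLe (hle P hdP)).toEquiv, hS P] at this
    exact this.symm
  have hrel : (P : Subgroup G).relIndex C = 4 ∨ (P : Subgroup G).relIndex C = 8 := by
    have hr : (P : Subgroup G).relIndex C ≤ 11 := by nlinarith
    have hr0 : 0 < (P : Subgroup G).relIndex C := Nat.pos_of_ne_zero fun h => by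
      rw [h, zero_mul] at hmul; norm_num at hmul
    have hd : (P : Subgroup G).relIndex C ∣ 80 := ⟨_, hmul.symm⟩
    have hn : Nat.card (Sylow 3 C) ≤ (P : Subgroup G).relIndex C := Nat.le_of_dvd hr0 hn1
    have h10 : (P : Subgroup G).relIndex C ≠ 10 := by
      intro h10
      have hG5 : Nat.card G = 5 ^ 1 * 144 := by rw [hG]; norm_num
      have h36 : Nat.card (Sylow 5 G) = 36 := by
        have hm := SmallGroups.card_sylow_mem_list hG5 (by norm_num)
        rw [show (Nat.divisors 144).filter (fun d => d % 5 = 1) = {1, 6, 16, 36} by decide] at hm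
        simp only [Finset.mem_insert, Finset.mem_singleton] at hm
        rcases hm with h | h | h | h
        · exact absurd h (SmallGroups.card_sylow_ne_one hne (by rw [hG]; norm_num))
        · have := SmallGroups.two_mul_card_dvd_sylow hne (p := 5) (by rw [hG]; norm_num)
          rw [h, hG] at this
          exact absurd this (by decide)
        · exfalso
          obtain ⟨Q⟩ := (inferInstance : Nonempty (Sylow 5 G))
          have hN := SmallGroups.normalizer_conj_eq_card Q h (k := 45) (by rw [hG])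
          exact SmallGroups.not_coprime_normalizer hne Q
            (by simpa using SmallGroups.card_sylow_eq hG5 (by norm_num) Q) (by rw [hN]; norm_num)
        · exact h
      have hC5 : Nat.card C = 5 ^ 1 * 18 := by rw [hcardC, h10]; norm_num
      obtain ⟨Q⟩ := (inferInstance : Nonempty (Sylow 5 C))
      have hm := SmallGroups.card_sylow_mem_list hC5 (by norm_num)
      rw [show (Nat.divisors 18).filter (fun d => d % 5 = 1) = {1, 6} by decide] at hm
      simp only [Finset.mem_insert, Finset.mem_singleton] at hm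
      have hQc : Nat.card ((Q : Subgroup C).map C.subtype) = 5 := by
        rw [card_map_of_injective (subtype_injective C),
          SmallGroups.card_sylow_eq hC5 (by norm_num) Q, pow_one]
      obtain ⟨Q', hQ'⟩ := (Q.2.map C.subtype).exists_le_sylow
      have heq : (Q : Subgroup C).map C.subtype = (Q' : Subgroup G) :=
        eq_of_le_of_card_ge hQ' (by
          rw [SmallGroups.card_sylow_eq hG5 (by norm_num) Q', pow_one]; exact hQc.ge)
      have hN := SmallGroups.normalizer_conj_eq_card Q' h36 (k := 20) (by rw [hG])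
      have hsub : (normalizer ((Q : Subgroup C) : Set C)).map C.subtype ≤
          normalizer ((Q' : Subgroup G) : Set G) := by
        rw [← heq]
        exact le_normalizer_map _
      have hd20 := card_dvd_of_le hsub
      rw [hN, card_map_of_injective (subtype_injective C)] at hd20
      rcases hm with h | h
      · rw [SmallGroups.normalizer_conj_eq_card Q h (k := 90) (by rw [hC5]; norm_num)] at hd20
        norm_num at hd20
      · rw [SmallGroups.normalizer_conj_eq_card Q h (k := 15) (by rw [hC5]; norm_num)] at hd20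
        norm_num at hd20
    interval_cases hr' : (P : Subgroup G).relIndex C <;>
      first | omega | (norm_num at hd; done) | (have h5 := (Nat.dvd_prime (by norm_num)).mp hn1; omega)
  -- the structure of `C`
  obtain ⟨e, he, hCc⟩ : ∃ e : ℕ, (e = 2 ∨ e = 3) ∧ Nat.card C = 2 ^ e * 3 ^ 2 := by
    rcases hrel with h | h
    · exact ⟨2, Or.inl rfl, by rw [hcardC, h]; norm_num⟩
    · exact ⟨3, Or.inr rfl, by rw [hcardC, h]; norm_num⟩
  have hsol : Group.IsSolvable C :=
    CharCore.isSolvable_of_card_eq_prime_pow_mul Nat.prime_two Nat.prime_three _ C e 2 hCc rfl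
  set O : Subgroup C := Cfsg.pPrimeCore 3 C with hO
  have hOc : Nat.card O ∣ 2 ^ e :=
    (Thompson.card_pPrimeCore_coprime (p := 3) (G := C)).pow_right 2 |>.dvd_of_dvd_mul_right
      (hCc ▸ card_subgroup_dvd_card O)
  have hdC : d ∈ C := mem_centralizer_singleton_iff.mpr rfl
  have hO4 : 4 ≤ Nat.card O := by
    by_contra hlt
    obtain ⟨i, hie, hOi⟩ := (Nat.dvd_prime_pow Nat.prime_two).mp hOc
    have hi : i ≤ 1 := by
      by_contra hi
      have := Nat.pow_le_pow_right two_pos (show 2 ≤ i by omega)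
      omega
    have hO2 : ∀ o ∈ O, o ^ 2 = 1 := fun o ho => by
      rw [← orderOf_dvd_iff_pow_eq_one]
      exact (orderOf_dvd_natCard O ho).trans (hOi ▸ (Nat.pow_dvd_pow 2 hi).trans (by norm_num))
    have hOz : ∀ o ∈ O, ∀ c : C, o * c = c * o := by
      intro o ho c
      by_cases ho1 : o = 1
      · rw [ho1, one_mul, mul_one]
      have hcon : c * o * c⁻¹ ∈ O := (inferInstance : O.Normal).conj_mem o ho c
      have hz : zpowers o = O := by
        refine eq_of_le_of_card_ge (zpowers_le.mpr ho) ?_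
        rw [Nat.card_zpowers, orderOf_eq_prime (hO2 o ho) ho1, hOi]
        exact (Nat.pow_le_pow_right two_pos hi).trans (by norm_num)
      rw [← hz, mem_zpowers_iff] at hcon
      obtain ⟨j, hj⟩ := hcon
      rw [← zpow_mod_orderOf, orderOf_eq_prime (hO2 o ho) ho1] at hj
      rcases Int.emod_two_eq_zero_or_one j with h | h
      · rw [show j % ((2 : ℕ) : ℤ) = 0 by simpa using h, zpow_zero] at hj
        exact absurd (conj_eq_one_iff.mp hj.symm) ho1
      · rw [show j % ((2 : ℕ) : ℤ) = 1 by simpa using h, zpow_one] at hj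
        exact (mul_inv_eq_iff_eq_mul.mp hj.symm).symm
    let π := QuotientGroup.mk' O
    have hcardQ : Nat.card (C ⧸ O) * 2 ^ i = 2 ^ e * 3 ^ 2 := by
      rw [← hOi, ← card_eq_card_quotient_mul_card_subgroup, hCc]
    have hF := Components.fitting_eq_pCore_of_pPrimeCore_eq_bot (p := 3) (G := C ⧸ O)
      Thompson.pPrimeCore_quotient_pPrimeCore
    have hCF : centralizer (Cfsg.pCore 3 (C ⧸ O) : Set (C ⧸ O)) ≤ Cfsg.pCore 3 (C ⧸ O) := by
      rw [← hF]; exact Fitting.centralizer_fitting_le
    set F := Cfsg.pCore 3 (C ⧸ O) with hFdef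
    have hFp : IsPGroup 3 F := Thompson.isPGroup_pCore
    obtain ⟨j, hFc⟩ := IsPGroup.iff_card.mp hFp
    have hj : j ≤ 2 := by
      have h9 : Nat.card F ∣ 3 ^ 2 := by
        refine Nat.Coprime.dvd_of_dvd_mul_left ?_
          ((hcardQ ▸ (card_subgroup_dvd_card F).mul_right (2 ^ i)) : Nat.card F ∣ 2 ^ e * 3 ^ 2)
        rw [hFc]
        exact Nat.Coprime.pow _ _ (by norm_num)
      rw [hFc] at h9
      exact (Nat.pow_dvd_pow_iff_le_right (by norm_num)).mp h9
    have hdo : orderOf (⟨d, hdC⟩ : C) ∣ 3 ^ 2 := by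
      rw [Subgroup.orderOf_mk]; exact hS P ▸ orderOf_dvd_natCard _ hdP
    set δ := π ⟨d, hdC⟩ with hδ
    have hδ1 : δ ≠ 1 := fun h => by
      have hmem : (⟨d, hdC⟩ : C) ∈ O := (QuotientGroup.eq_one_iff _).mp h
      have h1 := Nat.dvd_gcd hdo ((orderOf_dvd_natCard O hmem).trans hOc)
      rw [show Nat.gcd (3 ^ 2) (2 ^ e) = 1 from Nat.Coprime.pow _ _ (by norm_num),
        Nat.dvd_one, orderOf_eq_one_iff] at h1
      exact hd1 (congrArg Subtype.val h1)
    have hδc : δ ∈ center (C ⧸ O) := mem_center_iff.mpr fun q => by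
      obtain ⟨c, rfl⟩ := QuotientGroup.mk'_surjective O q
      rw [hδ, ← map_mul, ← map_mul]
      exact congrArg _ (Subtype.ext (mem_centralizer_singleton_iff.mp c.2))
    have hδp : IsPGroup 3 (zpowers δ) := by
      obtain ⟨k, -, hk⟩ := (Nat.dvd_prime_pow Nat.prime_three).mp
        ((orderOf_map_dvd π (⟨d, hdC⟩ : C)).trans hdo)
      exact IsPGroup.of_card (n := k) (by rw [Nat.card_zpowers, hδ, hk])
    have hδF : zpowers δ ≤ F := by
      refine Thompson.le_pCore ⟨fun x hx g => ?_⟩ hδp
      have hxc : x ∈ center (C ⧸ O) := zpowers_le.mpr hδc hx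
      rwa [mem_center_iff.mp hxc g, mul_inv_cancel_right]
    by_cases hj2 : j = 2
    · -- the Sylow subgroup of `C` would be normal
      apply hPR
      refine Sylow.ext (eq_of_le_of_card_ge ?_ (by rw [hS P, hS R]))
      intro x hx
      let W : Subgroup C := F.comap π
      have hsub : ∀ S : Sylow 3 G, (hdS : d ∈ (S : Subgroup G)) → ((S : Subgroup G).subgroupOf C).map π = F := by
        intro S hdS
        let S' : Sylow 3 C := S.subtype (hle S hdS)
        have h1 : IsPGroup 3 (((S : Subgroup G).subgroupOf C).map π) :=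
          (show IsPGroup 3 ((S : Subgroup G).subgroupOf C) by
            rw [← Sylow.coe_subtype]; exact S'.2).map π
        obtain ⟨T, hT⟩ := h1.exists_le_sylow
        have hTF : (T : Subgroup (C ⧸ O)) = F := by
          refine (eq_of_le_of_card_ge (Thompson.pCore_le_sylow T) ?_).symm
          obtain ⟨k, hk⟩ := IsPGroup.iff_card.mp T.2
          have h9 : 3 ^ k ∣ 2 ^ e * 3 ^ 2 :=
            hcardQ ▸ (hk ▸ card_subgroup_dvd_card (T : Subgroup (C ⧸ O))).mul_right (2 ^ i)
          have := (Nat.pow_dvd_pow_iff_le_right (by norm_num : 1 < 3)).mp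
            ((Nat.Coprime.pow k e (by norm_num : Nat.Coprime 3 2)).dvd_of_dvd_mul_left h9)
          rw [hk, hFc, hj2]
          exact Nat.pow_le_pow_right (by norm_num) this
        refine eq_of_le_of_card_ge (hTF ▸ hT) ?_
        have hinj : Nat.card (((S : Subgroup G).subgroupOf C).map π) = 9 := by
          rw [← Nat.card_congr (Equiv.ofBijective _
            ⟨?_, π.subgroupMap_surjective ((S : Subgroup G).subgroupOf C)⟩),
            Nat.card_congr (subgroupOfEquivOfLe (hle S hdS)).toEquiv, hS S]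
          · norm_num
          · intro a b hab
            have hab' : π a = π b := congrArg Subtype.val hab
            rw [← inv_mul_eq_one, ← map_inv, ← map_mul] at hab'
            have hmem : (a : C)⁻¹ * b ∈ O := (QuotientGroup.eq_one_iff _).mp hab'
            have h2 : orderOf ((a : C)⁻¹ * b) ∣ 3 ^ 2 := by
              rw [← Subgroup.orderOf_coe]
              exact hS S ▸ orderOf_dvd_natCard _
                ((S : Subgroup G).mul_mem ((S : Subgroup G).inv_mem a.2) b.2)
            have h1 := Nat.dvd_gcd h2 ((orderOf_dvd_natCard O hmem).trans hOc)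
            rw [show Nat.gcd (3 ^ 2) (2 ^ e) = 1 from Nat.Coprime.pow _ _ (by norm_num),
              Nat.dvd_one, orderOf_eq_one_iff, inv_mul_eq_one] at h1
            exact Subtype.ext h1
        rw [hinj, hFc, hj2]
        norm_num
      have hxC := hle P hdP hx
      have hxF : π ⟨x, hxC⟩ ∈ ((R : Subgroup G).subgroupOf C).map π := by
        rw [hsub R hdR, ← hsub P hdP]
        exact ⟨⟨x, hxC⟩, hx, rfl⟩
      obtain ⟨r, hr, hrx⟩ := hxF
      have ho : r⁻¹ * ⟨x, hxC⟩ ∈ O := by
        rw [← QuotientGroup.eq_one_iff]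
        show π (r⁻¹ * ⟨x, hxC⟩) = 1
        rw [map_mul, map_inv, hrx, inv_mul_cancel]
      set o := r⁻¹ * ⟨x, hxC⟩ with hodef
      have hxro : (⟨x, hxC⟩ : C) = r * o := by rw [hodef, mul_inv_cancel_left]
      have hx10 : x = x ^ 10 := by
        have h9 : x ^ 9 = 1 := by
          rw [← orderOf_dvd_iff_pow_eq_one]
          exact (orderOf_dvd_natCard _ hx).trans (by rw [hS P]; norm_num)
        rw [show 10 = 9 + 1 from rfl, pow_succ, h9, one_mul]
      have h10 : (⟨x, hxC⟩ : C) ^ 10 = r ^ 10 := by
        rw [hxro, (show Commute r o from (hOz o ho r).symm).mul_pow,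
          show 10 = 2 * 5 from rfl, pow_mul o, hO2 o ho, one_pow, mul_one]
      have h10' := congrArg Subtype.val h10
      simp only [SubgroupClass.coe_pow] at h10'
      rw [hx10, h10']
      exact (R : Subgroup G).pow_mem hr 10
    · -- `F` would be central
      have hFz : F = zpowers δ := by
        refine (eq_of_le_of_card_ge hδF ?_).symm
        rw [hFc, Nat.card_zpowers]
        have hne1 : orderOf δ ≠ 1 := fun h => hδ1 (orderOf_eq_one_iff.mp h)
        obtain ⟨k, -, hk⟩ := (Nat.dvd_prime_pow Nat.prime_three).mp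
          ((orderOf_map_dvd π (⟨d, hdC⟩ : C)).trans hdo)
        rw [hk] at hne1 ⊢
        exact Nat.pow_le_pow_right (by norm_num)
          (le_trans (show j ≤ 1 by omega) (Nat.one_le_iff_ne_zero.mpr fun h => hne1 (by rw [h, pow_zero])))
      have hFtop : F = ⊤ := top_le_iff.mp (le_trans (fun q _ => mem_centralizer_iff.mpr fun f hf =>
        (mem_center_iff.mp (zpowers_le.mpr hδc (hFz ▸ hf : f ∈ zpowers δ)) q).symm) hCF)
      have hQc : Nat.card (C ⧸ O) = 3 ^ j := by rw [← hFc, hFtop, card_top]
      rw [hQc] at hcardQ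
      rcases he with rfl | rfl <;> interval_cases j <;> interval_cases i <;>
        first | omega | norm_num at hcardQ
  -- its normaliser has index ten
  let V : Subgroup G := O.map C.subtype
  have hVc : Nat.card V = Nat.card O := card_map_of_injective (subtype_injective C)
  have hVp : IsPGroup 2 V := by
    obtain ⟨i, -, hi⟩ := (Nat.dvd_prime_pow Nat.prime_two).mp hOc
    exact IsPGroup.of_card (n := i) (by rw [hVc, hi])
  have hV1 : V ≠ ⊥ := fun h => by rw [h, card_bot] at hVc; omega
  set M := normalizer (V : Set G) with hM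
  have hCM : C ≤ M := by
    have h := le_normalizer_map (H := O) C.subtype
    rwa [normalizer_eq_top, ← MonoidHom.range_eq_map, range_subtype] at h
  have hMtop : M ≠ ⊤ := normalizer_ne_top hne hV1 hVp
  have h72 : 72 ∣ Nat.card M := by
    rcases he with rfl | rfl
    · have hV4 : Nat.card V = 2 ^ 2 :=
        le_antisymm (hVc ▸ Nat.le_of_dvd (by norm_num) hOc) (by rw [hVc]; norm_num; exact hO4)
      obtain ⟨T, hT8, hVT⟩ := Sylow.exists_subgroup_card_pow_succ (G := G) (p := 2) (n := 2)
        (by rw [hG]; norm_num) hV4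
      have hidx : (V.subgroupOf T).index = 2 := by
        have := (V.subgroupOf T).card_mul_index
        rw [Nat.card_congr (subgroupOfEquivOfLe hVT).toEquiv, hV4, hT8] at this
        omega
      have h8 : 8 ∣ Nat.card M := by
        have := card_dvd_of_le
          ((normal_subgroupOf_iff_le_normalizer hVT).mp (normal_of_index_eq_two hidx))
        rwa [hT8] at this
      have h36 : 36 ∣ Nat.card M := by
        have := card_dvd_of_le hCM
        rwa [hCc] at this
      exact Nat.lcm_dvd h8 h36
    · have := card_dvd_of_le hCM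
      rwa [hCc] at this
  have hMi : M.index = 10 := by
    obtain ⟨k, hk⟩ := h72
    have hmul := M.card_mul_index
    rw [hk, hG] at hmul
    have h10 : k * M.index = 10 := by linarith
    have h7 := lt_index hG hMtop
    have hk1 : k ≤ 1 := by nlinarith
    interval_cases k <;> omega
  exact hV1 (eq_bot_of_two_subgroup hG hMi le_normalizer le_rfl hVp)

/-- An element of order eight fixing exactly the two fixed points of its fourth power is odd. -/
theorem sign_of_eight {α : Type*} [Fintype α] [DecidableEq α] {σ : Equiv.Perm α}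
    (hcard : Fintype.card α = 10) (h8 : σ ^ 8 = 1) {a b : α} (hab : a ≠ b) (ha : σ a = a)
    (hb : σ b = b) (hf : ∀ c, (σ ^ 4) c = c → c = a ∨ c = b) : Equiv.Perm.sign σ = -1 := by
  have hall : ∀ n ∈ σ.cycleType, n = 8 := fun n hn => by
    have h1 : n ∣ 2 ^ 3 :=
      (Equiv.Perm.dvd_of_mem_cycleType hn).trans (orderOf_dvd_of_pow_eq_one h8)
    rw [Equiv.Perm.cycleType_def, Multiset.mem_map] at hn
    obtain ⟨c, hc, hcard'⟩ := hn
    obtain ⟨hcyc, hagree⟩ := Equiv.Perm.mem_cycleFactorsFinset_iff.mp (Finset.mem_def.mpr hc)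
    have hcn : c.support.card = n := hcard'
    by_contra h8'
    have h4 : n ∣ 4 := by
      obtain ⟨i, hi, rfl⟩ := (Nat.dvd_prime_pow Nat.prime_two).mp h1
      interval_cases i <;> first | (norm_num at h8'; done) | norm_num
    have hc4 : c ^ 4 = 1 := by
      rw [← orderOf_dvd_iff_pow_eq_one, hcyc.orderOf, hcn]; exact h4
    obtain ⟨x, hx⟩ : c.support.Nonempty := Finset.card_pos.mp (by
      rw [hcn]
      exact Nat.pos_of_dvd_of_pos h4 (by norm_num))
    have hpow : ∀ k, (σ ^ k) x = (c ^ k) x := by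
      intro k
      induction k with
      | zero => rfl
      | succ k ih =>
        rw [pow_succ', Equiv.Perm.mul_apply, ih, pow_succ', Equiv.Perm.mul_apply,
          hagree _ (Equiv.Perm.pow_apply_mem_support.mpr hx)]
    have hx' : σ x ≠ x := by
      rw [← hagree x hx]; exact Equiv.Perm.mem_support.mp hx
    rcases hf x (by rw [hpow, hc4, Equiv.Perm.one_apply]) with rfl | rfl
    · exact hx' ha
    · exact hx' hb
  have hrep : σ.cycleType = Multiset.replicate σ.cycleType.card 8 :=
    Multiset.eq_replicate_card.mpr hall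
  have hne : σ ≠ 1 := by
    intro h
    obtain ⟨c, hc⟩ : ∃ c, c ∉ ({a, b} : Finset α) := by
      by_contra hc
      push Not at hc
      have := Finset.card_le_card (fun x (_ : x ∈ Finset.univ) => hc x)
      rw [Finset.card_univ, hcard, Finset.card_pair hab] at this
      norm_num at this
    rcases hf c (by rw [h, one_pow, Equiv.Perm.one_apply]) with rfl | rfl <;> simp at hc
  have hsup : σ.support.card ≤ 8 := by
    have hsub : σ.support ⊆ ({a, b} : Finset α)ᶜ := by
      intro c hc
      rw [Finset.mem_compl, Finset.mem_insert, Finset.mem_singleton]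
      rintro (rfl | rfl)
      · exact Equiv.Perm.mem_support.mp hc ha
      · exact Equiv.Perm.mem_support.mp hc hb
    refine (Finset.card_le_card hsub).trans ?_
    rw [Finset.card_compl, hcard, Finset.card_pair hab]
  have hsum := Equiv.Perm.sum_cycleType σ
  rw [hrep, Multiset.sum_replicate, smul_eq_mul] at hsum
  have hk : 0 < σ.cycleType.card := Equiv.Perm.card_cycleType_pos.mpr hne
  have hone : σ.cycleType.card = 1 := by omega
  rw [Equiv.Perm.sign_of_cycleType, hrep, hone]
  rfl

/-- No simple group has order 720. -/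
theorem card_ne_720 : Nat.card G ≠ 720 := by
  intro hG
  have hne := not_comm hG
  have : Fact (Nat.Prime 3) := ⟨Nat.prime_three⟩
  have : Fact (Nat.Prime 2) := ⟨Nat.prime_two⟩
  have hG3 : Nat.card G = 3 ^ 2 * 80 := by rw [hG]; norm_num
  have hS := SmallGroups.card_sylow_eq hG3 (by norm_num)
  have h10 : Nat.card (Sylow 3 G) = 10 := by
    have hmod : Nat.card (Sylow 3 G) ≡ 1 [MOD 3 ^ 2] := by
      by_contra hmod
      obtain ⟨Q, R, hQR, hidx⟩ := SmallGroups.exists_small_index_inter 2 hmod
      have hbot : (R : Subgroup G).subgroupOf (Q : Subgroup G) = ⊥ :=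
        (eq_bot_iff_forall _).mpr fun x hx => Subtype.ext (sylow_three_ti hG hQR x.2 hx)
      rw [hbot, index_bot, hS Q] at hidx
      norm_num at hidx
    have hm := SmallGroups.card_sylow_mem_list hG3 (by norm_num)
    rw [show (Nat.divisors 80).filter (fun d => d % 3 = 1) = {1, 4, 10, 16, 40} by decide] at hm
    simp only [Finset.mem_insert, Finset.mem_singleton] at hm
    have h1 := SmallGroups.card_sylow_ne_one hne (p := 3) (by rw [hG]; norm_num)
    unfold Nat.ModEq at hmod
    omega
  obtain ⟨P⟩ := (inferInstance : Nonempty (Sylow 3 G))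
  set M := normalizer ((P : Subgroup G) : Set G) with hMdef
  have hMi : M.index = 10 := P.card_eq_index_normalizer.symm.trans h10
  set o := ((1 : G) : G ⧸ M) with ho
  have hfixo : ∀ m : G, m ∈ M ↔ m • o = o := fun m => by
    rw [ho, show m • ((1 : G) : G ⧸ M) = ((1 : G) : G ⧸ M) ↔
      ((1 : G) : G ⧸ M) ∈ MulAction.fixedBy (G ⧸ M) m from Iff.rfl,
      SmallGroups.mk_mem_fixedBy_iff]
    simp
  have hcardX : Nat.card (G ⧸ M) = 10 := by rw [← index_eq_card, hMi]
  -- `P` is regular off its point
  have hfree : ∀ x ∈ (P : Subgroup G), ∀ b : G ⧸ M, b ≠ o → x • b = b → x = 1 := by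
    intro x hx b hb hxb
    induction b using QuotientGroup.induction_on with
    | _ g =>
    have hm := (SmallGroups.mk_mem_fixedBy_iff M x g).mp hxb
    have hp : IsPGroup 3 (zpowers (g⁻¹ * x * g)) := by
      obtain ⟨k, -, hk⟩ := (Nat.dvd_prime_pow Nat.prime_three).mp (hS P ▸ orderOf_dvd_natCard _ hx)
      refine IsPGroup.of_card (n := k) ?_
      rw [Nat.card_zpowers, show g⁻¹ * x * g = MulAut.conj g⁻¹ x by simp, MulEquiv.orderOf_eq, hk]
    have h2 : g⁻¹ * x * g ∈ zpowers (g⁻¹ * x * g) ⊓ normalizer ((P : Subgroup G) : Set G) :=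
      ⟨mem_zpowers _, hm⟩
    have h3 : zpowers (g⁻¹ * x * g) ⊓ normalizer ((P : Subgroup G) : Set G) =
        zpowers (g⁻¹ * x * g) ⊓ (P : Subgroup G) := hp.inf_normalizer_sylow P
    rw [h3] at h2
    have hgP : g • P ≠ P := fun h => hb (by
      rw [ho, QuotientGroup.eq, mul_one, inv_mem_iff]
      exact Sylow.smul_eq_iff_mem_normalizer.mp h)
    refine sylow_three_ti hG hgP ?_ hx
    exact ⟨g⁻¹ * x * g, h2.2, by show g * (g⁻¹ * x * g) * g⁻¹ = x; group⟩
  obtain ⟨a, hao⟩ : ∃ a : G ⧸ M, a ≠ o := by
    have : Nontrivial (G ⧸ M) := Finite.one_lt_card_iff_nontrivial.mp (by rw [hcardX]; norm_num)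
    exact exists_ne o
  have hPo : ∀ x ∈ (P : Subgroup G), x • o = o := fun x hx => (hfixo x).mp (le_normalizer hx)
  have hinj : ∀ x ∈ (P : Subgroup G), ∀ y ∈ (P : Subgroup G), x • a = y • a → x = y := by
    intro x hx y hy h
    exact (inv_mul_eq_one.mp (hfree _ ((P : Subgroup G).mul_mem ((P : Subgroup G).inv_mem hy) hx) a hao
      (by rw [mul_smul, h, inv_smul_smul]))).symm
  have hsurj : ∀ b : G ⧸ M, b ≠ o → ∃ x ∈ (P : Subgroup G), x • a = b := by
    intro b hb
    let f : ↥(P : Subgroup G) → {b : G ⧸ M // b ≠ o} := fun x =>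
      ⟨(x : G) • a, fun h => hao (by
        rw [← hPo _ x.2] at h
        exact smul_left_cancel _ h)⟩
    have hf : Function.Injective f := fun x y h =>
      Subtype.ext (hinj x x.2 y y.2 (congrArg Subtype.val h))
    have hcard : Nat.card (P : Subgroup G) = Nat.card {b : G ⧸ M // b ≠ o} := by
      classical
      have := Fintype.ofFinite (G ⧸ M)
      rw [hS P, Nat.card_eq_fintype_card, Fintype.card_subtype_compl, Fintype.card_subtype_eq,
        ← Nat.card_eq_fintype_card, hcardX]
      norm_num
    obtain ⟨x, hx⟩ := ((Nat.bijective_iff_injective_and_card f).mpr ⟨hf, hcard⟩).2 ⟨b, hb⟩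
    exact ⟨x, x.2, congrArg Subtype.val hx⟩
  -- the two point stabiliser
  set H : Subgroup G := M ⊓ MulAction.stabilizer G a with hH
  have hmemH : ∀ h : G, h ∈ H ↔ h • o = o ∧ h • a = a := fun h => by
    rw [hH, mem_inf, MulAction.mem_stabilizer_iff, hfixo]
  have hH8 : Nat.card H = 8 := by
    have hst : MulAction.stabilizer M a = H.subgroupOf M := by
      ext m
      rw [MulAction.mem_stabilizer_iff, mem_subgroupOf, hH, mem_inf, MulAction.mem_stabilizer_iff]
      exact ⟨fun h => ⟨m.2, h⟩, fun h => h.2⟩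
    have horb : MulAction.orbit M a = {o}ᶜ := by
      ext b
      simp only [MulAction.mem_orbit_iff, Set.mem_compl_iff, Set.mem_singleton_iff]
      constructor
      · rintro ⟨m, rfl⟩ h
        refine hao (smul_left_cancel (m : G) ?_)
        rw [(hfixo m).mp m.2]
        exact h
      · intro hb
        obtain ⟨x, hx, rfl⟩ := hsurj b hb
        exact ⟨⟨x, le_normalizer hx⟩, rfl⟩
    have h9 : (H.subgroupOf M).index = 9 := by
      rw [← hst, MulAction.index_stabilizer, horb, Set.ncard_compl, Set.ncard_singleton, hcardX]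
    have := (H.subgroupOf M).card_mul_index
    rw [h9, Nat.card_congr (subgroupOfEquivOfLe inf_le_left).toEquiv,
      card_of_index_ten hG hMi] at this
    rw [hH]; omega
  have hPc : ∀ x ∈ (P : Subgroup G), ∀ h ∈ H, h * x * h⁻¹ ∈ (P : Subgroup G) :=
    fun x hx h hh => (mem_normalizer_iff.mp ((hfixo h).mpr ((hmemH h).mp hh).1) x).mp hx
  have hPab := IsPGroup.isMulCommutative_of_card_eq_prime_sq (hS P)
  -- involutions of `H` invert `P`
  have hinvol : ∀ v ∈ H, v * v = 1 → v ≠ 1 →
      (∀ x ∈ (P : Subgroup G), v * x * v⁻¹ = x⁻¹) ∧ (∀ b : G ⧸ M, v • b = b → b = o ∨ b = a) := by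
    intro v hv hvv hv1
    obtain ⟨hvo, hva⟩ := (hmemH v).mp hv
    have hv2 : v ^ 2 = 1 := by rw [pow_two, hvv]
    set K := (P : Subgroup G) ⊓ centralizer ({v} : Set G) with hK
    have hKfix : ∀ x ∈ (P : Subgroup G), v • (x • a) = x • a ↔ x ∈ K := by
      intro x hx
      have he : v • (x • a) = (v * x * v⁻¹) • a := by
        have hva' : v⁻¹ • a = a := inv_smul_eq_iff.mpr hva.symm
        rw [mul_smul, mul_smul, hva']
      rw [he, hK, mem_inf, mem_centralizer_singleton_iff]
      constructor
      · intro h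
        refine ⟨hx, ?_⟩
        have := mul_inv_eq_iff_eq_mul.mp (hinj _ (hPc x hx v hv) x hx h)
        exact this.symm
      · rintro ⟨-, h⟩
        rw [show v * x * v⁻¹ = x from mul_inv_eq_iff_eq_mul.mpr h.symm]
    have hfixcard : Nat.card (MulAction.fixedBy (G ⧸ M) v) = Nat.card K + 1 := by
      classical
      rw [← Finite.card_option]
      symm
      refine Nat.card_congr (Equiv.ofBijective (fun k : Option K => k.elim
        (⟨o, hvo⟩ : MulAction.fixedBy (G ⧸ M) v)
        (fun x => ⟨(x : G) • a, (hKfix x x.2.1).mpr x.2⟩)) ⟨?_, ?_⟩)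
      · rintro (_ | x) (_ | y) h
        · rfl
        · exfalso
          have h' : o = (y : G) • a := congrArg Subtype.val h
          rw [← hPo y y.2.1] at h'
          exact hao (smul_left_cancel _ h').symm
        · exfalso
          have h' : (x : G) • a = o := congrArg Subtype.val h
          rw [← hPo x x.2.1] at h'
          exact hao (smul_left_cancel _ h')
        · exact congrArg some (Subtype.ext (hinj x x.2.1 y y.2.1 (congrArg Subtype.val h)))
      · rintro ⟨b, hb⟩
        by_cases hbo : b = o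
        · exact ⟨none, Subtype.ext hbo.symm⟩
        · obtain ⟨x, hx, rfl⟩ := hsurj b hbo
          exact ⟨some ⟨x, (hKfix x hx).mp hb⟩, rfl⟩
    have h4 := four_dvd_card_moved hne M hv2
    have hmpos := card_moved_pos M (index_ten_ne_top hMi) hv1
    have hsum := card_moved_add_fixed (α := G ⧸ M) v
    rw [hcardX, hfixcard] at hsum
    have hK9 : Nat.card K ∣ 3 ^ 2 := hS P ▸ card_dvd_of_le inf_le_left
    obtain ⟨i, hi, hKi⟩ := (Nat.dvd_prime_pow Nat.prime_three).mp hK9
    have hK1 : Nat.card K = 1 := by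
      rw [hKi] at hsum ⊢
      rcases (show i = 0 ∨ i = 1 ∨ i = 2 by omega) with rfl | rfl | rfl <;> simp only [pow_zero, pow_one, Nat.reducePow] at hsum ⊢ <;> omega
    have hKbot : K = ⊥ := card_eq_one.mp hK1
    refine ⟨fun x hx => ?_, fun b hb => ?_⟩
    · have hw : x * (v * x * v⁻¹) ∈ K := by
        refine ⟨(P : Subgroup G).mul_mem hx (hPc x hx v hv), mem_centralizer_singleton_iff.mpr ?_⟩
        have hcomm : x * (v * x * v⁻¹) = v * x * v⁻¹ * x := congrArg Subtype.val
          (hPab.is_comm.comm (⟨x, hx⟩ : (P : Subgroup G)) ⟨_, hPc x hx v hv⟩)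
        have hvi : v⁻¹ = v := inv_eq_of_mul_eq_one_right hvv
        rw [hvi] at hcomm ⊢
        calc x * (v * x * v) * v = x * v * x * (v * v) := by group
          _ = v * (v * x * v * x) := by rw [hvv, mul_one]; simp only [← mul_assoc, hvv, one_mul]
          _ = v * (x * (v * x * v)) := by rw [hcomm]
      rw [hKbot, mem_bot] at hw
      exact eq_inv_of_mul_eq_one_right hw
    · by_cases hbo : b = o
      · exact Or.inl hbo
      obtain ⟨x, hx, rfl⟩ := hsurj b hbo
      have := (hKfix x hx).mp hb
      rw [hKbot, mem_bot] at this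
      exact Or.inr (by rw [this, one_smul])
  have huniq : ∀ v ∈ H, ∀ w ∈ H, v * v = 1 → v ≠ 1 → w * w = 1 → w ≠ 1 → w = v := by
    intro v hv w hw hvv hv1 hww hw1
    by_contra hwv
    have hprod : w * v ≠ 1 := fun h => hwv (by
      rw [eq_inv_of_mul_eq_one_left h]; exact inv_eq_of_mul_eq_one_right hvv)
    have hc : ∀ x ∈ (P : Subgroup G), w * v * x = x * (w * v) := by
      intro x hx
      have h1 := (hinvol v hv hvv hv1).1 x hx
      have h2 := (hinvol w hw hww hw1).1 x⁻¹ ((P : Subgroup G).inv_mem hx)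
      rw [inv_inv] at h2
      calc w * v * x = w * (v * x * v⁻¹) * w⁻¹ * (w * v) := by group
        _ = x * (w * v) := by rw [h1, h2]
    obtain ⟨b, hb⟩ := exists_moved M (index_ten_ne_top hMi) hprod
    apply hb
    by_cases hbo : b = o
    · rw [hbo]; exact ((hmemH _).mp (H.mul_mem hw hv)).1
    · obtain ⟨x, hx, rfl⟩ := hsurj b hbo
      rw [← mul_smul, hc x hx, mul_smul, ((hmemH _).mp (H.mul_mem hw hv)).2]
  obtain ⟨v₀, hv₀⟩ := exists_prime_orderOf_dvd_card' (G := H) 2 (by rw [hH8]; norm_num)
  obtain ⟨v, hvH, hvv, hv1⟩ : ∃ v : G, v ∈ H ∧ v * v = 1 ∧ v ≠ 1 := ⟨v₀, v₀.2,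
    by rw [← pow_two, ← hv₀, ← Subgroup.orderOf_coe, pow_orderOf_eq_one],
    fun h => by rw [← Subgroup.orderOf_coe, h, orderOf_one] at hv₀; norm_num at hv₀⟩
  have hvi : v⁻¹ = v := inv_eq_of_mul_eq_one_right hvv
  have hvfix := (hinvol v hvH hvv hv1).2
  -- the other elements of `H` square to `v`
  have hsq : ∀ h ∈ H, h ≠ 1 → h ≠ v → h * h = v := by
    intro h hh h1 h2
    have hhh : h * h ≠ 1 := fun h3 => h2 (huniq v hvH h hh hvv hv1 h3 h1)
    by_contra hne2
    have h4 : h * h * (h * h) ≠ 1 := fun h4 =>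
      hne2 (huniq v hvH _ (H.mul_mem hh hh) hvv hv1 h4 hhh)
    have h8 : h ^ 8 = 1 := by
      rw [← orderOf_dvd_iff_pow_eq_one, ← hH8]; exact orderOf_dvd_natCard H hh
    have hh4 : h ^ 4 = v := by
      refine huniq v hvH _ (H.pow_mem hh 4) hvv hv1 (by rw [← pow_add]; exact h8) ?_
      rw [show h ^ 4 = h * h * (h * h) by simp only [pow_succ, pow_zero, one_mul, mul_assoc]]
      exact h4
    classical
    have := Fintype.ofFinite (G ⧸ M)
    have hsign := sign_of_eight (σ := MulAction.toPermHom G (G ⧸ M) h)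
      (by rw [← Nat.card_eq_fintype_card, hcardX]) (by rw [← map_pow, h8, map_one]) hao.symm
      ((hmemH h).mp hh).1 ((hmemH h).mp hh).2
      (fun c hc => by rw [← map_pow, hh4] at hc; exact hvfix c hc)
    rw [SmallGroups.sign_hom_eq_one hne] at hsign
    exact absurd hsign (by decide)
  have hinvx : ∀ x ∈ H, x * x = v → x⁻¹ = x * v := fun x _ hx =>
    inv_eq_of_mul_eq_one_right (by rw [← mul_assoc, hx, hvv])
  have hvc : ∀ x : G, x * x = v → x * v = v * x := fun x hx => by rw [← hx, mul_assoc]
  -- elements of order four invert each other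
  have hdich : ∀ x ∈ H, x * x = v → ∀ z ∈ H, (z = 1 ∨ z = v ∨ z = x ∨ z = x⁻¹) ∨
      (z * z = v ∧ z * x * z⁻¹ = x⁻¹) := by
    intro x hx hxx z hz
    by_cases h1 : z = 1
    · exact Or.inl (Or.inl h1)
    by_cases h2 : z = v
    · exact Or.inl (Or.inr (Or.inl h2))
    by_cases h3 : z = x
    · exact Or.inl (Or.inr (Or.inr (Or.inl h3)))
    by_cases h4 : z = x⁻¹
    · exact Or.inl (Or.inr (Or.inr (Or.inr h4)))
    have hzz := hsq z hz h1 h2
    refine Or.inr ⟨hzz, ?_⟩
    have hxz1 : x * z ≠ 1 := fun h => h4 (eq_inv_of_mul_eq_one_right h)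
    have hxzv : x * z ≠ v := fun h => h3 (mul_left_cancel (h.trans hxx.symm))
    have hxz := hsq _ (H.mul_mem hx hz) hxz1 hxzv
    have hzxz : z * x * z = x⁻¹ * v := by
      rw [← hxz]; group
    rw [hinvx z hz hzz, hinvx x hx hxx]
    calc z * x * (z * v) = z * x * z * v := by simp only [mul_assoc]
      _ = x⁻¹ * v * v := by rw [hzxz]
      _ = x * v := by rw [mul_assoc, hvv, mul_one, hinvx x hx hxx]
  -- an element exchanging the two points
  obtain ⟨g, hgo, hga⟩ : ∃ g : G, g • o = a ∧ g • a = o := by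
    obtain ⟨g₀, hg₀⟩ := MulAction.exists_smul_eq G o a
    have hb : g₀⁻¹ • o ≠ o := fun h => hao (by
      rw [inv_smul_eq_iff, hg₀] at h
      exact h.symm)
    obtain ⟨x, hx, hxa⟩ := hsurj _ hb
    exact ⟨g₀ * x, by rw [mul_smul, hPo x hx, hg₀], by rw [mul_smul, hxa, smul_inv_smul]⟩
  have hnorm : ∀ h ∈ H, g * h * g⁻¹ ∈ H := by
    intro h hh
    obtain ⟨h1, h2⟩ := (hmemH h).mp hh
    have hg1 : g⁻¹ • o = a := inv_smul_eq_iff.mpr hga.symm
    have hg2 : g⁻¹ • a = o := inv_smul_eq_iff.mpr hgo.symm
    exact (hmemH _).mpr ⟨by rw [mul_smul, mul_smul, hg1, h2, hga],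
      by rw [mul_smul, mul_smul, hg2, h1, hgo]⟩
  have hgv : g * v * g⁻¹ = v := huniq v hvH _ (hnorm v hvH) hvv hv1
    (by calc g * v * g⁻¹ * (g * v * g⁻¹) = g * (v * v) * g⁻¹ := by group
      _ = 1 := by rw [hvv]; group)
    (fun h => hv1 (conj_eq_one_iff.mp h))
  have hg2 : g * g ∈ H :=
    (hmemH _).mpr ⟨by rw [mul_smul, hgo, hga], by rw [mul_smul, hga, hgo]⟩
  obtain ⟨x₀, hx₀, hx₀1, hx₀v⟩ : ∃ x ∈ H, x ≠ 1 ∧ x ≠ v := by
    by_contra hc
    push Not at hc
    classical
    have hsub : (H : Set G) ⊆ ({1, v} : Finset G) := fun x hx => by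
      by_cases h1 : x = 1
      · simp [h1]
      · simp [hc x hx h1]
    have := Set.ncard_le_ncard hsub (Set.toFinite _)
    rw [Set.ncard_coe_finset] at this
    rw [← Nat.card_coe_set_eq] at this
    have h2 := Finset.card_le_two (a := (1 : G)) (b := v)
    simp only [SetLike.coe_sort_coe] at this
    omega
  -- an element of order four fixed up to inversion
  obtain ⟨x, hxH, hxx, hgx⟩ : ∃ x ∈ H, x * x = v ∧ (g * x * g⁻¹ = x ∨ g * x * g⁻¹ = x⁻¹) := by
    have hxx₀ := hsq x₀ hx₀ hx₀1 hx₀v
    set y₀ := g * x₀ * g⁻¹ with hy₀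
    have hy₀H : y₀ ∈ H := hnorm x₀ hx₀
    have hy₀2 : y₀ * y₀ = v := by
      rw [hy₀, show g * x₀ * g⁻¹ * (g * x₀ * g⁻¹) = g * (x₀ * x₀) * g⁻¹ by group, hxx₀, hgv]
    rcases hdich x₀ hx₀ hxx₀ y₀ hy₀H with (h | h | h | h) | ⟨-, h⟩
    · exact absurd h fun h => hv1 (by rw [← hy₀2, h, one_mul])
    · exact absurd h fun h => hv1 (by rw [← hy₀2, h, hvv])
    · exact ⟨x₀, hx₀, hxx₀, Or.inl h⟩
    · exact ⟨x₀, hx₀, hxx₀, Or.inr h⟩
    have hx1 : x₀ * y₀ ≠ 1 := fun h1 => by
      have hy : y₀ = x₀⁻¹ := eq_inv_of_mul_eq_one_right h1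
      have h2 : x₀ = x₀⁻¹ := by rw [← h, hy]; group
      have h3 : x₀ * x₀ = 1 := by nth_rewrite 1 [h2]; exact inv_mul_cancel x₀
      rw [hxx₀] at h3
      exact hv1 h3
    have hxv : x₀ * y₀ ≠ v := fun h1 => by
      have hy : y₀ = x₀ := mul_left_cancel (h1.trans hxx₀.symm)
      rw [hy, mul_inv_cancel_right] at h
      have h3 : x₀ * x₀ = 1 := by nth_rewrite 1 [h]; exact inv_mul_cancel x₀
      rw [hxx₀] at h3
      exact hv1 h3
    refine ⟨x₀ * y₀, H.mul_mem hx₀ hy₀H, hsq _ (H.mul_mem hx₀ hy₀H) hx1 hxv, ?_⟩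
    have hgg : g * g * x₀ * (g * g)⁻¹ = x₀ ∨ g * g * x₀ * (g * g)⁻¹ = x₀⁻¹ := by
      rcases hdich x₀ hx₀ hxx₀ (g * g) hg2 with (h' | h' | h' | h') | ⟨-, h'⟩
      · left; rw [h']; group
      · left; rw [h', hvi, ← hvc x₀ hxx₀, mul_assoc, hvv, mul_one]
      · left; rw [h']; group
      · left; rw [h']; group
      · exact Or.inr h'
    have he : g * (x₀ * y₀) * g⁻¹ = y₀ * (g * g * x₀ * (g * g)⁻¹) := by
      rw [hy₀]; group
    have hinv : (x₀ * y₀)⁻¹ = y₀ * x₀ := by
      rw [mul_inv_rev, hinvx y₀ hy₀H hy₀2, hinvx x₀ hx₀ hxx₀]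
      calc y₀ * v * (x₀ * v) = y₀ * (v * x₀) * v := by group
        _ = y₀ * x₀ * (v * v) := by rw [← hvc x₀ hxx₀]; group
        _ = y₀ * x₀ := by rw [hvv, mul_one]
    rcases hgg with h' | h'
    · right; rw [he, h', hinv]
    · left
      rw [he, h', hinvx x₀ hx₀ hxx₀, ← mul_assoc, ← hinv,
        hinvx _ (H.mul_mem hx₀ hy₀H) (hsq _ (H.mul_mem hx₀ hy₀H) hx1 hxv), mul_assoc, hvv, mul_one]
  -- a second element of order four
  obtain ⟨y, hyH, hyx⟩ : ∃ y ∈ H, ¬ (y = 1 ∨ y = v ∨ y = x ∨ y = x⁻¹) := by
    by_contra hc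
    push Not at hc
    classical
    have hsub : (H : Set G) ⊆ ({1, v, x, x⁻¹} : Finset G) := fun y hy => by
      by_cases h1 : y = 1
      · simp [h1]
      by_cases h2 : y = v
      · simp [h2]
      by_cases h3 : y = x
      · simp [h3]
      · rcases hc y hy with h | h | h | h <;> simp [h]
    have := Set.ncard_le_ncard hsub (Set.toFinite _)
    rw [Set.ncard_coe_finset] at this
    rw [← Nat.card_coe_set_eq] at this
    have h4 := Finset.card_le_four (a := (1 : G)) (b := v) (c := x) (d := x⁻¹)
    simp only [SetLike.coe_sort_coe] at this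
    omega
  obtain ⟨hyy, hyxy⟩ := (hdich x hxH hxx y hyH).resolve_left hyx
  -- a swapper centralising `x`
  obtain ⟨c, hco, hca, hcx⟩ : ∃ c : G, c • o = a ∧ c • a = o ∧ c * x = x * c := by
    rcases hgx with h | h
    · exact ⟨g, hgo, hga, mul_inv_eq_iff_eq_mul.mp h⟩
    · obtain ⟨hyo, hya⟩ := (hmemH y).mp hyH
      refine ⟨g * y, by rw [mul_smul, hyo, hgo], by rw [mul_smul, hya, hga],
        mul_inv_eq_iff_eq_mul.mp ?_⟩
      calc g * y * x * (g * y)⁻¹ = g * (y * x * y⁻¹) * g⁻¹ := by group
        _ = (g * x * g⁻¹)⁻¹ := by rw [hyxy]; group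
        _ = x := by rw [h, inv_inv]
  have hxo := (hmemH x).mp hxH
  -- the centralizer of `x`
  have hCx : ∀ z : G, z * x = x * z → (z = 1 ∨ z = v ∨ z = x ∨ z = x⁻¹) ∨
      (c⁻¹ * z = 1 ∨ c⁻¹ * z = v ∨ c⁻¹ * z = x ∨ c⁻¹ * z = x⁻¹) := by
    intro z hz
    have hzv : z * v = v * z := by rw [← hxx, ← mul_assoc, hz, mul_assoc, hz, ← mul_assoc]
    have hfix : ∀ b : G ⧸ M, v • b = b → v • (z • b) = z • b := fun b hb => by
      rw [← mul_smul, ← hzv, mul_smul, hb]
    have hvo := (hmemH v).mp hvH
    have hin : ∀ w : G, w * x = x * w → w ∈ H → w = 1 ∨ w = v ∨ w = x ∨ w = x⁻¹ := by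
      intro w hw hwH
      rcases hdich x hxH hxx w hwH with h | ⟨-, h⟩
      · exact h
      · exfalso
        rw [hw, mul_inv_cancel_right] at h
        have h3 : x * x = 1 := by nth_rewrite 1 [h]; exact inv_mul_cancel x
        rw [hxx] at h3
        exact hv1 h3
    rcases hvfix _ (hfix o hvo.1) with h1 | h1
    · left
      rcases hvfix _ (hfix a hvo.2) with h2 | h2
      · exact absurd (smul_left_cancel z (h2.trans h1.symm)) hao
      · exact hin z hz ((hmemH z).mpr ⟨h1, h2⟩)
    · right
      rcases hvfix _ (hfix a hvo.2) with h2 | h2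
      · refine hin _ ?_ ((hmemH _).mpr ⟨by rw [mul_smul, h1, inv_smul_eq_iff, hco],
          by rw [mul_smul, h2, inv_smul_eq_iff, hca]⟩)
        calc c⁻¹ * z * x = c⁻¹ * (x * c) * c⁻¹ * z := by rw [mul_assoc, hz]; group
          _ = x * (c⁻¹ * z) := by rw [← hcx]; group
      · exact absurd (smul_left_cancel z (h2.trans h1.symm)) hao
  have hcv : c * v = v * c := by rw [← hxx, ← mul_assoc, hcx, mul_assoc, hcx, ← mul_assoc]
  -- no involution exchanging the points centralises `x`
  have hnoinv : ∀ u : G, u • o = a → u • a = o → u * x = x * u → u * u = 1 → False := by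
    intro u huo hua hux huu
    have hw : x * u * (x * u) = v := by
      calc x * u * (x * u) = x * (u * x) * u := by group
        _ = (x * x) * (u * u) := by rw [hux]; group
        _ = v := by rw [hxx, huu, mul_one]
    have hw4 : (x * u) ^ 4 = 1 := by
      rw [show 4 = 2 * 2 from rfl, pow_mul, pow_two, pow_two, hw, hvv]
    have hff : ∀ b : G ⧸ M, (x * u) • b ≠ b := by
      intro b hb
      have hvb : v • b = b := by rw [← hw, mul_smul, hb, hb]
      rcases hvfix b hvb with rfl | rfl
      · rw [mul_smul, huo, hxo.2] at hb; exact hao hb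
      · rw [mul_smul, hua, hxo.1] at hb; exact hao hb.symm
    have h := even_of_fpf hne M hw4 hff
    rw [hw] at h
    have h2 : Nat.card (MulAction.fixedBy (G ⧸ M) v) = 2 := by
      rw [Nat.card_coe_set_eq]
      have : MulAction.fixedBy (G ⧸ M) v = {o, a} := by
        ext b
        refine ⟨fun hb => hvfix b hb, ?_⟩
        rintro (rfl | rfl)
        · exact ((hmemH v).mp hvH).1
        · exact ((hmemH v).mp hvH).2
      rw [this, Set.ncard_pair hao.symm]
    rw [h2, hMi] at h
    exact absurd h (by decide)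
  have hxi : x⁻¹ = x * v := hinvx x hxH hxx
  have hc2 : c * c = x ∨ c * c = x⁻¹ := by
    have hccx : c * c * x = x * (c * c) := by rw [mul_assoc, hcx, ← mul_assoc, hcx, mul_assoc]
    rcases hCx (c * c) hccx with (h | h | h | h) | h'
    · exact (hnoinv c hco hca hcx h).elim
    · refine (hnoinv (c * x) (by rw [mul_smul, hxo.1, hco]) (by rw [mul_smul, hxo.2, hca])
        (by rw [hcx, mul_assoc, hcx]) ?_).elim
      calc c * x * (c * x) = c * (x * c) * x := by group
        _ = (c * c) * (x * x) := by rw [← hcx]; group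
        _ = 1 := by rw [h, hxx, hvv]
    · exact Or.inl h
    · exact Or.inr h
    · exfalso
      rw [inv_mul_cancel_left] at h'
      have hco' : c • o = o := by
        rcases h' with h' | h' | h' | h' <;> rw [h']
        · rw [one_smul]
        · exact ((hmemH v).mp hvH).1
        · exact hxo.1
        · exact inv_smul_eq_iff.mpr hxo.1.symm
      exact hao (hco ▸ hco')
  have hc4 : c ^ 4 = v := by
    rcases hc2 with h | h <;> rw [show 4 = 2 * 2 from rfl, pow_mul, pow_two, pow_two, h]
    · exact hxx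
    · rw [← mul_inv_rev, hxx, hvi]
  set C := zpowers c with hC
  have hco8 : orderOf c = 8 := by
    refine orderOf_eq_prime_pow (p := 2) (n := 2) ?_ ?_
    · show ¬ c ^ 2 ^ 2 = 1
      rw [show 2 ^ 2 = 4 by norm_num, hc4]; exact hv1
    · show c ^ 2 ^ 3 = 1
      rw [show 2 ^ 3 = 4 + 4 by norm_num, pow_add, hc4, hvv]
  have hC8 : Nat.card C = 8 := by rw [hC, Nat.card_zpowers, hco8]
  -- the elements of `zpowers c` squaring to `v`
  have hroot : ∀ z ∈ C, z * z = v → z = x ∨ z = x⁻¹ := by
    intro z hz hzz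
    have hzc : z * x = x * z := by
      obtain ⟨i, rfl⟩ := hz
      exact ((show Commute c x from hcx).zpow_left i).eq
    rcases hCx z hzc with (h | h | h | h) | h
    · exact absurd (by rw [← hzz, h, one_mul]) hv1
    · exact absurd (by rw [← hzz, h, hvv]) hv1
    · exact Or.inl h
    · exact Or.inr h
    · exfalso
      have hzo : z • o = a := by
        have : (c⁻¹ * z) • o = o := by
          rcases h with h' | h' | h' | h' <;> rw [h']
          · rw [one_smul]
          · exact ((hmemH v).mp hvH).1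
          · exact hxo.1
          · exact inv_smul_eq_iff.mpr hxo.1.symm
        rw [mul_smul, inv_smul_eq_iff, hco] at this
        exact this
      have hza : z • a = o := by
        have : (c⁻¹ * z) • a = a := by
          rcases h with h' | h' | h' | h' <;> rw [h']
          · rw [one_smul]
          · exact ((hmemH v).mp hvH).2
          · exact hxo.2
          · exact inv_smul_eq_iff.mpr hxo.2.symm
        rw [mul_smul, inv_smul_eq_iff, hca] at this
        exact this
      -- then `x * z` squares to one and exchanges the points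
      refine hnoinv (x * z) (by rw [mul_smul, hzo, hxo.2]) (by rw [mul_smul, hza, hxo.1])
        (by rw [mul_assoc, hzc, ← mul_assoc]) ?_
      calc x * z * (x * z) = x * (z * x) * z := by group
        _ = (x * x) * (z * z) := by rw [hzc]; group
        _ = 1 := by rw [hxx, hzz, hvv]
  -- `y` fixes no coset of `C`
  have hfpf : ∀ b : G ⧸ C, y • b ≠ b := by
    intro b hb
    induction b using QuotientGroup.induction_on with
    | _ w =>
    have hw := (SmallGroups.mk_mem_fixedBy_iff C y w).mp hb
    have hwv : w⁻¹ * v * w ∈ C := by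
      rw [show w⁻¹ * v * w = (w⁻¹ * y * w) * (w⁻¹ * y * w) by rw [← hyy]; group]
      exact C.mul_mem hw hw
    have hwc : w⁻¹ * v * w = v := by
      obtain ⟨i, hi⟩ := hwv
      have hsq1 : (c ^ i) * (c ^ i) = 1 := by
        rw [show c ^ i = _ from hi]
        calc w⁻¹ * v * w * (w⁻¹ * v * w) = w⁻¹ * (v * v) * w := by group
          _ = 1 := by rw [hvv]; group
      rw [← hi]
      show c ^ i = v
      rw [← zpow_add, ← orderOf_dvd_iff_zpow_eq_one, hco8] at hsq1
      have hnot : ¬ ((8 : ℕ) : ℤ) ∣ i := fun h => by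
        rw [← hco8, orderOf_dvd_iff_zpow_eq_one, show c ^ i = _ from hi] at h
        exact hv1 (by
          have := congrArg (fun t => w * t * w⁻¹) h
          simpa [mul_assoc] using this)
      obtain ⟨k, hk⟩ : ∃ k : ℤ, i = 8 * k + 4 := ⟨i / 8, by
        push_cast at hsq1 hnot
        omega⟩
      rw [hk, zpow_add, zpow_mul, show c ^ (8 : ℤ) = 1 by
        rw [show (8 : ℤ) = ((orderOf c : ℕ) : ℤ) by rw [hco8]; rfl, zpow_natCast, pow_orderOf_eq_one], one_zpow, one_mul]
      exact_mod_cast hc4
    have hz : (w⁻¹ * y * w) * (w⁻¹ * y * w) = v := by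
      rw [← hwc, ← hyy]; group
    have hwv' : w * v = v * w := by
      calc w * v = w * (w⁻¹ * v * w) := by rw [hwc]
        _ = v * w := by group
    -- `w` stabilises the two points
    have hmove : ∀ b : G ⧸ M, v • b = b → v • (w • b) = w • b := fun b hb => by
      rw [← mul_smul, ← hwv', mul_smul, hb]
    have hvo := (hmemH v).mp hvH
    have hwH : ∃ h ∈ H, w = h ∨ w = c * h := by
      rcases hvfix _ (hmove o hvo.1) with h1 | h1
      · rcases hvfix _ (hmove a hvo.2) with h2 | h2
        · exact absurd (smul_left_cancel w (h2.trans h1.symm)) hao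
        · exact ⟨w, (hmemH w).mpr ⟨h1, h2⟩, Or.inl rfl⟩
      · rcases hvfix _ (hmove a hvo.2) with h2 | h2
        · exact ⟨c⁻¹ * w, (hmemH _).mpr ⟨by rw [mul_smul, h1, inv_smul_eq_iff, hco],
            by rw [mul_smul, h2, inv_smul_eq_iff, hca]⟩, Or.inr (by group)⟩
        · exact absurd (smul_left_cancel w (h2.trans h1.symm)) hao
    have hwx : w * x * w⁻¹ = x ∨ w * x * w⁻¹ = x⁻¹ := by
      obtain ⟨h, hh, hwh⟩ := hwH
      have hhx : h * x * h⁻¹ = x ∨ h * x * h⁻¹ = x⁻¹ := by
        rcases hdich x hxH hxx h hh with (h' | h' | h' | h') | ⟨-, h'⟩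
        · left; rw [h']; group
        · left; rw [h', hvi, ← hvc x hxx, mul_assoc, hvv, mul_one]
        · left; rw [h']; group
        · left; rw [h']; group
        · exact Or.inr h'
      rcases hwh with rfl | rfl
      · exact hhx
      · have hcx' : c * x * c⁻¹ = x := mul_inv_eq_iff_eq_mul.mpr hcx
        rcases hhx with h' | h'
        · left
          calc c * h * x * (c * h)⁻¹ = c * (h * x * h⁻¹) * c⁻¹ := by group
            _ = x := by rw [h', hcx']
        · right
          calc c * h * x * (c * h)⁻¹ = c * (h * x * h⁻¹) * c⁻¹ := by group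
            _ = (c * x * c⁻¹)⁻¹ := by rw [h']; group
            _ = x⁻¹ := by rw [hcx']
    have hy' : y = w * (w⁻¹ * y * w) * w⁻¹ := by group
    apply hyx
    rcases hroot _ hw hz with h | h <;> rw [h] at hy'
    · rcases hwx with h' | h'
      · exact Or.inr (Or.inr (Or.inl (hy'.trans h')))
      · exact Or.inr (Or.inr (Or.inr (hy'.trans h')))
    · rw [← conj_inv] at hy'
      rcases hwx with h' | h'
      · exact Or.inr (Or.inr (Or.inr (by rw [hy', h'])))
      · exact Or.inr (Or.inr (Or.inl (by rw [hy', h', inv_inv])))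
  -- the fixed points of `v` on the cosets of `C`
  have hCv : Nat.card (centralizer ({v} : Set G)) = 16 := by
    set D := centralizer ({v} : Set G) with hD
    have hDmem : ∀ z : G, z ∈ D ↔ z * v = v * z := fun z => mem_centralizer_singleton_iff
    have hmove : ∀ z ∈ D, ∀ b : G ⧸ M, v • b = b → v • (z • b) = z • b := fun z hz b hb => by
      rw [← mul_smul, ← (hDmem z).mp hz, mul_smul, hb]
    have hvo := (hmemH v).mp hvH
    have horb : MulAction.orbit D o = {o, a} := by
      ext b
      simp only [MulAction.mem_orbit_iff, Set.mem_insert_iff, Set.mem_singleton_iff]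
      constructor
      · rintro ⟨z, rfl⟩
        exact hvfix _ (hmove z z.2 o hvo.1)
      · rintro (rfl | rfl)
        · exact ⟨1, one_smul _ _⟩
        · exact ⟨⟨c, (hDmem c).mpr hcv⟩, hco⟩
    have hst : MulAction.stabilizer D o = H.subgroupOf D := by
      ext z
      rw [MulAction.mem_stabilizer_iff, mem_subgroupOf, hmemH]
      refine ⟨fun h => ⟨h, ?_⟩, fun h => h.1⟩
      rcases hvfix _ (hmove z z.2 a hvo.2) with h' | h'
      · exact absurd (smul_left_cancel (z : G) (h'.trans (show (z : G) • o = o from h).symm)) hao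
      · exact h'
    have hHD : H ≤ D := fun h hh => (hDmem h).mpr (by
      by_cases h1 : h = 1
      · rw [h1, one_mul, mul_one]
      by_cases h2 : h = v
      · rw [h2]
      exact hvc h (hsq h hh h1 h2))
    have h2 : (H.subgroupOf D).index = 2 := by
      rw [← hst, MulAction.index_stabilizer, horb, Set.ncard_pair hao.symm]
    have := (H.subgroupOf D).card_mul_index
    rw [h2, Nat.card_congr (subgroupOfEquivOfLe hHD).toEquiv, hH8] at this
    omega
  have hfixv : Nat.card (MulAction.fixedBy (G ⧸ C) v) = 2 := by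
    have hmul := SmallGroups.card_fixedBy_mul C v
    have hcls := SmallGroups.card_conj_mul_centralizer v
    rw [hCv, hG] at hcls
    have hone : Nat.card {z : G // IsConj v z ∧ z ∈ C} = 1 := by
      rw [Nat.card_eq_one_iff_unique]
      refine ⟨⟨fun p q => Subtype.ext ?_⟩, ⟨⟨v, IsConj.refl v, ?_⟩⟩⟩
      · have key : ∀ z, IsConj v z → z ∈ C → z = v := by
          intro z hz hzC
          have hcC : IsCyclic C := inferInstance
          obtain ⟨w, hw⟩ := isConj_iff.mp hz
          have hz2 : z * z = 1 := by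
            rw [← hw, show w * v * w⁻¹ * (w * v * w⁻¹) = w * (v * v) * w⁻¹ by group, hvv]; group
          have hz1 : z ≠ 1 := fun h => hv1 (conj_eq_one_iff.mp (hw.trans h))
          obtain ⟨i, hi⟩ := hzC
          have hi' : c ^ i = z := hi
          rw [← hi', ← zpow_add, ← orderOf_dvd_iff_zpow_eq_one, hco8] at hz2
          have hnot : ¬ ((8 : ℕ) : ℤ) ∣ i := fun h => by
            rw [← hco8, orderOf_dvd_iff_zpow_eq_one, hi'] at h
            exact hz1 h
          obtain ⟨k, hk⟩ : ∃ k : ℤ, i = 8 * k + 4 := ⟨i / 8, by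
            push_cast at hz2 hnot
            omega⟩
          rw [← hi', hk, zpow_add, zpow_mul, show c ^ (8 : ℤ) = 1 by
            rw [show (8 : ℤ) = ((orderOf c : ℕ) : ℤ) by rw [hco8]; rfl, zpow_natCast, pow_orderOf_eq_one], one_zpow, one_mul]
          exact_mod_cast hc4
        rw [key p.1 p.2.1 p.2.2, key q.1 q.2.1 q.2.2]
      · rw [← hc4]; exact C.pow_mem (mem_zpowers c) 4
    have hidx : C.index = 90 := by
      have := C.card_mul_index
      rw [hC8, hG] at this
      omega
    rw [hone, hidx] at hmul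
    have h45 : Nat.card {z : G // IsConj v z} = 45 := by omega
    rw [h45] at hmul
    omega
  have hy4 : y ^ 4 = 1 := by rw [show 4 = 2 * 2 from rfl, pow_mul, pow_two, pow_two, hyy, hvv]
  have h := even_of_fpf hne C hy4 hfpf
  rw [hyy, hfixv] at h
  have hidx : C.index = 90 := by
    have := C.card_mul_index
    rw [hC8, hG] at this
    omega
  rw [hidx] at h
  exact absurd h (by decide)

end Cfsg.Agent.Classification.Order720
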