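import Cfsg.Agent.Classification.SimpleOrderTools
import Cfsg.Agent.Lib.CharClifford.Burnside

set_option autoImplicit false

/-!
# A sieve for the orders of simple groups up to 1092

Sylow counts, the structure of the normaliser of a Sylow subgroup of prime order and the
normalisers of intersections of two Sylow subgroups exclude all orders but twelve.
-/

namespace Cfsg.Agent.Classification.Sieve

open Subgroup

/-- The primes up to 1092. -/
def primes : List ℕ :=
  [2, 3, 5, 7, 11, 13, 17, 19, 23, 29, 31, 37, 41, 43,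
   47, 53, 59, 61, 67, 71, 73, 79, 83, 89, 97, 101, 103, 107,
   109, 113, 127, 131, 137, 139, 149, 151, 157, 163, 167, 173, 179, 181,
   191, 193, 197, 199, 211, 223, 227, 229, 233, 239, 241, 251, 257, 263,
   269, 271, 277, 281, 283, 293, 307, 311, 313, 317, 331, 337, 347, 349,
   353, 359, 367, 373, 379, 383, 389, 397, 401, 409, 419, 421, 431, 433,
   439, 443, 449, 457, 461, 463, 467, 479, 487, 491, 499, 503, 509, 521,
   523, 541, 547, 557, 563, 569, 571, 577, 587, 593, 599, 601, 607, 613,
   617, 619, 631, 641, 643, 647, 653, 659, 661, 673, 677, 683, 691, 701,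
   709, 719, 727, 733, 739, 743, 751, 757, 761, 769, 773, 787, 797, 809,
   811, 821, 823, 827, 829, 839, 853, 857, 859, 863, 877, 881, 883, 887,
   907, 911, 919, 929, 937, 941, 947, 953, 967, 971, 977, 983, 991, 997,
   1009, 1013, 1019, 1021, 1031, 1033, 1039, 1049, 1051, 1061, 1063, 1069, 1087, 1091]

/-- `2 n ∣ k !`, or `k` is at least fourteen. -/
def big (n k : ℕ) : Bool := decide (14 ≤ k) || decide (k.factorial % (2 * n) = 0)

/-- The power of `q` in `n`. -/
def qPart (n q : ℕ) : ℕ := Nat.gcd n (q ^ 11)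

/-- No shape of the normaliser of a Sylow subgroup of order `q` fits `d` Sylow subgroups. -/
def killA (n q d : ℕ) : Bool :=
  (List.range q).all fun e => decide (e ≤ 1) || decide ((q - 1) % e ≠ 0) || decide (n / d % e ≠ 0) ||
    ([2, 3, 5, 7, 11, 13].any fun r => decide (r ≠ q) && decide (n / d / e % r = 0) &&
      decide (d - 1 < (if r = 2 then 4 else r) * q)) ||
    (decide (e % 2 = 0) && decide (n / d / e % 2 = 1) &&
      (List.range ((d - 1) / q + 1)).all fun i => decide ((d - (i + 1)) % 4 ≠ 0))

/-- No normaliser of an intersection of two Sylow `q`-subgroups fits. -/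
def killB (n q d : ℕ) : Bool :=
  decide (d % (q * q) ≠ 1) && (List.range (n / qPart n q + 1)).all fun k =>
    decide (k ≤ 1) || decide (n / qPart n q % k ≠ 0) || !(big n k) ||
      (List.range (n / qPart n q / k + 1)).all fun j =>
        decide (j ≤ 1) || decide (n / qPart n q / k % j ≠ 0) || decide (j % q ≠ 1)

/-- No number of Sylow `q`-subgroups is possible. -/
def killed (n q : ℕ) : Bool :=
  (List.range (n / qPart n q / q + 1)).all fun j =>
    decide (j = 0) || decide (n / qPart n q % (1 + q * j) ≠ 0) || !(big n (1 + q * j)) ||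
      (if qPart n q = q then killA n q (1 + q * j) else killB n q (1 + q * j))

/-- The orders surviving the sieve. -/
def survivors : List ℕ := [60, 168, 360, 504, 612, 660, 720, 756, 1008, 1040, 1080, 1092]

/-- At most two primes, a prime killing `n`, or a survivor. -/
def sieve (n : ℕ) : Bool :=
  survivors.contains n ||
    (primes.any fun q => decide (n % q = 0) && killed n q) ||
    (match primes.filter fun q => decide (n % q = 0) with
      | [q] => decide (q ^ 11 % n = 0)
      | [q, r] => decide ((q * r) ^ 11 % n = 0)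
      | _ => false)

theorem sieve_eq_true : ∀ n < 1093, 1 < n → sieve n = true := by decide +kernel

theorem prime_of_mem : ∀ q ∈ primes, q.Prime := by
  have h : ∀ q ∈ primes, 2 ≤ q ∧ q < 1156 ∧
      (List.range 34).all (fun m => decide (m < 2) || decide (q ≤ m) || decide (q % m ≠ 0)) = true := by
    decide +kernel
  intro q hq
  obtain ⟨h2, hlt, hall⟩ := h q hq
  refine Nat.prime_def_le_sqrt.mpr ⟨h2, fun m hm hms hd => ?_⟩
  have h1 : Nat.sqrt q < 34 := Nat.sqrt_lt.mpr (by omega)
  have h3 := Nat.sqrt_lt_self (show 1 < q by omega)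
  simp only [List.all_eq_true, List.mem_range, Bool.or_eq_true, decide_eq_true_eq] at hall
  rcases hall m (by omega) with (h4 | h4) | h4
  · omega
  · omega
  · exact h4 (Nat.mod_eq_zero_of_dvd hd)

variable {G : Type*} [Group G] [Finite G] [IsSimpleGroup G]

theorem big_of_ne_top (hG : ¬ IsMulCommutative G) {H : Subgroup G} (hH : H ≠ ⊤) :
    big (Nat.card G) H.index = true := by
  simp only [big, Bool.or_eq_true, decide_eq_true_eq]
  exact Or.inr (Nat.mod_eq_zero_of_dvd (SmallGroups.two_mul_card_dvd_index hG hH))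

theorem not_killA (hG : ¬ IsMulCommutative G) {q : ℕ} [hq : Fact q.Prime] (hqd : q ∣ Nat.card G)
    (P : Sylow q G) (hP : Nat.card ↥(P : Subgroup G) = q) :
    killA (Nat.card G) q (Nat.card (Sylow q G)) = false := by
  by_contra hk
  rw [Bool.not_eq_false] at hk
  simp only [killA, List.all_eq_true, List.mem_range, Bool.or_eq_true, Bool.and_eq_true,
    decide_eq_true_eq, List.any_eq_true] at hk
  set N := normalizer ((P : Subgroup G) : Set G) with hNdef
  set C := centralizer ((P : Subgroup G) : Set G) with hCdef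
  have hm : Nat.card G / Nat.card (Sylow q G) = Nat.card N := by
    rw [← SmallGroups.card_normalizer_mul P]
    exact Nat.mul_div_cancel _ Nat.card_pos
  set e := C.relIndex N
  have he1 : e ≠ 1 := fun h =>
    SmallGroups.not_normalizer_le_centralizer hG hqd P (relIndex_eq_one.mp h)
  have heq : e ∣ q - 1 := SmallGroups.relIndex_centralizer_dvd_of_prime _ hP
  have hem : e ∣ Nat.card N := SmallGroups.relIndex_dvd_normalizer P
  have hq2 := hq.out.two_le
  have he0 : 0 < e := Nat.pos_of_dvd_of_pos hem Nat.card_pos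
  have hlt : e < q := by
    have := Nat.le_of_dvd (by omega) heq
    omega
  have hC : Nat.card N / e = Nat.card C := by
    have h := (C.subgroupOf N).card_mul_index
    rw [Nat.card_congr (subgroupOfEquivOfLe (centralizer_le_normalizer _)).toEquiv] at h
    rw [← h]
    exact Nat.mul_div_cancel _ he0
  have h := hk e hlt
  rw [hm] at h
  rcases h with ((((h | h) | h) | ⟨r, hr, ⟨hrq, hrd⟩, hrlt⟩) | ⟨⟨he2, hc2⟩, hf⟩)
  · omega
  · exact h (Nat.mod_eq_zero_of_dvd heq)
  · exact h (Nat.mod_eq_zero_of_dvd hem)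
  · rw [hC] at hrd
    have : Fact r.Prime := ⟨by
      simp only [List.mem_cons, List.not_mem_nil, or_false] at hr
      rcases hr with rfl | rfl | rfl | rfl | rfl | rfl <;> norm_num⟩
    obtain ⟨y, hy⟩ := exists_prime_orderOf_dvd_card' (G := C) r (Nat.dvd_of_mod_eq_zero hrd)
    have := movedBlock_mul_le hG hrq hqd P hP y.2 (by rw [Subgroup.orderOf_coe]; exact hy)
    unfold movedBlock at this
    omega
  · rw [hC] at hc2
    have : Fact (Nat.Prime 2) := ⟨Nat.prime_two⟩
    obtain ⟨y, hy⟩ := exists_prime_orderOf_dvd_card' (G := N) 2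
      ((Nat.dvd_of_mod_eq_zero he2).trans hem)
    have hyC : (y : G) ∉ C := fun hyC => by
      have h2 : orderOf (⟨y, hyC⟩ : C) ∣ Nat.card C := orderOf_dvd_natCard _
      rw [Subgroup.orderOf_mk, Subgroup.orderOf_coe, hy] at h2
      omega
    have hy2 : (y : G) ^ 2 = 1 := by
      rw [← hy, ← Subgroup.orderOf_coe, pow_orderOf_eq_one]
    obtain ⟨f, hf1, hf2, hf3⟩ := SmallGroups.exists_fixed_count P hG hP y.2 hyC hy2
    have hle : f - 1 ≤ (Nat.card (Sylow q G) - 1) / q :=
      (Nat.le_div_iff_mul_le hq.out.pos).mpr (by omega)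
    have := hf (f - 1) (by omega)
    rw [Nat.sub_add_cancel hf1] at this
    exact this (Nat.mod_eq_zero_of_dvd hf3)

theorem not_killB (hG : ¬ IsMulCommutative G) {q a : ℕ} [hq : Fact q.Prime] (ha : 2 ≤ a)
    (hqp : qPart (Nat.card G) q = q ^ a) {m₀ : ℕ} (hn : Nat.card G = q ^ a * m₀) (hm₀ : ¬ q ∣ m₀) :
    killB (Nat.card G) q (Nat.card (Sylow q G)) = false := by
  by_contra hk
  rw [Bool.not_eq_false] at hk
  simp only [killB, List.all_eq_true, List.mem_range, Bool.or_eq_true, Bool.and_eq_true,
    decide_eq_true_eq, Bool.not_eq_true'] at hk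
  obtain ⟨hd, hk⟩ := hk
  have hq2 := hq.out.two_le
  have hdiv : Nat.card G / qPart (Nat.card G) q = m₀ := by
    rw [hqp, hn]; exact Nat.mul_div_cancel_left _ (pow_pos hq.out.pos a)
  rw [hdiv] at hk
  have hnot : ¬ Nat.card (Sylow q G) ≡ 1 [MOD q ^ 2] := fun h => hd (by
    unfold Nat.ModEq at h
    rw [pow_two, Nat.one_mod_eq_one.mpr (by nlinarith)] at h
    exact h)
  obtain ⟨P, R, hPR, hidx⟩ := SmallGroups.exists_small_index_inter 2 hnot
  rw [show 2 - 1 = 1 from rfl, pow_one] at hidx
  have hS : ∀ S : Sylow q G, Nat.card ↥(S : Subgroup G) = q ^ a := SmallGroups.card_sylow_eq hn hm₀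
  set D := (R : Subgroup G) ⊓ (P : Subgroup G) with hD
  have hcardD : Nat.card D * ((R : Subgroup G).subgroupOf (P : Subgroup G)).index = q ^ a := by
    have h := ((R : Subgroup G).subgroupOf (P : Subgroup G)).card_mul_index
    rw [hS P, ← inf_subgroupOf_right,
      Nat.card_congr (subgroupOfEquivOfLe (inf_le_right : D ≤ (P : Subgroup G))).toEquiv] at h
    rw [← inf_subgroupOf_right]
    exact h
  have hindex : ((R : Subgroup G).subgroupOf (P : Subgroup G)).index = q := by
    obtain ⟨i, hi⟩ := P.2.index ((R : Subgroup G).subgroupOf (P : Subgroup G))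
    rw [hi] at hidx ⊢
    rcases i with _ | _ | i
    · exfalso
      have hle : (P : Subgroup G) ≤ R := subgroupOf_eq_top.mp (index_eq_one.mp (by rw [hi, pow_zero]))
      exact hPR (P.ext (eq_of_le_of_card_ge hle (by rw [hS P, hS R])))
    · exact pow_one q
    · exfalso
      have h3 : q ^ 1 < q ^ (i + 1 + 1) := Nat.pow_lt_pow_right hq.out.one_lt (by omega)
      rw [pow_one] at h3
      omega
  rw [hindex] at hcardD
  have hnorm : ∀ S : Sylow q G, D ≤ (S : Subgroup G) →
      (S : Subgroup G) ≤ normalizer (D : Set G) := by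
    intro S hDS
    refine (normal_subgroupOf_iff_le_normalizer hDS).mp (normal_of_index_eq_minFac_card ?_)
    have h := (D.subgroupOf (S : Subgroup G)).card_mul_index
    rw [Nat.card_congr (subgroupOfEquivOfLe hDS).toEquiv, hS S, ← hcardD] at h
    rw [Nat.eq_of_mul_eq_mul_left Nat.card_pos h, hS S, Nat.pow_minFac (by omega),
      hq.out.minFac_eq]
  set N := normalizer (D : Set G) with hN
  have hNtop : N ≠ ⊤ := fun h => by
    have h1 : D = ⊥ := (normalizer_eq_top_iff.mp h).eq_bot_or_eq_top.resolve_right fun hT => by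
      have h2 : D ≤ (P : Subgroup G) := inf_le_right
      rw [hT, top_le_iff] at h2
      exact hG (SmallGroups.comm_of_isPGroup ((h2 ▸ P.2 : IsPGroup q (⊤ : Subgroup G)).of_equiv
        Subgroup.topEquiv))
    rw [h1, card_bot, one_mul] at hcardD
    have h3 : q ^ 1 < q ^ a := Nat.pow_lt_pow_right hq.out.one_lt (by omega)
    rw [pow_one] at h3
    omega
  have hPN := hnorm P inf_le_right
  have hRN := hnorm R inf_le_left
  have hmul := relIndex_mul_index hPN
  rw [SmallGroups.index_sylow_eq hn hm₀ P] at hmul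
  have hkm : N.index ∣ m₀ := ⟨_, by rw [mul_comm]; exact hmul.symm⟩
  have hm0pos : 0 < m₀ := Nat.pos_of_ne_zero fun h => hm₀ (h ▸ dvd_zero q)
  have hrel : m₀ / N.index = (P : Subgroup G).relIndex N := by
    rw [← hmul]; exact Nat.mul_div_cancel _ (Nat.pos_of_dvd_of_pos hkm hm0pos)
  rcases hk N.index (Nat.lt_succ_of_le (Nat.le_of_dvd hm0pos hkm)) with ((h | h) | h) | h
  · have : N.index ≠ 1 := fun h' => hNtop (index_eq_one.mp h')
    have := Nat.pos_of_dvd_of_pos hkm hm0pos
    omega
  · exact h (Nat.mod_eq_zero_of_dvd hkm)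
  · rw [big_of_ne_top hG hNtop] at h
    exact Bool.noConfusion h
  · rw [hrel] at h
    have hj1 : Nat.card (Sylow q N) ∣ (P : Subgroup G).relIndex N := by
      have := (P.subtype hPN).card_dvd_index
      rwa [Sylow.coe_subtype] at this
    have hjq : Nat.card (Sylow q N) % q = 1 := by
      have := card_sylow_modEq_one q N
      unfold Nat.ModEq at this
      rwa [Nat.mod_eq_of_lt hq.out.one_lt] at this
    have hj2 : Nat.card (Sylow q N) ≠ 1 := fun h1 => hPR (Sylow.subtype_injective (hP := hPN)
      (hQ := hRN) ((Nat.card_eq_one_iff_unique.mp h1).1.elim _ _))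
    have hpos : 0 < (P : Subgroup G).relIndex N := Nat.pos_of_ne_zero fun h0 => by
      rw [h0, zero_mul] at hmul; omega
    rcases h _ (Nat.lt_succ_of_le (Nat.le_of_dvd hpos hj1)) with (h' | h') | h'
    · have : 0 < Nat.card (Sylow q N) := Nat.card_pos
      omega
    · exact h' (Nat.mod_eq_zero_of_dvd hj1)
    · exact h' hjq

theorem not_killed (hG : ¬ IsMulCommutative G) (hle : Nat.card G ≤ 1092) {q : ℕ} (hq : q.Prime)
    (hqd : q ∣ Nat.card G) : killed (Nat.card G) q = false := by
  have : Fact q.Prime := ⟨hq⟩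
  by_contra hk
  rw [Bool.not_eq_false] at hk
  obtain ⟨a, m₀, hm₀, hn⟩ := Nat.exists_eq_pow_mul_and_not_dvd (Nat.card_pos (α := G)).ne' q hq.ne_one
  have ha : a ≤ 10 := by
    by_contra ha
    have h1 : q ^ a ≤ Nat.card G := Nat.le_of_dvd Nat.card_pos ⟨m₀, hn⟩
    have h2 : 2 ^ 11 ≤ q ^ a := (Nat.pow_le_pow_left hq.two_le 11).trans
      (Nat.pow_le_pow_right hq.pos (by omega))
    norm_num at h2
    omega
  have hqp : qPart (Nat.card G) q = q ^ a := by
    rw [qPart, hn, show q ^ 11 = q ^ a * q ^ (11 - a) by rw [← pow_add]; congr 1; omega,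
      Nat.gcd_mul_left, ((hq.coprime_iff_not_dvd.mpr hm₀).pow_left _).symm.gcd_eq_one, mul_one]
  have hdiv : Nat.card G / qPart (Nat.card G) q = m₀ := by
    rw [hqp, hn]; exact Nat.mul_div_cancel_left _ (pow_pos hq.pos a)
  obtain ⟨hdm, hd1⟩ := SmallGroups.card_sylow_mem hn hm₀
  obtain ⟨j, hj⟩ : ∃ j, Nat.card (Sylow q G) = 1 + q * j := ⟨Nat.card (Sylow q G) / q, by
    have := Nat.div_add_mod (Nat.card (Sylow q G)) q; omega⟩
  have hne := SmallGroups.card_sylow_ne_one hG hqd
  simp only [killed, List.all_eq_true, List.mem_range, Bool.or_eq_true, decide_eq_true_eq,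
    Bool.not_eq_true'] at hk
  rw [hdiv] at hk
  have hjm : j < m₀ / q + 1 := by
    have h1 := Nat.le_of_dvd (Nat.pos_of_ne_zero fun h => hm₀ (by rw [h]; exact dvd_zero q)) hdm
    have h2 : j ≤ m₀ / q := (Nat.le_div_iff_mul_le hq.pos).mpr (by rw [mul_comm]; omega)
    omega
  obtain ⟨P⟩ := (inferInstance : Nonempty (Sylow q G))
  rcases hk j hjm with ((h | h) | h) | h
  · exact hne (by rw [hj, h]; simp)
  · exact h (Nat.mod_eq_zero_of_dvd (hj ▸ hdm))
  · rw [← hj] at h
    have hb : big (Nat.card G) (Nat.card (Sylow q G)) = true := by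
      rw [P.card_eq_index_normalizer]
      refine big_of_ne_top hG fun ht => hne ?_
      rw [P.card_eq_index_normalizer, ht, index_top]
    rw [hb] at h
    exact Bool.noConfusion h
  · rw [← hj] at h
    split_ifs at h with hA
    · rw [hqp] at hA
      have hP := SmallGroups.card_sylow_eq hn hm₀ P
      rw [hA] at hP
      rw [not_killA hG hqd P hP] at h
      exact Bool.noConfusion h
    · have ha2 : 2 ≤ a := by
        by_contra ha2
        rcases a with _ | _ | a
        · exact hm₀ (by simpa [hn] using hqd)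
        · exact hA (by rw [hqp, pow_one])
        · omega
      rw [not_killB hG ha2 hqp hn hm₀] at h
      exact Bool.noConfusion h

theorem exists_pow_eq_of_dvd {n q r : ℕ} (hq : q.Prime) (hr : r.Prime) (h : n ∣ (q * r) ^ 11) :
    ∃ a b, n = q ^ a * r ^ b := by
  rw [mul_pow] at h
  obtain ⟨c, d, hc, hd, rfl⟩ := dvd_mul.mp h
  obtain ⟨a, -, rfl⟩ := (Nat.dvd_prime_pow hq).mp hc
  obtain ⟨b, -, rfl⟩ := (Nat.dvd_prime_pow hr).mp hd
  exact ⟨a, b, rfl⟩

/-- A non-abelian simple group of order at most 1092 has one of twelve orders. -/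
theorem card_mem_survivors (hG : ¬ IsMulCommutative G) (hle : Nat.card G ≤ 1092) :
    Nat.card G ∈ survivors := by
  have h := sieve_eq_true (Nat.card G) (by omega) Finite.one_lt_card
  simp only [sieve, Bool.or_eq_true, List.any_eq_true, Bool.and_eq_true, decide_eq_true_eq,
    List.contains_iff_mem] at h
  rcases h with (h | ⟨q, hq, hqd, hk⟩) | h
  · exact h
  · rw [not_killed hG hle (prime_of_mem q hq) (Nat.dvd_of_mod_eq_zero hqd)] at hk
    exact Bool.noConfusion hk
  · exfalso
    have htwo : ∀ {q r : ℕ}, q.Prime → r.Prime → Nat.card G ∣ (q * r) ^ 11 → False := by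
      intro q r hq hr hd
      obtain ⟨a, b, hab⟩ := exists_pow_eq_of_dvd hq hr hd
      exact hG (isMulCommutative_iff.mpr
        (CharClifford.isSolvable_of_two_prime_divisors_simple hq hr hab))
    split at h
    · next q hl =>
      have hq : q ∈ primes := (List.mem_filter.mp (hl ▸ List.mem_singleton_self q)).1
      simp only [decide_eq_true_eq] at h
      exact htwo (prime_of_mem q hq) (prime_of_mem q hq)
        ((Nat.dvd_of_mod_eq_zero h).trans (pow_dvd_pow_of_dvd (dvd_mul_right q q) 11))
    · next q r hl =>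
      have hq : q ∈ primes := (List.mem_filter.mp (hl ▸ List.mem_cons_self)).1
      have hr : r ∈ primes :=
        (List.mem_filter.mp (hl ▸ List.mem_cons_of_mem _ (List.mem_singleton_self r))).1
      simp only [decide_eq_true_eq] at h
      exact htwo (prime_of_mem q hq) (prime_of_mem r hr) (Nat.dvd_of_mod_eq_zero h)
    · exact Bool.noConfusion h

end Cfsg.Agent.Classification.Sieve
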