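import Cfsg.Agent.Classification.PlaneFour
import Cfsg.Agent.Lib.Steiner.Models21

set_option autoImplicit false

/-! Transfer of the model facts to an arbitrary plane of order four. -/

namespace Cfsg.Agent.Classification.PlaneFour

open Finset Cfsg.Agent.Steiner

variable {α : Type*} [Fintype α] [DecidableEq α]

theorem exists_equiv_model (hα : Fintype.card α = 21) {L : Set (Finset α)}
    (hL : Cfsg.IsSteinerSystem 2 5 L) :
    ∃ g : α ≃ Fin 21, (fun s : Finset α => s.image g) '' L = lines := by
  let f : α ≃ Fin 21 := Fintype.equivFinOfCardEq hα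
  obtain ⟨e, he⟩ := normalForm21 _ (steiner_image hL f)
  refine ⟨f.trans e, ?_⟩
  rw [lines, ← he, Set.image_image]
  simp only [Finset.image_image]
  rfl

theorem image_equiv_inter (g : α ≃ Fin 21) (l S : Finset α) :
    l.image g ∩ S.image g = (l ∩ S).image g := (image_inter l S g.injective).symm

theorem indep_image_iff (g : α ≃ Fin 21) {L : Set (Finset α)}
    (hg : (fun s : Finset α => s.image g) '' L = lines) (k : ℕ) (S : Finset α) :
    (S.card = k ∧ ∀ l ∈ L, (l ∩ S).card ≤ 2) ↔ Indep k (S.image g) := by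
  rw [Indep, card_image_of_injective _ g.injective, ← hg, Set.forall_mem_image]
  simp only [image_equiv_inter, card_image_of_injective _ g.injective]

theorem ncard_indep_transfer (g : α ≃ Fin 21) {L : Set (Finset α)}
    (hg : (fun s : Finset α => s.image g) '' L = lines) (k : ℕ) :
    {S : Finset α | S.card = k ∧ ∀ l ∈ L, (l ∩ S).card ≤ 2}.ncard =
      {S : Finset (Fin 21) | Indep k S}.ncard := by
  have h : (fun s : Finset α => s.image g) '' {S | S.card = k ∧ ∀ l ∈ L, (l ∩ S).card ≤ 2} =
      {S | Indep k S} := by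
    ext T
    constructor
    · rintro ⟨S, hS, rfl⟩
      exact (indep_image_iff g hg k S).mp hS
    · intro hT
      have e : (T.image g.symm).image g = T := by
        rw [image_image, Equiv.self_comp_symm, image_id]
      exact ⟨T.image g.symm, (indep_image_iff g hg k _).mpr (e.symm ▸ hT), e⟩
  rw [← h, Set.ncard_image_of_injective _ (image_injective g.injective)]

theorem hyperovals (hα : Fintype.card α = 21) {L : Set (Finset α)}
    (hL : Cfsg.IsSteinerSystem 2 5 L) :
    {S : Finset α | (S.card = 4 ∧ ∀ l ∈ L, (l ∩ S).card ≤ 2)}.ncard = 2520 ∧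
      {H : Finset α | (H.card = 6 ∧ ∀ l ∈ L, (l ∩ H).card ≤ 2)}.ncard = 168 ∧
      ∀ S : Finset α, (S.card = 4 ∧ ∀ l ∈ L, (l ∩ S).card ≤ 2) →
        ∃! H : Finset α, (H.card = 6 ∧ ∀ l ∈ L, (l ∩ H).card ≤ 2) ∧ S ⊆ H := by
  obtain ⟨g, hg⟩ := exists_equiv_model hα hL
  refine ⟨by rw [ncard_indep_transfer g hg, ncard4], by rw [ncard_indep_transfer g hg, ncard6],
    fun S hS => ?_⟩
  obtain ⟨H, ⟨hH, hSH⟩, huniq⟩ := existsUnique_oval ((indep_image_iff g hg 4 S).mp hS)
  have e : (H.image g.symm).image g = H := by rw [image_image, Equiv.self_comp_symm, image_id]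
  refine ⟨H.image g.symm, ⟨(indep_image_iff g hg 6 _).mpr (e.symm ▸ hH),
    (image_subset_image_iff g.injective).mp (e.symm ▸ hSH)⟩, ?_⟩
  rintro H' ⟨hH', hSH'⟩
  refine image_injective g.injective ?_
  show H'.image g = (H.image g.symm).image g
  rw [e]
  exact huniq _ ⟨(indep_image_iff g hg 6 H').mp hH', image_subset_image hSH'⟩

theorem mem_aut_conj (g : α ≃ Fin 21) {L : Set (Finset α)}
    (hg : (fun s : Finset α => s.image g) '' L = lines) (a : Equiv.Perm α) :
    a ∈ Cfsg.setSystemAut L ↔ g.permCongr a ∈ Cfsg.setSystemAut lines := by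
  rw [mem_setSystemAut, mem_setSystemAut, ← hg, Set.image_image]
  have h : ∀ b : Finset α, (b.image g).image (g.permCongr a) = (b.image a).image g := fun b => by
    rw [image_image, image_image]
    exact image_congr fun x _ => by simp
  simp only [h]
  rw [← Set.image_image (fun s : Finset α => s.image g) (fun b : Finset α => b.image a)]
  exact (Set.image_eq_image (image_injective g.injective)).symm

theorem extend_unique (hα : Fintype.card α = 21) {L : Set (Finset α)}
    (hL : Cfsg.IsSteinerSystem 2 5 L) {H : Finset α}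
    (hH : H.card = 6 ∧ ∀ l ∈ L, (l ∩ H).card ≤ 2) (σ : Equiv.Perm ↥H) :
    ∃! a : Equiv.Perm α, a ∈ Cfsg.setSystemAut L ∧ ∀ p : ↥H, a p = σ p := by
  obtain ⟨g, hg⟩ := exists_equiv_model hα hL
  have hM : Cfsg.IsSteinerSystem 2 5 lines := hg ▸ steiner_image hL g
  let r : ↥H ≃ ↥(H.image g) :=
    (g.subtypeEquiv fun x => by exact g.injective.mem_finset_image.symm)
  obtain ⟨b, ⟨hb, hbp⟩, huniq⟩ :=
    existsUnique_extension hM ((indep_image_iff g hg 6 H).mp hH) (r.permCongr σ)
  have hval : ∀ p : ↥H, (r p : Fin 21) = g p := fun p => rfl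
  refine ⟨g.symm.permCongr b, ⟨(mem_aut_conj g hg _).mpr ?_, fun p => ?_⟩, ?_⟩
  · convert hb using 1
    ext x
    simp
  · have h := hbp (r p)
    rw [Equiv.permCongr_apply, r.symm_apply_apply, hval, hval] at h
    rw [Equiv.permCongr_apply, Equiv.symm_symm, h, g.symm_apply_apply]
  · rintro a ⟨ha, hap⟩
    have := huniq (g.permCongr a) ⟨(mem_aut_conj g hg a).mp ha, fun q => ?_⟩
    · rw [← this]; ext x; simp
    · obtain ⟨p, rfl⟩ := r.surjective q
      rw [Equiv.permCongr_apply, Equiv.permCongr_apply, r.symm_apply_apply, hval, g.symm_apply_apply,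
        hap, hval]

end Cfsg.Agent.Classification.PlaneFour
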