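import Mathlib
import Cfsg.Agent.Lib.Involution.BaerSuzuki

set_option autoImplicit false

/-!
A group of odd order acting on an elementary abelian `p`-group with transvection-like commutators.
-/

namespace Cfsg.Agent.Classification

open Subgroup

variable {G : Type*} [Group G]

/-- Stabilizing a chain `1 ≤ ⟨a⟩ ≤ ⟨a, b⟩ ≤ V` in an abelian group gives a `p`-group mod `C(V)`. -/
theorem isPGroup_closure_pair [Finite G] {p : ℕ} [hpf : Fact p.Prime] (hp2 : p ≠ 2) {V : Subgroup G}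
    [V.Normal] (hVp : ∀ v ∈ V, v ^ p = 1) (hVc : ∀ v ∈ V, ∀ w ∈ V, v * w = w * v)
    (hCV : centralizer (V : Set G) ≤ V) {a b x y : G} (haV : a ∈ V) (hbV : b ∈ V)
    (hxa : x * a = a * x) (hyb : y * b = b * y) (hya : y * a = a * y)
    (hxv : ∀ v ∈ V, x * v * x⁻¹ * v⁻¹ ∈ zpowers a) (hyv : ∀ v ∈ V, y * v * y⁻¹ * v⁻¹ ∈ zpowers b) :
    IsPGroup p (closure ({x, y} : Set G)) := by
  let A : Subgroup G := zpowers a
  let W : Subgroup G := zpowers a ⊔ zpowers b
  have hAV : A ≤ V := zpowers_le.mpr haV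
  have hWV : W ≤ V := sup_le (zpowers_le.mpr haV) (zpowers_le.mpr hbV)
  have hxb : x * b * x⁻¹ * b⁻¹ ∈ A := hxv b hbV
  -- elements stabilizing the chain
  have key : ∀ h ∈ closure ({x, y} : Set G), (∀ u ∈ A, h * u = u * h) ∧
      (∀ w ∈ W, h * w * h⁻¹ * w⁻¹ ∈ A) ∧ (∀ v ∈ V, h * v * h⁻¹ * v⁻¹ ∈ W) := by
    have hA : ∀ h : G, h * a = a * h → ∀ u ∈ A, h * u = u * h := by
      rintro h hh _ ⟨i, rfl⟩
      exact ((show Commute h a from hh).zpow_right i).eq
    have hW : ∀ h : G, h * a = a * h → h * b * h⁻¹ * b⁻¹ ∈ A → ∀ w ∈ W, h * w * h⁻¹ * w⁻¹ ∈ A := by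
      intro h hh hb w hw
      obtain ⟨u, hu, z, hz, rfl⟩ : ∃ u ∈ A, ∃ z ∈ zpowers b, w = u * z := by
        have hcl : W ≤ ({ carrier := {w | ∃ u ∈ A, ∃ z ∈ zpowers b, w = u * z}
                          one_mem' := ⟨1, A.one_mem, 1, one_mem _, (one_mul 1).symm⟩
                          mul_mem' := by
                            rintro _ _ ⟨u, hu, z, hz, rfl⟩ ⟨u', hu', z', hz', rfl⟩
                            refine ⟨u * u', A.mul_mem hu hu', z * z', mul_mem hz hz', ?_⟩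
                            have h1 := hVc z (hWV (mem_sup_right hz)) u' (hAV hu')
                            calc u * z * (u' * z') = u * (z * u') * z' := by group
                              _ = u * u' * (z * z') := by rw [h1]; group
                          inv_mem' := by
                            rintro _ ⟨u, hu, z, hz, rfl⟩
                            refine ⟨u⁻¹, A.inv_mem hu, z⁻¹, inv_mem hz, ?_⟩
                            rw [mul_inv_rev, hVc _ (V.inv_mem (hWV (mem_sup_right hz))) _ (V.inv_mem (hAV hu))] } : Subgroup G) :=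
          sup_le (fun u hu => ⟨u, hu, 1, one_mem _, (mul_one u).symm⟩)
            (fun z hz => ⟨1, A.one_mem, z, hz, (one_mul z).symm⟩)
        exact hcl hw
      obtain ⟨i, rfl⟩ := hz
      show h * (u * b ^ i) * h⁻¹ * (u * b ^ i)⁻¹ ∈ A
      obtain ⟨j, hj⟩ := hb
      have hj' : h * b * h⁻¹ = a ^ j * b := by
        rw [show a ^ j = h * b * h⁻¹ * b⁻¹ from hj]; group
      have h1 : h * (u * b ^ i) * h⁻¹ = u * (a ^ j * b) ^ i := by
        rw [show h * (u * b ^ i) * h⁻¹ = (h * u * h⁻¹) * (h * b ^ i * h⁻¹) by group,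
          hA h hh u hu, mul_inv_cancel_right, ← conj_zpow, hj']
      rw [h1, (show Commute (a ^ j) b from hVc _ (V.zpow_mem haV j) _ hbV).mul_zpow, ← zpow_mul]
      rw [show u * (a ^ (j * i) * b ^ i) * (u * b ^ i)⁻¹ = u * a ^ (j * i) * u⁻¹ by group]
      exact A.mul_mem (A.mul_mem hu (A.zpow_mem (mem_zpowers a) _)) (A.inv_mem hu)
    intro h hh
    induction hh using Subgroup.closure_induction with
    | mem h hh =>
      rcases hh with rfl | rfl
      · exact ⟨hA _ hxa, hW _ hxa hxb, fun v hv => mem_sup_left (hxv v hv)⟩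
      · refine ⟨hA _ hya, hW _ hya ?_, fun v hv => mem_sup_right (hyv v hv)⟩
        rw [hyb, mul_inv_cancel_right, mul_inv_cancel]; exact A.one_mem
    | one => simp [A.one_mem, W.one_mem]
    | mul g h _ _ ihg ihh =>
      refine ⟨fun u hu => ((show Commute g u from ihg.1 u hu).mul_left (ihh.1 u hu)).eq, fun w hw => ?_, fun v hv => ?_⟩
      · have h1 := ihh.2.1 w hw
        have e : g * h * w * (g * h)⁻¹ * w⁻¹ =
            (g * (h * w * h⁻¹ * w⁻¹) * g⁻¹) * (g * w * g⁻¹ * w⁻¹) := by group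
        rw [e, ihg.1 _ h1, mul_inv_cancel_right]
        exact A.mul_mem h1 (ihg.2.1 w hw)
      · have h1 := ihh.2.2 v hv
        have e : g * h * v * (g * h)⁻¹ * v⁻¹ =
            (g * (h * v * h⁻¹ * v⁻¹) * g⁻¹ * (h * v * h⁻¹ * v⁻¹)⁻¹) * (h * v * h⁻¹ * v⁻¹) *
              (g * v * g⁻¹ * v⁻¹) := by group
        rw [e]
        exact W.mul_mem (W.mul_mem (mem_sup_left (ihg.2.1 _ h1)) h1) (ihg.2.2 v hv)
    | inv h _ ih =>
      have hW' : ∀ w ∈ W, h⁻¹ * w * h⁻¹⁻¹ * w⁻¹ ∈ A := by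
        intro w hw
        have e : h⁻¹ * w * h⁻¹⁻¹ * w⁻¹ = h⁻¹ * ((h * w * h⁻¹ * w⁻¹)⁻¹ * h) := by group
        rw [e, ← ih.1 _ (A.inv_mem (ih.2.1 w hw)), inv_mul_cancel_left]
        exact A.inv_mem (ih.2.1 w hw)
      refine ⟨fun u hu => ((show Commute h u from ih.1 u hu).inv_left).eq, hW', fun v hv => ?_⟩
      have h1 := W.inv_mem (ih.2.2 v hv)
      have e : h⁻¹ * v * h⁻¹⁻¹ * v⁻¹ =
          (h⁻¹ * (h * v * h⁻¹ * v⁻¹)⁻¹ * h⁻¹⁻¹ * ((h * v * h⁻¹ * v⁻¹)⁻¹)⁻¹) * (h * v * h⁻¹ * v⁻¹)⁻¹ := by group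
      rw [e]
      exact W.mul_mem (mem_sup_left (hW' _ h1)) h1
  intro ⟨h, hh⟩
  refine ⟨2, Subtype.ext ?_⟩
  show h ^ p ^ 2 = 1
  obtain ⟨hA', hW', hV'⟩ := key h hh
  rw [pow_two, pow_mul]
  refine hVp _ (hCV ?_)
  rw [mem_centralizer_iff]
  intro v hv
  obtain ⟨w, hw, hwv⟩ : ∃ w ∈ W, h * v * h⁻¹ = w * v := ⟨_, hV' v hv, by group⟩
  obtain ⟨d, hd, hdw⟩ : ∃ d ∈ A, h * w * h⁻¹ = d * w := ⟨_, hW' w hw, by group⟩
  have hformula : ∀ n : ℕ, h ^ n * v * (h ^ n)⁻¹ = d ^ n.choose 2 * w ^ n * v := by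
    intro n
    induction n with
    | zero => simp
    | succ n ih =>
      have hd' : h * d * h⁻¹ = d := by rw [hA' d hd, mul_inv_cancel_right]
      calc h ^ (n + 1) * v * (h ^ (n + 1))⁻¹ = h * (h ^ n * v * (h ^ n)⁻¹) * h⁻¹ := by rw [pow_succ']; group
        _ = h * (d ^ n.choose 2 * w ^ n * v) * h⁻¹ := by rw [ih]
        _ = (h * d * h⁻¹) ^ n.choose 2 * (h * w * h⁻¹) ^ n * (h * v * h⁻¹) := by
          rw [conj_pow, conj_pow]; group
        _ = d ^ n.choose 2 * (d * w) ^ n * (w * v) := by rw [hd', hdw, hwv]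
        _ = d ^ (n + 1).choose 2 * w ^ (n + 1) * v := by
          rw [(show Commute d w from hVc _ (hAV hd) _ (hWV hw)).mul_pow, Nat.choose_succ_succ,
            Nat.choose_one_right, add_comm n, pow_add, pow_succ w]
          simp only [mul_assoc]
  have hp := hformula p
  obtain ⟨c, hc⟩ := hpf.out.dvd_choose_self (k := 2) two_ne_zero (lt_of_le_of_ne hpf.out.two_le (Ne.symm hp2))
  rw [hc, pow_mul, hVp d (hAV hd), one_pow, one_mul, hVp w (hWV hw), one_mul] at hp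
  exact (mul_inv_eq_iff_eq_mul.mp hp).symm

/-- In a group of odd order, `p`-elements whose commutators with an elementary abelian self-centralizing
normal subgroup all lie in one centralized line act trivially. -/
theorem mem_pSubgroup_of_line [Finite G] (hodd : Odd (Nat.card G)) {p : ℕ} [hpf : Fact p.Prime]
    (hp2 : p ≠ 2) {V : Subgroup G} [V.Normal] (hVp : ∀ v ∈ V, v ^ p = 1)
    (hVc : ∀ v ∈ V, ∀ w ∈ V, v * w = w * v) (hCV : centralizer (V : Set G) ≤ V)
    (hmax : ∀ M : Subgroup G, M.Normal → IsPGroup p M → M ≤ V) {a x : G} (haV : a ∈ V)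
    (hxa : x * a = a * x) (hxv : ∀ v ∈ V, x * v * x⁻¹ * v⁻¹ ∈ zpowers a) : x ∈ V := by
  by_contra hxV
  have hbs : ¬ ∀ g : G, IsPGroup p (closure ({x, g * x * g⁻¹} : Set G)) := by
    intro h
    obtain ⟨M, hMn, hMp, hxM⟩ := Involution.baerSuzuki x h
    exact hxV (hmax M hMn hMp hxM)
  apply hbs
  intro g
  let y : G := g * x * g⁻¹
  obtain ⟨b, hb⟩ : ∃ b : G, b = g * a * g⁻¹ := ⟨_, rfl⟩
  have hbV : b ∈ V := by rw [hb]; exact Subgroup.Normal.conj_mem inferInstance a haV g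
  have hyb : y * b = b * y := by
    rw [hb]
    show g * x * g⁻¹ * (g * a * g⁻¹) = g * a * g⁻¹ * (g * x * g⁻¹)
    calc g * x * g⁻¹ * (g * a * g⁻¹) = g * (x * a) * g⁻¹ := by group
      _ = g * a * g⁻¹ * (g * x * g⁻¹) := by rw [hxa]; group
  have hyv : ∀ v ∈ V, y * v * y⁻¹ * v⁻¹ ∈ zpowers b := by
    intro v hv
    have hv' : g⁻¹ * v * g ∈ V := by simpa using Subgroup.Normal.conj_mem (H := V) inferInstance v hv g⁻¹
    obtain ⟨i, hi⟩ := hxv _ hv'
    refine ⟨i, ?_⟩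
    show b ^ i = _
    rw [hb]
    rw [conj_zpow, show a ^ i = _ from hi]
    show _ = g * x * g⁻¹ * v * (g * x * g⁻¹)⁻¹ * v⁻¹
    group
  by_cases hya : y * a = a * y
  · exact isPGroup_closure_pair hp2 hVp hVc hCV haV hbV hxa hyb hya hxv hyv
  by_cases hxb : x * b = b * x
  · have := isPGroup_closure_pair hp2 hVp hVc hCV hbV haV hyb hxa hxb hyv hxv
    rwa [Set.pair_comm] at this
  exfalso
  have haord : orderOf a = p := orderOf_eq_prime (hVp a haV) fun h => hya (by simp [h])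
  have hbord : orderOf b = p := orderOf_eq_prime (hVp b hbV) fun h => hxb (by simp [h])
  obtain ⟨α, hα⟩ := hyv a haV
  obtain ⟨β, hβ⟩ := hxv b hbV
  have hα' : y * a * y⁻¹ = b ^ α * a := by rw [show b ^ α = _ from hα]; group
  have hβ' : x * b * x⁻¹ = a ^ β * b := by rw [show a ^ β = _ from hβ]; group
  have hα0 : (α : ZMod p) ≠ 0 := by
    intro h
    rw [ZMod.intCast_zmod_eq_zero_iff_dvd, ← hbord, orderOf_dvd_iff_zpow_eq_one] at h
    rw [h, one_mul, mul_inv_eq_iff_eq_mul] at hα'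
    exact hya hα'
  have hβ0 : (β : ZMod p) ≠ 0 := by
    intro h
    rw [ZMod.intCast_zmod_eq_zero_iff_dvd, ← haord, orderOf_dvd_iff_zpow_eq_one] at h
    rw [h, one_mul, mul_inv_eq_iff_eq_mul] at hβ'
    exact hxb hβ'
  let k : ℕ := (-((α : ZMod p) * β)⁻¹).val
  have hk : (p : ℤ) ∣ 1 + α * k * β := by
    rw [← ZMod.intCast_zmod_eq_zero_iff_dvd]
    push_cast
    rw [show ((k : ℕ) : ZMod p) = -((α : ZMod p) * β)⁻¹ from ZMod.natCast_zmod_val _]
    field_simp
    ring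
  have hab : Commute a b := hVc a haV b hbV
  have hpa : ∀ i j : ℤ, (p : ℤ) ∣ i - j → a ^ i = a ^ j := fun i j h => by
    rw [← mul_inv_eq_one, ← zpow_neg, ← zpow_add, ← orderOf_dvd_iff_zpow_eq_one, haord]
    simpa [sub_eq_add_neg] using h
  have hpb : ∀ i j : ℤ, (p : ℤ) ∣ i - j → b ^ i = b ^ j := fun i j h => by
    rw [← mul_inv_eq_one, ← zpow_neg, ← zpow_add, ← orderOf_dvd_iff_zpow_eq_one, hbord]
    simpa [sub_eq_add_neg] using h
  have hyk : ∀ n : ℕ, y ^ n * a * (y ^ n)⁻¹ = b ^ (α * n) * a ∧ y ^ n * b * (y ^ n)⁻¹ = b := by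
    intro n
    induction n with
    | zero => simp
    | succ n ih =>
      have hb' : y * b * y⁻¹ = b := by rw [hyb, mul_inv_cancel_right]
      refine ⟨?_, ?_⟩
      · calc y ^ (n + 1) * a * (y ^ (n + 1))⁻¹ = y * (y ^ n * a * (y ^ n)⁻¹) * y⁻¹ := by rw [pow_succ']; group
          _ = (y * b * y⁻¹) ^ (α * n) * (y * a * y⁻¹) := by rw [ih.1, conj_zpow]; group
          _ = b ^ (α * ((n + 1 : ℕ) : ℤ)) * a := by
            rw [hb', hα', ← mul_assoc, ← zpow_add]
            congr 2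
            push_cast; ring
      · calc y ^ (n + 1) * b * (y ^ (n + 1))⁻¹ = y * (y ^ n * b * (y ^ n)⁻¹) * y⁻¹ := by rw [pow_succ']; group
          _ = b := by rw [ih.2, hb']
  let u : G := x * y ^ k * x
  have hua : u * a * u⁻¹ = b ^ (α * k) := by
    calc u * a * u⁻¹ = x * (y ^ k * (x * a * x⁻¹) * (y ^ k)⁻¹) * x⁻¹ := by simp only [u]; group
      _ = (x * b * x⁻¹) ^ (α * k) * (x * a * x⁻¹) := by
        rw [hxa, mul_inv_cancel_right, (hyk k).1, conj_zpow]
        calc x * (b ^ (α * k) * a) * x⁻¹ = x * b ^ (α * k) * x⁻¹ * (x * a * x⁻¹) := by group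
          _ = _ := by rw [hxa, mul_inv_cancel_right]
      _ = b ^ (α * k) := by
        rw [hβ', hxa, mul_inv_cancel_right, ((hab.zpow_left β)).mul_zpow, ← zpow_mul, mul_assoc,
          ← (hab.zpow_right (α * k)).eq, ← mul_assoc, ← zpow_add_one,
          hpa (β * (α * k) + 1) 0 (by simpa [mul_comm, mul_left_comm, add_comm] using hk), zpow_zero, one_mul]
  have hub : u * b * u⁻¹ = a ^ β := by
    calc u * b * u⁻¹ = x * (y ^ k * (x * b * x⁻¹) * (y ^ k)⁻¹) * x⁻¹ := by simp only [u]; group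
      _ = x * ((y ^ k * a * (y ^ k)⁻¹) ^ β * (y ^ k * b * (y ^ k)⁻¹)) * x⁻¹ := by
        rw [hβ', conj_zpow]; group
      _ = x * a ^ β * x⁻¹ := by
        rw [(hyk k).1, (hyk k).2, ((hab.symm.zpow_left (α * k))).mul_zpow, ← zpow_mul]
        have e : b ^ (α * k * β) * a ^ β * b = a ^ β := by
          rw [((hab.symm.zpow_left (α * k * β)).zpow_right β).eq, mul_assoc, ← zpow_add_one,
            hpb (α * k * β + 1) 0 (by simpa [add_comm] using hk), zpow_zero, mul_one]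
        rw [e]
      _ = a ^ β := by rw [(((show Commute x a from hxa)).zpow_right β).eq, mul_inv_cancel_right]
  have huu : (u * u) * a * (u * u)⁻¹ = a⁻¹ := by
    calc (u * u) * a * (u * u)⁻¹ = u * (u * a * u⁻¹) * u⁻¹ := by group
      _ = a ^ (β * (α * k)) := by rw [hua, ← conj_zpow, hub, ← zpow_mul]
      _ = a ^ (-1 : ℤ) := hpa _ _ (by simpa [mul_comm, mul_left_comm, add_comm] using hk)
      _ = a⁻¹ := zpow_neg_one a
  let U : G := u * u
  have hU2 : U * U * a * (U * U)⁻¹ = a := by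
    calc U * U * a * (U * U)⁻¹ = U * (U * a * U⁻¹) * U⁻¹ := by group
      _ = (U * a * U⁻¹)⁻¹ := by rw [show U * a * U⁻¹ = a⁻¹ from huu, inv_inv, ← conj_inv, show U * a * U⁻¹ = a⁻¹ from huu, inv_inv]
      _ = a := by rw [show U * a * U⁻¹ = a⁻¹ from huu, inv_inv]
  have hUo : Odd (orderOf U) := hodd.of_dvd_nat (orderOf_dvd_natCard U)
  have hc2 : Commute (U * U) a := mul_inv_eq_iff_eq_mul.mp hU2
  have hc : Commute U a := by
    obtain ⟨j, hj⟩ := hUo
    have h1 := hc2.pow_left (j + 1)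
    rwa [← pow_two, ← pow_mul, show 2 * (j + 1) = orderOf U + 1 by omega, pow_succ, pow_orderOf_eq_one,
      one_mul] at h1
  have : a⁻¹ = a := by rw [← huu]; exact mul_inv_eq_iff_eq_mul.mpr hc.eq
  have h2 : orderOf a ∣ 2 := by
    rw [orderOf_dvd_iff_pow_eq_one, pow_two]
    nth_rewrite 1 [← this]
    exact inv_mul_cancel a
  rw [haord] at h2
  exact hp2 ((Nat.prime_dvd_prime_iff_eq hpf.out Nat.prime_two).mp h2)

end Cfsg.Agent.Classification
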