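import Mathlib.GroupTheory.Nilpotent
import Mathlib.GroupTheory.PGroup

/-!
# The upper central series of a `p`-group of maximal class
-/

set_option autoImplicit false

namespace Cfsg.Agent.Classification.MaxClassSeries

open Subgroup
open scoped commutatorElement

variable {p : ℕ} [hp : Fact p.Prime] {G : Type*} [Group G] [Finite G]

theorem mul_card_le (hG : IsPGroup p G) {H K : Subgroup G} (h : H < K) :
    p * Nat.card H ≤ Nat.card K := by
  obtain ⟨a, ha⟩ := (hG.to_subgroup H).exists_card_eq
  obtain ⟨b, hb⟩ := (hG.to_subgroup K).exists_card_eq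
  have hlt : Nat.card H < Nat.card K := by
    by_contra hle
    exact h.ne (eq_of_le_of_card_ge h.le (by omega))
  rw [ha, hb] at hlt ⊢
  rw [← pow_succ']
  exact Nat.pow_le_pow_right hp.out.pos ((Nat.pow_lt_pow_iff_right hp.out.one_lt).mp hlt)

theorem ucs_lt (hG : IsPGroup p G) {j : ℕ} (h : Subgroup.upperCentralSeries G j ≠ ⊤) :
    Subgroup.upperCentralSeries G j < Subgroup.upperCentralSeries G (j + 1) := by
  refine lt_of_le_of_ne (Subgroup.upperCentralSeries_mono G (Nat.le_succ j)) fun e => h ?_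
  have hall : ∀ m, Subgroup.upperCentralSeries G (j + m) = Subgroup.upperCentralSeries G j := by
    intro m
    induction m with
    | zero => rfl
    | succ m ih =>
      refine le_antisymm (fun x hx => ?_) (Subgroup.upperCentralSeries_mono G (Nat.le_add_right _ _))
      rw [e]
      refine Subgroup.mem_upperCentralSeries_succ_iff.mpr fun y => ?_
      rw [← ih]
      exact Subgroup.mem_upperCentralSeries_succ_iff.mp hx y
  haveI := hG.isNilpotent
  obtain ⟨n, hn⟩ := Group.IsNilpotent.nilpotent G
  refine eq_top_iff.mpr (hn ▸ ?_)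
  exact (Subgroup.upperCentralSeries_mono G (Nat.le_add_left n j)).trans (hall n).le

theorem card_ucs_le (hG : IsPGroup p G) {n : ℕ} (h3 : 3 ≤ n) (hn : Nat.card G = p ^ n)
    (hmax : Subgroup.upperCentralSeries G (n - 2) ≠ ⊤) {j : ℕ} (hj : j ≤ n - 2) :
    Nat.card (Subgroup.upperCentralSeries G j) ≤ p ^ j := by
  set U := Subgroup.upperCentralSeries G with hU
  have hne : ∀ i ≤ n - 2, U i ≠ ⊤ := fun i hi h =>
    hmax (top_le_iff.mp (h ▸ Subgroup.upperCentralSeries_mono G hi))
  have hgrow : ∀ k, j + k ≤ n - 2 → p ^ k * Nat.card (U j) ≤ Nat.card (U (j + k)) := by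
    intro k
    induction k with
    | zero => simp
    | succ k ih =>
      intro hk
      calc p ^ (k + 1) * Nat.card (U j) = p * (p ^ k * Nat.card (U j)) := by ring
        _ ≤ p * Nat.card (U (j + k)) := Nat.mul_le_mul_left p (ih (by omega))
        _ ≤ _ := mul_card_le hG (ucs_lt hG (hne _ (by omega)))
  have h1 := hgrow (n - 2 - j) (by omega)
  rw [show j + (n - 2 - j) = n - 2 by omega] at h1
  have hidx : p ^ 2 ≤ (U (n - 2)).index := by
    obtain ⟨i, hi⟩ := hG.index (U (n - 2))
    rw [hi]
    refine Nat.pow_le_pow_right hp.out.pos ?_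
    by_contra hlt
    have hi0 : i ≠ 0 := fun h0 => hne _ le_rfl (index_eq_one.mp (by rw [hi, h0, pow_zero]))
    have hi1 : (U (n - 2)).index = p := by rw [hi, show i = 1 by omega, pow_one]
    apply hne (n - 2) le_rfl
    rw [show n - 2 = n - 3 + 1 by omega] at hi1 ⊢
    haveI : (U (n - 3 + 1)).Normal := inferInstance
    haveI : IsCyclic (G ⧸ U (n - 3 + 1)) := isCyclic_of_prime_card (hi1 : Nat.card (G ⧸ U (n - 3 + 1)) = p)
    obtain ⟨g, hg⟩ := IsCyclic.exists_generator (α := G ⧸ U (n - 3 + 1))
    obtain ⟨g, rfl⟩ := QuotientGroup.mk_surjective g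
    have hgen : U (n - 3 + 1) ⊔ zpowers g = ⊤ := by
      refine eq_top_iff.mpr fun x _ => ?_
      obtain ⟨k, hk⟩ := mem_zpowers_iff.mp (hg (x : G ⧸ U (n - 3 + 1)))
      rw [← QuotientGroup.mk_zpow, QuotientGroup.eq] at hk
      have := mul_mem (mem_sup_right (zpow_mem (mem_zpowers g) k) :
        g ^ k ∈ U (n - 3 + 1) ⊔ zpowers g) (mem_sup_left hk)
      rwa [mul_inv_cancel_left] at this
    refine (eq_top_iff' _).mpr fun x => Subgroup.mem_upperCentralSeries_succ_iff.mpr fun y => ?_
    -- commutators of `G` lie in `U (n - 3)`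
    let π := QuotientGroup.mk' (U (n - 3))
    have hc : ∀ u ∈ U (n - 3 + 1), ∀ w : G, Commute (π u) (π w) := fun u hu w => by
      rw [← commutatorElement_eq_one_iff_commute, ← map_commutatorElement]
      exact (QuotientGroup.eq_one_iff _).mpr (Subgroup.mem_upperCentralSeries_succ_iff.mp hu w)
    have hall : ∀ a : G, π a ∈ centralizer ({π g} : Set (G ⧸ U (n - 3))) := by
      intro a
      have : a ∈ (centralizer ({π g} : Set (G ⧸ U (n - 3)))).comap π := by
        refine (hgen ▸ sup_le ?_ ?_ : (⊤ : Subgroup G) ≤ _) (mem_top a)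
        · exact fun u hu => mem_centralizer_singleton_iff.mpr (hc u hu g).eq
        · exact zpowers_le.mpr (mem_centralizer_singleton_iff.mpr rfl)
      exact this
    have hxy : π x ∈ centralizer ({π y} : Set (G ⧸ U (n - 3))) := by
      have : x ∈ (centralizer ({π y} : Set (G ⧸ U (n - 3)))).comap π := by
        refine (hgen ▸ sup_le ?_ ?_ : (⊤ : Subgroup G) ≤ _) (mem_top x)
        · exact fun u hu => mem_centralizer_singleton_iff.mpr (hc u hu y).eq
        · exact zpowers_le.mpr (mem_centralizer_singleton_iff.mpr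
            (mem_centralizer_singleton_iff.mp (hall y)).symm)
      exact this
    rw [← QuotientGroup.eq_one_iff]
    show π ⁅x, y⁆ = 1
    rw [map_commutatorElement, commutatorElement_eq_one_iff_mul_comm]
    exact mem_centralizer_singleton_iff.mp hxy
  have h2 := card_mul_index (U (n - 2))
  rw [hn] at h2
  have h3' : p ^ (n - 2 - j) * Nat.card (U j) * p ^ 2 ≤ p ^ n :=
    h2 ▸ Nat.mul_le_mul h1 hidx
  have h4 : p ^ n = p ^ (n - 2 - j) * p ^ j * p ^ 2 := by
    rw [← pow_add, ← pow_add]; congr 1; omega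
  rw [h4] at h3'
  exact Nat.le_of_mul_le_mul_left (Nat.le_of_mul_le_mul_right h3' (pow_pos hp.out.pos 2))
    (pow_pos hp.out.pos _)

end Cfsg.Agent.Classification.MaxClassSeries
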