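import Mathlib.GroupTheory.Nilpotent
import Mathlib.GroupTheory.Sylow
import Mathlib.GroupTheory.PGroup

/-!
# The normalizer tower over a soft subgroup

An abelian self-centralizing subgroup `E` of index `p` in its normalizer and of index at least `p²`
in a finite `p`-group.  By induction on the order of the group: the commutator subgroup
`z = [E, N(E)]` has order `p` and is centralised by every maximal subgroup over `E`, so that its
normal closure can be factored out, which shifts `E` to `N(E)`.
-/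

set_option autoImplicit false

namespace Cfsg.Agent.Classification.NormalizerTower

open Subgroup
open scoped commutatorElement

variable {p : ℕ} [hp : Fact p.Prime] {P : Type*} [Group P] [Finite P]

/-- The hypotheses on `E`. -/
structure Conf (p : ℕ) (E : Subgroup P) : Prop where
  comm : ∀ a ∈ E, ∀ b ∈ E, a * b = b * a
  cent : centralizer (E : Set P) ≤ E
  rel : E.relIndex (normalizer (E : Set P)) = p
  idx : p ^ 2 ≤ E.index

theorem mem_centralizer' {H : Subgroup P} {x : P} :
    x ∈ centralizer (H : Set P) ↔ ∀ h ∈ H, h * x = x * h :=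
  mem_centralizer_iff

theorem comm_of_eq_one {a b : P} (h : ⁅a, b⁆ = 1) : a * b = b * a :=
  commutatorElement_eq_one_iff_mul_comm.mp h

/-- A subgroup of index `p` in `K` is all a larger subgroup of `K` can avoid. -/
theorem eq_of_relIndex_prime {H T K : Subgroup P} (h : H.relIndex K = p) (hHT : H ≤ T) (hTK : T ≤ K)
    (hne : ¬ T ≤ H) : T = K := by
  refine le_antisymm hTK (relIndex_eq_one.mp ?_)
  have := relIndex_mul_relIndex H T K hHT hTK
  rw [h] at this
  rcases (Nat.dvd_prime hp.out).mp ⟨_, this.symm⟩ with h1 | h1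
  · exact absurd (relIndex_eq_one.mp h1) hne
  · rw [h1] at this
    exact (Nat.mul_eq_left hp.out.ne_zero).mp this

theorem exists_mem_normalizer (hP : IsPGroup p P) {H K : Subgroup P} (hle : H ≤ K)
    (hne : ¬ K ≤ H) : ∃ x ∈ K, x ∈ normalizer (H : Set P) ∧ x ∉ H := by
  have := (hP.to_subgroup K).isNilpotent
  have h := Group.normalizerCondition_of_isNilpotent (G := K) (H.subgroupOf K)
    (lt_top_iff_ne_top.mpr fun h => hne (subgroupOf_eq_top.mp h))
  obtain ⟨x, hxN, hxH⟩ := SetLike.exists_of_lt h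
  rw [← subgroupOf_normalizer_eq hle] at hxN
  exact ⟨x, x.2, hxN, hxH⟩

theorem normalizer_le_of_lt (hP : IsPGroup p P) {H K : Subgroup P}
    (hrel : H.relIndex (normalizer (H : Set P)) = p) (hle : H ≤ K) (hne : ¬ K ≤ H) :
    normalizer (H : Set P) ≤ K := by
  obtain ⟨x, hxK, hxN, hxH⟩ := exists_mem_normalizer hP hle hne
  exact inf_eq_left.mp (eq_of_relIndex_prime hrel (le_inf le_normalizer hle) inf_le_left
    fun h => hxH (h ⟨hxN, hxK⟩))

theorem exists_maximal (hP : IsPGroup p P) {H : Subgroup P} (hH : H ≠ ⊤) :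
    ∃ R : Subgroup P, H ≤ R ∧ R.Normal ∧ R.index = p := by
  obtain ⟨R, hR, hHR⟩ := (eq_top_or_exists_le_coatom H).resolve_left hH
  have := hP.isNilpotent
  have hn : R.Normal :=
    Subgroup.NormalizerCondition.normal_of_coatom R Group.normalizerCondition_of_isNilpotent hR
  refine ⟨R, hHR, hn, ?_⟩
  obtain ⟨n, hn'⟩ := hP.index R
  have h1 : p ∣ Nat.card (P ⧸ R) := by
    rw [← index_eq_card, hn']
    refine dvd_pow_self p fun h0 => hR.1 (index_eq_one.mp ?_)
    rw [hn', h0, pow_zero]
  obtain ⟨K, hK⟩ := Sylow.exists_subgroup_card_pow_prime p (n := 1) (by simpa using h1)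
  rw [pow_one] at hK
  have hKtop : K.comap (QuotientGroup.mk' R) = ⊤ := by
    rcases hR.le_iff.mp (fun x hx => by
      show QuotientGroup.mk' R x ∈ K
      rw [QuotientGroup.mk'_apply, (QuotientGroup.eq_one_iff x).mpr hx]
      exact one_mem _ : R ≤ K.comap (QuotientGroup.mk' R)) with h | h
    · exact h
    · exfalso
      have h2 := congrArg (Subgroup.map (QuotientGroup.mk' R)) h
      rw [map_comap_eq_self_of_surjective (QuotientGroup.mk'_surjective R)] at h2
      have h3 : K = ⊥ := by
        rw [h2, (Subgroup.map_eq_bot_iff _).mpr (QuotientGroup.ker_mk' R).ge]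
      rw [h3, card_bot] at hK
      exact hp.out.ne_one hK.symm
  have h4 : K = ⊤ := by
    rw [← map_comap_eq_self_of_surjective (QuotientGroup.mk'_surjective R) K, hKtop,
      map_top_of_surjective _ (QuotientGroup.mk'_surjective R)]
  rw [h4, card_top] at hK
  rw [index_eq_card, hK]

section Basic

variable {E : Subgroup P}

theorem le_index_of_conf (c : Conf p E) :
    p ≤ (normalizer (E : Set P)).index := by
  have h := relIndex_mul_index (le_normalizer : E ≤ normalizer (E : Set P))
  rw [c.rel] at h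
  refine Nat.le_of_mul_le_mul_left ?_ hp.out.pos
  rw [h, ← pow_two]
  exact c.idx

/-- The abelian companion of `E` in its normalizer. -/
theorem exists_partner (hP : IsPGroup p P) (c : Conf p E) :
    ∃ E' : Subgroup P, E' ≤ normalizer (E : Set P) ∧ ¬ E' ≤ E ∧ ¬ E ≤ E' ∧
      E'.relIndex (normalizer (E : Set P)) = p ∧ (∀ a ∈ E', ∀ b ∈ E', a * b = b * a) ∧
      normalizer (E : Set P) ≤ normalizer (E' : Set P) ∧ centralizer (E' : Set P) ≤ E' := by
  set N := normalizer (E : Set P) with hN
  have hNtop : ¬ (⊤ : Subgroup P) ≤ N := fun h => by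
    have h1 : p ≤ N.index := le_index_of_conf c
    rw [top_le_iff.mp h, index_top] at h1
    have := hp.out.two_le
    omega
  obtain ⟨g, -, hg, hgN⟩ := exists_mem_normalizer hP le_top hNtop
  have hNg : N.map (MulAut.conj g).toMonoidHom = N := mem_normalizer_iff_map_conj_eq.mp hg
  set E' := E.map (MulAut.conj g).toMonoidHom with hE'
  have hle : E' ≤ N := (map_mono le_normalizer).trans hNg.le
  have hcard : Nat.card E' = Nat.card E := card_map_of_injective (MulAut.conj g).injective
  refine ⟨E', hle, fun h => hgN ?_, fun h => hgN ?_, ?_, ?_, ?_, ?_⟩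
  · exact mem_normalizer_iff_map_conj_eq.mpr (eq_of_le_of_card_ge h hcard.ge)
  · exact mem_normalizer_iff_map_conj_eq.mpr (eq_of_le_of_card_ge h hcard.le).symm
  · rw [hE', ← hNg]
    rw [relIndex_map_map_of_injective _ _ (MulAut.conj g).injective]
    exact c.rel
  · rintro _ ⟨a, ha, rfl⟩ _ ⟨b, hb, rfl⟩
    show MulAut.conj g a * MulAut.conj g b = MulAut.conj g b * MulAut.conj g a
    rw [← map_mul, ← map_mul, c.comm a ha b hb]
  · conv_lhs => rw [← hNg]
    exact (map_mono le_rfl).trans (le_normalizer_map _)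
  · intro y hy
    refine ⟨(MulAut.conj g).symm y, c.cent (mem_centralizer'.mpr fun e he => ?_),
      (MulAut.conj g).apply_symm_apply y⟩
    apply (MulAut.conj g).injective
    rw [map_mul, map_mul, (MulAut.conj g).apply_symm_apply]
    exact mem_centralizer'.mp hy _ ⟨e, he, rfl⟩

/-- `z = [E, N(E)]` has order `p`, is central in `N(E)` and contains the commutators of `N(E)`. -/
theorem commutator_facts (hP : IsPGroup p P) (c : Conf p E) :
    ∃ A : Subgroup P, A ≤ E ∧ A.relIndex E = p ∧
      A = normalizer (E : Set P) ⊓ centralizer (normalizer (E : Set P) : Set P) ∧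
      ⁅E, normalizer (E : Set P)⁆ ≤ A ∧ Nat.card ↥⁅E, normalizer (E : Set P)⁆ = p ∧
      ∀ a ∈ normalizer (E : Set P), ∀ b ∈ normalizer (E : Set P),
        ⁅a, b⁆ ∈ ⁅E, normalizer (E : Set P)⁆ := by
  classical
  obtain ⟨E', hle, hne1, hne2, hrel, hcomm, hnorm, hcent⟩ := exists_partner hP c
  set N := normalizer (E : Set P) with hN
  set A := E ⊓ E' with hA
  have hEN : E ≤ N := le_normalizer
  obtain ⟨x, hxE', hxE⟩ := SetLike.not_le_iff_exists.mp hne1
  have hxN : x ∈ N := hle hxE'
  have hgen : E ⊔ zpowers x = N :=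
    eq_of_relIndex_prime c.rel le_sup_left (sup_le hEN (zpowers_le.mpr hxN))
      fun h => hxE (h (mem_sup_right (mem_zpowers x)))
  have hAcent : ∀ a ∈ A, ∀ n ∈ N, n * a = a * n := by
    intro a ha
    have : E ⊔ zpowers x ≤ centralizer ({a} : Set P) := by
      refine sup_le (fun e he => ?_) (zpowers_le.mpr ?_) <;>
        rw [mem_centralizer_singleton_iff]
      · exact c.comm e he a ha.1
      · exact hcomm x hxE' a ha.2
    intro n hn
    rw [← hgen] at hn
    exact mem_centralizer_singleton_iff.mp (this hn)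
  have hAeq : A = N ⊓ centralizer (N : Set P) := by
    refine le_antisymm (fun a ha => ⟨hEN ha.1, mem_centralizer'.mpr (hAcent a ha)⟩) ?_
    rintro a ⟨-, ha⟩
    exact ⟨c.cent (mem_centralizer'.mpr fun e he => mem_centralizer'.mp ha e (hEN he)),
      hcent (mem_centralizer'.mpr fun e he => mem_centralizer'.mp ha e (hle he))⟩
  have hArel : A.relIndex E = p := by
    rw [hA, inf_comm, inf_relIndex_right]
    have h1 : E'.relIndex E ≤ p :=
      hrel ▸ relIndex_le_of_le_right hEN (by rw [hrel]; exact hp.out.ne_zero)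
    obtain ⟨n, hn⟩ := (hP.to_subgroup E).index (E'.subgroupOf E)
    change E'.relIndex E = p ^ n at hn
    rcases n with _ | n
    · exact absurd (relIndex_eq_one.mp (by rw [hn, pow_zero])) hne2
    · have : p ≤ p ^ (n + 1) := Nat.le_self_pow n.succ_ne_zero p
      omega
  have hxA : ∀ b ∈ E, ⁅x, b⁆ ∈ A := by
    intro b hb
    refine ⟨?_, ?_⟩
    · show ⁅x, b⁆ ∈ E
      rw [commutatorElement_def]
      exact mul_mem ((mem_normalizer_iff.mp hxN _).mp hb) (inv_mem hb)
    · show ⁅x, b⁆ ∈ E'
      rw [commutatorElement_def, mul_assoc, mul_assoc]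
      refine mul_mem hxE' ?_
      rw [← mul_assoc]
      exact (mem_normalizer_iff.mp (hnorm (hEN hb)) _).mp (inv_mem hxE')
  let φ : E →* P :=
    { toFun := fun e => ⁅x, (e : P)⁆
      map_one' := by simp [commutatorElement_def]
      map_mul' := fun a b => by
        have hbA : ⁅x, (b : P)⁆ ∈ A := hxA _ b.2
        have h1 := hAcent _ hbA a (hEN a.2)
        push_cast
        rw [show ⁅x, (a : P) * b⁆ = ⁅x, (a : P)⁆ * (a * ⁅x, (b : P)⁆ * (a : P)⁻¹) by
          simp only [commutatorElement_def]; group, h1, mul_inv_cancel_right] }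
  have hφA : ∀ e, φ e ∈ A := fun e => hxA _ e.2
  have hcard : Nat.card φ.range = p := by
    rw [← index_ker]
    have hAker : A.subgroupOf E ≤ φ.ker := fun a ha => by
      show ⁅x, (a : P)⁆ = 1
      exact commutatorElement_eq_one_iff_mul_comm.mpr (hAcent a ha x hxN)
    rcases (Nat.dvd_prime hp.out).mp
      (hArel ▸ index_dvd_of_le hAker : φ.ker.index ∣ p) with h | h
    · exfalso
      refine hxE (c.cent (mem_centralizer'.mpr fun e he => ?_))
      have : (⟨e, he⟩ : E) ∈ φ.ker := (index_eq_one.mp h) ▸ mem_top _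
      exact (comm_of_eq_one (this : ⁅x, e⁆ = 1)).symm
    · exact h
  have hrngA : φ.range ≤ A := by rintro _ ⟨e, rfl⟩; exact hφA e
  have hbr : ∀ a ∈ N, ∀ b ∈ N, ⁅a, b⁆ ∈ φ.range := by
    have key : ∀ a : P, (∀ b ∈ E, ⁅a, b⁆ ∈ φ.range) → ⁅a, x⁆ ∈ φ.range → a ∈ N →
        ∀ b ∈ N, ⁅a, b⁆ ∈ φ.range := by
      intro a h1 h2 haN b hb
      rw [← hgen, sup_eq_closure] at hb
      induction hb using closure_induction with
      | mem y hy =>
        rcases hy with hy | hy
        · exact h1 y hy
        · obtain ⟨k, rfl⟩ := mem_zpowers_iff.mp hy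
          induction k with
          | zero => simp [one_mem]
          | succ k ih =>
            rw [zpow_add_one, show ⁅a, x ^ (k : ℤ) * x⁆ =
              ⁅a, x ^ (k : ℤ)⁆ * (x ^ (k : ℤ) * ⁅a, x⁆ * (x ^ (k : ℤ))⁻¹) by
                simp only [commutatorElement_def]; group,
              hAcent _ (hrngA h2) _ (zpow_mem hxN _), mul_inv_cancel_right]
            exact mul_mem (ih (zpow_mem (mem_zpowers x) _)) h2
          | pred k ih =>
            rw [zpow_sub_one, show ⁅a, x ^ (-(k : ℤ)) * x⁻¹⁆ = ⁅a, x ^ (-(k : ℤ))⁆ *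
              ((x ^ (-(k : ℤ)) * x⁻¹) * ⁅a, x⁆⁻¹ * (x ^ (-(k : ℤ)) * x⁻¹)⁻¹) by
                simp only [commutatorElement_def]; group,
              hAcent _ (hrngA (inv_mem h2)) _ (mul_mem (zpow_mem hxN _) (inv_mem hxN)),
              mul_inv_cancel_right]
            exact mul_mem (ih (zpow_mem (mem_zpowers x) _)) (inv_mem h2)
      | one => simp [one_mem]
      | mul y w hy hw ihy ihw =>
        have hyN : y ∈ N := by rw [← hgen, sup_eq_closure]; exact hy
        rw [show ⁅a, y * w⁆ = ⁅a, y⁆ * (y * ⁅a, w⁆ * y⁻¹) by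
          simp only [commutatorElement_def]; group,
          hAcent _ (hrngA ihw) y hyN, mul_inv_cancel_right]
        exact mul_mem ihy ihw
      | inv y hy ihy =>
        have hyN : y ∈ N := by rw [← hgen, sup_eq_closure]; exact hy
        rw [show ⁅a, y⁻¹⁆ = y⁻¹ * ⁅a, y⁆⁻¹ * y by simp only [commutatorElement_def]; group,
          hAcent _ (hrngA (inv_mem ihy)) y⁻¹ (inv_mem hyN), inv_mul_cancel_right]
        exact inv_mem ihy
    have hEx : ∀ b ∈ E, ⁅b, x⁆ ∈ φ.range := fun b hb => by
      rw [← commutatorElement_inv x b]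
      exact inv_mem ⟨⟨b, hb⟩, rfl⟩
    have hEall : ∀ a ∈ E, ∀ b ∈ N, ⁅a, b⁆ ∈ φ.range := fun a ha =>
      key a (fun b hb => by
        rw [commutatorElement_eq_one_iff_mul_comm.mpr (c.comm a ha b hb)]; exact one_mem _)
        (hEx a ha) (hEN ha)
    intro a ha
    refine key a (fun b hb => ?_) ?_ ha
    · rw [← commutatorElement_inv b a]; exact inv_mem (hEall b hb a ha)
    · rw [← commutatorElement_inv x a]
      exact inv_mem (key x (fun b hb => ⟨⟨b, hb⟩, rfl⟩) (by simp [one_mem]) hxN a ha)
  have hzeq : ⁅E, N⁆ = φ.range := by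
    refine le_antisymm (commutator_le.mpr fun a ha b hb => hbr a (hEN ha) b hb) ?_
    rintro _ ⟨e, rfl⟩
    show ⁅x, (e : P)⁆ ∈ _
    rw [← commutatorElement_inv (e : P) x]
    exact inv_mem (commutator_mem_commutator e.2 hxN)
  refine ⟨A, inf_le_left, hArel, hAeq, hzeq ▸ hrngA, hzeq ▸ hcard, ?_⟩
  rw [hzeq]
  exact hbr

/-- The normalizer of `E` has index `p` in its own normalizer. -/
theorem relIndex_normalizer (hP : IsPGroup p P) (c : Conf p E) :
    (normalizer (E : Set P)).relIndex
      (normalizer (normalizer (E : Set P) : Set P)) = p := by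
  classical
  obtain ⟨A, hAE, hArel, hAeq, -, -, -⟩ := commutator_facts hP c
  set N := normalizer (E : Set P) with hN
  set H := normalizer (N : Set P) with hH
  have hEN : E ≤ N := le_normalizer
  have hNtop : ¬ (⊤ : Subgroup P) ≤ N := fun h => by
    have h1 : p ≤ N.index := le_index_of_conf c
    rw [top_le_iff.mp h, index_top] at h1
    have := hp.out.two_le
    omega
  obtain ⟨m, hm⟩ := (hP.to_subgroup H).index (N.subgroupOf H)
  change N.relIndex H = p ^ m at hm
  have hm0 : m ≠ 0 := by
    rintro rfl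
    obtain ⟨g, -, hg, hgN⟩ := exists_mem_normalizer hP le_top hNtop
    exact hgN (relIndex_eq_one.mp (by rw [hm, pow_zero]) hg)
  -- conjugates of `E` under `H` contain `A` and otherwise are disjoint
  have hAinv : ∀ h ∈ H, ∀ a ∈ A, h⁻¹ * a * h ∈ A := by
    intro h hh a ha
    rw [hAeq] at ha ⊢
    have hh' := inv_mem hh
    refine ⟨by simpa using (mem_normalizer_iff.mp hh' a).mp ha.1, mem_centralizer'.mpr fun n hn => ?_⟩
    have h2 := mem_centralizer'.mp ha.2 _ ((mem_normalizer_iff.mp hh n).mp hn)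
    calc n * (h⁻¹ * a * h) = h⁻¹ * ((h * n * h⁻¹) * a) * h := by group
      _ = h⁻¹ * (a * (h * n * h⁻¹)) * h := by rw [h2]
      _ = h⁻¹ * a * h * n := by group
  let B := {e : P // e ∈ E ∧ e ∉ A}
  let f : (↥H ⧸ N.subgroupOf H) × B → {n : P // n ∈ N ∧ n ∉ A} := fun x =>
    ⟨(x.1.out : P) * x.2.1 * (x.1.out : P)⁻¹,
      (mem_normalizer_iff.mp x.1.out.2 _).mp (hEN x.2.2.1), fun h => x.2.2.2 (by
        simpa [mul_assoc] using hAinv _ x.1.out.2 _ h)⟩
  have hinj : Function.Injective f := by
    rintro ⟨q, b⟩ ⟨r, b'⟩ h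
    have hv : (q.out : P) * b.1 * (q.out : P)⁻¹ = (r.out : P) * b'.1 * (r.out : P)⁻¹ :=
      congrArg Subtype.val h
    set u := (r.out : P)⁻¹ * (q.out : P) with hu
    have huH : u ∈ H := mul_mem (inv_mem r.out.2) q.out.2
    have hub : u * b.1 * u⁻¹ = b'.1 := by
      rw [hu, mul_inv_rev, inv_inv]
      calc (r.out : P)⁻¹ * q.out * b.1 * ((q.out : P)⁻¹ * r.out)
          = (r.out : P)⁻¹ * ((q.out : P) * b.1 * (q.out : P)⁻¹) * r.out := by group
        _ = b'.1 := by rw [hv]; group
    have hAb : A ⊔ zpowers b.1 = E :=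
      eq_of_relIndex_prime hArel le_sup_left (sup_le hAE (zpowers_le.mpr b.2.1))
        fun h => b.2.2 (h (mem_sup_right (mem_zpowers _)))
    have hle : E.map (MulAut.conj u).toMonoidHom ≤ E := by
      rw [← hAb, Subgroup.map_sup, MonoidHom.map_zpowers]
      refine sup_le ?_ (zpowers_le.mpr ?_)
      · rintro _ ⟨a, ha, rfl⟩
        have := hAinv u⁻¹ (inv_mem huH) a ha
        rw [inv_inv] at this
        exact (le_sup_left : A ≤ A ⊔ zpowers b.1) this
      · show u * b.1 * u⁻¹ ∈ A ⊔ zpowers b.1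
        rw [hub, hAb]
        exact b'.2.1
    have huN : u ∈ N := mem_normalizer_iff_map_conj_eq.mpr
      (eq_of_le_of_card_ge hle (card_map_of_injective (MulAut.conj u).injective).ge)
    have hqr : q = r := by
      rw [← QuotientGroup.out_eq' q, ← QuotientGroup.out_eq' r]
      exact (QuotientGroup.eq.mpr (mem_subgroupOf.mpr (by simpa [hu] using huN))).symm
    subst hqr
    have : b.1 = b'.1 := mul_left_cancel (mul_right_cancel hv)
    rw [Subtype.ext this]
  have hle := Nat.card_le_card_of_injective f hinj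
  have hB : Nat.card B + Nat.card A = Nat.card E := by
    have e : {e : P // e ∈ E ∧ e ∈ A} ≃ A :=
      Equiv.subtypeEquivRight fun e => ⟨And.right, fun h => ⟨hAE h, h⟩⟩
    rw [add_comm, ← Nat.card_congr e, ← Nat.card_congr (Equiv.subtypeSubtypeEquivSubtypeInter
      (· ∈ E) (· ∈ A)), ← Nat.card_congr (Equiv.subtypeSubtypeEquivSubtypeInter
      (· ∈ E) (· ∉ A)), ← Nat.card_sum]
    exact Nat.card_congr (Equiv.sumCompl _)
  have hC : Nat.card {n : P // n ∈ N ∧ n ∉ A} + Nat.card A = Nat.card N := by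
    have e : {e : P // e ∈ N ∧ e ∈ A} ≃ A :=
      Equiv.subtypeEquivRight fun e => ⟨And.right, fun h => ⟨hEN (hAE h), h⟩⟩
    rw [add_comm, ← Nat.card_congr e, ← Nat.card_congr (Equiv.subtypeSubtypeEquivSubtypeInter
      (· ∈ N) (· ∈ A)), ← Nat.card_congr (Equiv.subtypeSubtypeEquivSubtypeInter
      (· ∈ N) (· ∉ A)), ← Nat.card_sum]
    exact Nat.card_congr (Equiv.sumCompl _)
  have hcE : Nat.card A * p = Nat.card E := by
    rw [← hArel, ← relIndex_bot_left, ← relIndex_bot_left, relIndex_mul_relIndex ⊥ A E bot_le hAE]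
  have hcN : Nat.card E * p = Nat.card N := by
    rw [← c.rel, ← relIndex_bot_left, ← relIndex_bot_left, relIndex_mul_relIndex ⊥ E N bot_le hEN]
  rw [Nat.card_prod, show Nat.card (↥H ⧸ N.subgroupOf H) = p ^ m from hm] at hle
  have hAp : 0 < Nat.card A := Nat.card_pos
  rcases Nat.lt_or_ge m 2 with h2 | h2
  · rw [hm, show m = 1 by omega, pow_one]
  · exfalso
    have h3 : p ^ 2 ≤ p ^ m := Nat.pow_le_pow_right hp.out.pos h2
    have hp2 := hp.out.two_le
    nlinarith [Nat.mul_le_mul_right (Nat.card B) h3, hle, hB, hC, hcE, hcN, hAp]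

end Basic

/-! ## The tower -/

universe u

/-- The invariant proved by induction. -/
def Tower (p : ℕ) {P : Type u} [Group P] (E : Subgroup P) : Prop :=
  (∀ K L : Subgroup P, E ≤ K → E ≤ L → K ≤ L ∨ L ≤ K) ∧
    (∀ K : Subgroup P, E ≤ K → K ≠ ⊤ → K.relIndex (normalizer (K : Set P)) = p) ∧
    (∀ K : Subgroup P, E ≤ K → K ≠ ⊤ → ⁅E, normalizer (E : Set P)⁆ ≤ centralizer (K : Set P)) ∧
    ∀ (i : ℕ) (K : Subgroup P), E ≤ K → K ≠ ⊤ → K.index * p ^ i = E.index →
      Group.nilpotencyClass ↥K ≤ i + 1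

/-- The class bound for a subgroup with commutators in a central subgroup. -/
theorem class_le_two (hP : IsPGroup p P) {K z : Subgroup P} (h : ∀ a ∈ K, ∀ b ∈ K, ⁅a, b⁆ ∈ z)
    (hz : z ≤ centralizer (K : Set P)) : Group.nilpotencyClass ↥K ≤ 2 := by
  have := (hP.to_subgroup K).isNilpotent
  rw [← Subgroup.upperCentralSeries_eq_top_iff_nilpotencyClass_le, eq_top_iff]
  intro a _
  rw [Subgroup.mem_upperCentralSeries_succ_iff]
  intro b
  rw [Subgroup.upperCentralSeries_one, mem_center_iff]
  intro y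
  apply Subtype.ext
  have := mem_centralizer'.mp (hz (h a a.2 b b.2)) y y.2
  simpa [commutatorElement_def] using this

theorem class_le_one (hP : IsPGroup p P) {K : Subgroup P}
    (h : ∀ a ∈ K, ∀ b ∈ K, a * b = b * a) : Group.nilpotencyClass ↥K ≤ 1 := by
  have := (hP.to_subgroup K).isNilpotent
  rw [← Subgroup.upperCentralSeries_eq_top_iff_nilpotencyClass_le, Subgroup.upperCentralSeries_one, eq_top_iff]
  exact fun a _ => mem_center_iff.mpr fun b => Subtype.ext (h b b.2 a a.2)

/-- Passing to a quotient. -/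
theorem conf_map {E W : Subgroup P} [W.Normal] {E₁ : Subgroup P} (hWE : W ≤ E₁)
    (hcomm : ∀ a ∈ E₁, ∀ b ∈ E₁, ⁅a, b⁆ ∈ W)
    (hcent : ∀ y : P, (∀ a ∈ E₁, ⁅a, y⁆ ∈ W) → y ∈ E₁)
    (hrel : E₁.relIndex (normalizer (E₁ : Set P)) = p) (hidx : p ^ 2 ≤ E₁.index) :
    Conf p (E₁.map (QuotientGroup.mk' W)) ∧
      normalizer ((E₁.map (QuotientGroup.mk' W) : Subgroup (P ⧸ W)) : Set (P ⧸ W)) =
        (normalizer (E₁ : Set P)).map (QuotientGroup.mk' W) := by
  have hsurj := QuotientGroup.mk'_surjective W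
  have hcm : (E₁.map (QuotientGroup.mk' W)).comap (QuotientGroup.mk' W) = E₁ := by
    rw [comap_map_eq, QuotientGroup.ker_mk', sup_eq_left.mpr hWE]
  have hnorm : normalizer ((E₁.map (QuotientGroup.mk' W) : Subgroup (P ⧸ W)) : Set (P ⧸ W)) =
      (normalizer (E₁ : Set P)).map (QuotientGroup.mk' W) := by
    conv_rhs => rw [← hcm, ← comap_normalizer_eq_of_surjective _ hsurj]
    rw [map_comap_eq_self_of_surjective hsurj]
  have hmem : ∀ a b : P, ⁅a, b⁆ ∈ W →
      QuotientGroup.mk' W a * QuotientGroup.mk' W b =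
        QuotientGroup.mk' W b * QuotientGroup.mk' W a := fun a b h => by
    apply comm_of_eq_one
    rw [← map_commutatorElement]
    exact (QuotientGroup.eq_one_iff _).mpr h
  refine ⟨⟨?_, ?_, ?_, ?_⟩, hnorm⟩
  · rintro _ ⟨a, ha, rfl⟩ _ ⟨b, hb, rfl⟩
    exact hmem a b (hcomm a ha b hb)
  · intro y hy
    obtain ⟨y, rfl⟩ := hsurj y
    refine ⟨y, hcent y fun a ha => (QuotientGroup.eq_one_iff _).mp ?_, rfl⟩
    show QuotientGroup.mk' W ⁅a, y⁆ = 1
    rw [map_commutatorElement]
    exact commutatorElement_eq_one_iff_mul_comm.mpr (mem_centralizer'.mp hy _ ⟨a, ha, rfl⟩)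
  · rw [hnorm, ← relIndex_comap, hcm, hrel]
  · rw [← index_comap_of_surjective _ hsurj, hcm]
    exact hidx

/-- Every maximal subgroup over `E` centralises `[E, N(E)]`. -/
theorem le_centralizer_of_maximal {n : ℕ} {P : Type u} [Group P] [Finite P] (hn : Nat.card P = n)
    (ih : ∀ m < n, ∀ (Q : Type u) [Group Q] [Finite Q], Nat.card Q = m → IsPGroup p Q →
      ∀ E : Subgroup Q, Conf p E → Tower p E)
    (hP : IsPGroup p P) {E : Subgroup P} (c : Conf p E) (hidx : p ^ 3 ≤ E.index) {R : Subgroup P}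
    (hER : E ≤ R) [hRn : R.Normal] (hRi : R.index = p) :
    ⁅E, normalizer (E : Set P)⁆ ≤ centralizer (R : Set P) := by
  classical
  obtain ⟨A, hAE, -, hAeq, hzA, hzcard, -⟩ := commutator_facts hP c
  set N := normalizer (E : Set P) with hN
  set z := ⁅E, N⁆ with hz
  by_cases hzc : z ≤ center P
  · exact hzc.trans (center_le_centralizer _)
  have : Nontrivial P := by
    obtain ⟨c₀, -, hc₀⟩ := SetLike.not_le_iff_exists.mp hzc
    exact ⟨⟨c₀, 1, fun h => hc₀ (h ▸ one_mem _)⟩⟩
  have hpc : p ∣ Nat.card (center P) := by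
    obtain ⟨k, hk⟩ := (hP.to_subgroup (center P)).exists_card_eq
    rw [hk]
    refine dvd_pow_self p fun h0 => ?_
    rw [h0, pow_zero] at hk
    have h1 : 1 < Nat.card (center P) := by
      have := hP.center_nontrivial
      exact Finite.one_lt_card
    omega
  obtain ⟨w, hw⟩ := exists_prime_orderOf_dvd_card' (G := center P) p hpc
  set W := zpowers (w : P) with hW
  have hWc : W ≤ center P := zpowers_le.mpr w.2
  have hWn : W.Normal := ⟨fun a ha g => by
    rw [(mem_center_iff.mp (hWc ha) g), mul_inv_cancel_right]; exact ha⟩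
  have hWcard : Nat.card W = p := by rw [hW, Nat.card_zpowers, Subgroup.orderOf_coe, hw]
  have hWE : W ≤ E := (hWc.trans (center_le_centralizer _)).trans c.cent
  have hWz : W ⊓ z = ⊥ := by
    by_contra hne
    apply hzc
    have hd1 : Nat.card ↥(W ⊓ z) ∣ p := hWcard ▸ card_dvd_of_le inf_le_left
    rcases (Nat.dvd_prime hp.out).mp hd1 with h | h
    · exact absurd (card_eq_one.mp h) hne
    · have e1 : W ⊓ z = z := eq_of_le_of_card_ge inf_le_right (by rw [h, hzcard])
      exact (e1.ge.trans inf_le_left).trans hWc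
  have hbr : ∀ a ∈ E, ∀ y : P, ⁅a, y⁆ ∈ W → y ∈ N → ⁅a, y⁆ = 1 := fun a ha y h hy =>
    mem_bot.mp (hWz ▸ mem_inf.mpr ⟨h, commutator_mem_commutator ha hy⟩)
  have hcentW : ∀ y : P, (∀ a ∈ E, ⁅a, y⁆ ∈ W) → y ∈ E := by
    intro y hy
    have hyN : y ∈ N := by
      refine mem_normalizer_iff_map_conj_eq.mpr
        (eq_of_le_of_card_ge ?_ (card_map_of_injective (MulAut.conj y).injective).ge)
      rintro _ ⟨a, ha, rfl⟩
      show y * a * y⁻¹ ∈ E
      rw [show y * a * y⁻¹ = ⁅a, y⁆⁻¹ * a by simp only [commutatorElement_def]; group]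
      exact mul_mem (inv_mem (hWE (hy a ha))) ha
    exact c.cent (mem_centralizer'.mpr fun a ha => comm_of_eq_one (hbr a ha y (hy a ha) hyN))
  -- the quotient by `W`
  obtain ⟨cW, hnW⟩ := conf_map (p := p) hWE (fun a ha b hb => by
      rw [commutatorElement_eq_one_iff_mul_comm.mpr (c.comm a ha b hb)]; exact one_mem _)
    hcentW c.rel c.idx (E := E)
  have hQlt : Nat.card (P ⧸ W) < n := by
    have h1 := card_eq_card_quotient_mul_card_subgroup W
    rw [hWcard, hn] at h1
    have h2 : 0 < Nat.card (P ⧸ W) := Nat.card_pos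
    have := hp.out.two_le
    nlinarith
  obtain ⟨-, hWb, hWd, -⟩ := ih _ hQlt (P ⧸ W) rfl (hP.to_quotient W) _ cW
  have hRW : ∀ r ∈ R, ∀ a ∈ z, ⁅r, a⁆ ∈ W := by
    intro r hr a ha
    have htop : R.map (QuotientGroup.mk' W) ≠ ⊤ := fun h => by
      have := congrArg (Subgroup.comap (QuotientGroup.mk' W)) h
      rw [comap_map_eq, QuotientGroup.ker_mk', sup_eq_left.mpr (hWE.trans hER), comap_top] at this
      rw [this, index_top] at hRi
      exact hp.out.ne_one hRi.symm
    have hm := hWd _ (map_mono hER) htop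
    rw [hnW, ← map_commutator] at hm
    apply (QuotientGroup.eq_one_iff _).mp
    show QuotientGroup.mk' W ⁅r, a⁆ = 1
    rw [map_commutatorElement]
    exact commutatorElement_eq_one_iff_mul_comm.mpr
      (mem_centralizer'.mp (hm ⟨a, ha, rfl⟩) _ ⟨r, hr, rfl⟩)
  -- inside `R`
  have hEneR : ¬ R ≤ E := fun h => by
    rw [le_antisymm hER h, hRi] at hidx
    have := hp.out.two_le
    nlinarith [pow_succ p 2, pow_two p]
  have hNR : N ≤ R := normalizer_le_of_lt hP c.rel hER hEneR
  have hsub : normalizer ((E.subgroupOf R : Subgroup R) : Set R) = N.subgroupOf R :=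
    (subgroupOf_normalizer_eq hER).symm
  have cR : Conf p (E.subgroupOf R) := by
    refine ⟨fun a ha b hb => Subtype.ext (c.comm a ha b hb), fun y hy => ?_, ?_, ?_⟩
    · exact c.cent (mem_centralizer'.mpr fun e he =>
        congrArg Subtype.val (mem_centralizer'.mp hy ⟨e, hER he⟩ he))
    · rw [hsub, relIndex_subgroupOf hNR]; exact c.rel
    · have h1 := relIndex_mul_index hER
      rw [hRi] at h1
      refine Nat.le_of_mul_le_mul_right (c := p) ?_ hp.out.pos
      show p ^ 2 * p ≤ E.relIndex R * p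
      rw [h1, ← pow_succ]
      exact hidx
  have hRlt : Nat.card R < n := by
    have h1 := R.card_mul_index
    rw [hRi, hn] at h1
    have : 0 < Nat.card R := Nat.card_pos
    have := hp.out.two_le
    nlinarith
  obtain ⟨hRtot, -, hRd, -⟩ := ih _ hRlt R rfl (hP.to_subgroup R) _ cR
  have hEtop : E.subgroupOf R ≠ ⊤ := fun h => hEneR (subgroupOf_eq_top.mp h)
  obtain ⟨M, hEM, hMn, hMi⟩ := exists_maximal (hP.to_subgroup R) hEtop
  have hMtop : M ≠ ⊤ := fun h => by rw [h, index_top] at hMi; exact hp.out.ne_one hMi.symm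
  set M' := M.map R.subtype with hM'
  have hEM' : E ≤ M' := fun e he => ⟨⟨e, hER he⟩, hEM he, rfl⟩
  have hMsub : M'.subgroupOf R = M := comap_map_eq_self_of_injective R.subtype_injective M
  have hzR : z ≤ R := (hzA.trans hAE).trans hER
  have hzM : ∀ a ∈ z, ∀ m ∈ M', m * a = a * m := by
    intro a ha m hm
    obtain ⟨m, hm', rfl⟩ := hm
    have hza : (⟨a, hzR ha⟩ : R) ∈ ⁅E.subgroupOf R, N.subgroupOf R⁆ := by
      have h1 : a ∈ (⁅E.subgroupOf R, N.subgroupOf R⁆).map R.subtype := by
        rw [map_commutator, subgroupOf_map_subtype, subgroupOf_map_subtype, inf_eq_left.mpr hER,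
          inf_eq_left.mpr hNR]
        exact ha
      obtain ⟨b, hb, hba⟩ := h1
      rwa [show (⟨a, hzR ha⟩ : R) = b from Subtype.ext hba.symm]
    have := hRd M hEM hMtop
    rw [hsub] at this
    exact congrArg Subtype.val (mem_centralizer'.mp (this hza) m hm')
  -- some element moves `M'`
  have hMW : W ≤ M' := hWE.trans hEM'
  have hM'rel : M'.relIndex (normalizer (M' : Set P)) = p := by
    have htop : M'.map (QuotientGroup.mk' W) ≠ ⊤ := fun h => by
      have := congrArg (Subgroup.comap (QuotientGroup.mk' W)) h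
      rw [comap_map_eq, QuotientGroup.ker_mk', sup_eq_left.mpr hMW, comap_top] at this
      have h2 : (⊤ : Subgroup P) ≤ R := this ▸ map_subtype_le M
      rw [top_le_iff.mp h2, index_top] at hRi
      exact hp.out.ne_one hRi.symm
    have h1 := hWb _ (map_mono hEM') htop
    have hsurj := QuotientGroup.mk'_surjective W
    have hcm : (M'.map (QuotientGroup.mk' W)).comap (QuotientGroup.mk' W) = M' := by
      rw [comap_map_eq, QuotientGroup.ker_mk', sup_eq_left.mpr hMW]
    have hnorm : normalizer ((M'.map (QuotientGroup.mk' W) : Subgroup (P ⧸ W)) : Set (P ⧸ W)) =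
        (normalizer (M' : Set P)).map (QuotientGroup.mk' W) := by
      conv_rhs => rw [← hcm, ← comap_normalizer_eq_of_surjective _ hsurj]
      rw [map_comap_eq_self_of_surjective hsurj]
    rwa [hnorm, ← relIndex_comap, hcm] at h1
  have hRnorm : R ≤ normalizer (M' : Set P) := by
    intro r hr
    refine mem_normalizer_iff_map_conj_eq.mpr
      (eq_of_le_of_card_ge ?_ (card_map_of_injective (MulAut.conj r).injective).ge)
    rintro _ ⟨_, ⟨m, hm, rfl⟩, rfl⟩
    exact ⟨_, hMn.conj_mem m hm ⟨r, hr⟩, rfl⟩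
  have hNM : normalizer (M' : Set P) = R := by
    refine (eq_of_relIndex_prime hM'rel (map_subtype_le M) hRnorm fun h => hMtop ?_).symm
    rw [← hMsub, subgroupOf_eq_top]
    exact h
  obtain ⟨g, hg⟩ : ∃ g, g ∉ R := by
    by_contra hall
    push Not at hall
    rw [(eq_top_iff' R).mpr hall, index_top] at hRi
    exact hp.out.ne_one hRi.symm
  intro a ha
  have hga : ∀ r ∈ R, ⁅r, g * a * g⁻¹⁆ ∈ W := fun r hr => by
    rw [show ⁅r, g * a * g⁻¹⁆ = g * ⁅g⁻¹ * r * g, a⁆ * g⁻¹ by
      simp only [commutatorElement_def]; group]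
    exact hWn.conj_mem _ (hRW _ (by simpa using hRn.conj_mem r hr g⁻¹) a ha) g
  have hgaE : g * a * g⁻¹ ∈ E := hcentW _ fun e he => hga e (hER he)
  -- the conjugate of `a` commutes with `R`
  set C := centralizer ({g * a * g⁻¹} : Set P) with hC
  set M'' := M'.map (MulAut.conj g).toMonoidHom with hM''
  have hM''R : M'' ≤ R := by
    rintro _ ⟨m, hm, rfl⟩
    exact hRn.conj_mem m (map_subtype_le M hm) g
  have hM''C : M'' ≤ C := by
    rintro _ ⟨m, hm, rfl⟩
    rw [mem_centralizer_singleton_iff]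
    show g * m * g⁻¹ * (g * a * g⁻¹) = g * a * g⁻¹ * (g * m * g⁻¹)
    calc g * m * g⁻¹ * (g * a * g⁻¹) = g * (m * a) * g⁻¹ := by group
      _ = g * (a * m) * g⁻¹ := by rw [hzM a ha m hm]
      _ = _ := by group
  have hEC : E ≤ C := fun e he =>
    mem_centralizer_singleton_iff.mpr (c.comm e he _ hgaE)
  have hM''rel : M''.relIndex R = p := by
    have hRg : R.map (MulAut.conj g).toMonoidHom = R :=
      mem_normalizer_iff_map_conj_eq.mp (normalizer_eq_top (H := R) ▸ mem_top g)
    rw [hM'']
    conv_lhs => rw [← hRg]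
    rw [relIndex_map_map_of_injective _ _ (MulAut.conj g).injective]
    show (M'.subgroupOf R).index = p
    rw [hMsub, hMi]
  have hEnot : ¬ E ≤ M'' := by
    intro h
    apply hg
    rw [← hNM]
    refine mem_normalizer_iff_map_conj_eq.mpr ?_
    have hc : Nat.card M'' = Nat.card M' := card_map_of_injective (MulAut.conj g).injective
    rcases hRtot M (M''.subgroupOf R) hEM (fun e he => h he) with h1 | h1
    · exact (eq_of_le_of_card_ge (fun m hm => by
        obtain ⟨m, hm, rfl⟩ := hm
        exact h1 hm) hc.le).symm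
    · exact eq_of_le_of_card_ge (fun m hm => ⟨⟨m, hM''R hm⟩, h1 hm, rfl⟩) hc.ge
  have hjoin : M'' ⊔ E = R := eq_of_relIndex_prime hM''rel le_sup_left (sup_le hM''R hER)
    fun h => hEnot (le_sup_right.trans h)
  have hRC : R ≤ C := hjoin ▸ sup_le hM''C hEC
  rw [mem_centralizer']
  intro r hr
  have h1 := mem_centralizer_singleton_iff.mp (hRC (hRn.conj_mem r hr g))
  have h2 : g * (r * a) * g⁻¹ = g * (a * r) * g⁻¹ := by
    calc g * (r * a) * g⁻¹ = g * r * g⁻¹ * (g * a * g⁻¹) := by group
      _ = g * a * g⁻¹ * (g * r * g⁻¹) := h1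
      _ = g * (a * r) * g⁻¹ := by group
  exact mul_left_cancel (mul_right_cancel h2)

theorem tower_aux (n : ℕ) : ∀ (P : Type u) [Group P] [Finite P], Nat.card P = n → IsPGroup p P →
    ∀ E : Subgroup P, Conf p E → Tower p E := by
  induction n using Nat.strong_induction_on with
  | _ n ih =>
  intro P _ _ hn hP E c
  classical
  obtain ⟨A, hAE, -, hAeq, hzA, hzcard, hbr⟩ := commutator_facts hP c
  set N := normalizer (E : Set P) with hN
  set z := ⁅E, N⁆ with hz
  have hzN : z ≤ centralizer (N : Set P) := (hzA.trans hAeq.le).trans inf_le_right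
  have hEN : E ≤ N := le_normalizer
  have hpp := hp.out.two_le
  have hNidx : N.index * p = E.index := by
    have h := relIndex_mul_index hEN
    rw [c.rel] at h
    rw [mul_comm]; exact h
  have hstep : ∀ K : Subgroup P, E ≤ K → ¬ K ≤ E → N ≤ K := fun K h1 h2 =>
    normalizer_le_of_lt hP c.rel h1 h2
  have hclassE : ∀ i : ℕ, Group.nilpotencyClass ↥E ≤ i + 1 := fun i =>
    (class_le_one hP c.comm).trans (Nat.le_add_left 1 i)
  rcases Nat.lt_or_ge E.index (p ^ 3) with hlt | hidx
  · -- `N` is a maximal subgroup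
    have hNp : N.index = p := by
      obtain ⟨m, hm⟩ := hP.index N
      have h1 := le_index_of_conf c
      rw [hm] at h1
      rw [← hNidx, hm, ← pow_succ] at hlt
      have h2 := (Nat.pow_lt_pow_iff_right hp.out.one_lt).mp hlt
      rcases m with _ | _ | m
      · rw [pow_zero] at h1; omega
      · rw [hm, pow_one]
      · omega
    have htop : ∀ K : Subgroup P, E ≤ K → K = E ∨ K = N ∨ K = ⊤ := by
      intro K hK
      by_cases h : K ≤ E
      · exact Or.inl (le_antisymm h hK)
      · by_cases h' : K ≤ N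
        · exact Or.inr (Or.inl (le_antisymm h' (hstep K hK h)))
        · exact Or.inr (Or.inr (eq_of_relIndex_prime (by rw [relIndex_top_right, hNp])
            (hstep K hK h) le_top h'))
    refine ⟨fun K L hK hL => ?_, fun K hK hKt => ?_, fun K hK hKt => ?_, fun i K hK hKt hi => ?_⟩
    · rcases htop K hK with rfl | rfl | rfl
      · exact Or.inl hL
      · rcases htop L hL with rfl | rfl | rfl
        · exact Or.inr hEN
        · exact Or.inl le_rfl
        · exact Or.inl le_top
      · exact Or.inr le_top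
    · rcases htop K hK with rfl | rfl | rfl
      · exact c.rel
      · exact relIndex_normalizer hP c
      · exact absurd rfl hKt
    · rcases htop K hK with rfl | rfl | rfl
      · exact hzN.trans (centralizer_le hEN)
      · exact hzN
      · exact absurd rfl hKt
    · rcases htop K hK with rfl | rfl | rfl
      · exact hclassE i
      · have : i ≠ 0 := by
          rintro rfl
          rw [pow_zero, mul_one, ← hNidx] at hi
          have : N.index ≠ 0 := index_ne_zero_of_finite
          nlinarith [Nat.pos_of_ne_zero this]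
        exact (class_le_two hP hbr hzN).trans (by omega)
      · exact absurd rfl hKt
  have hmax : ∀ K : Subgroup P, E ≤ K → K ≠ ⊤ → z ≤ centralizer (K : Set P) := by
    intro K hK hKt
    obtain ⟨R, hKR, hRn, hRi⟩ := exists_maximal hP hKt
    exact (le_centralizer_of_maximal hn ih hP c hidx (hK.trans hKR) hRi).trans
      (centralizer_le hKR)
  have hNtop : N ≠ ⊤ := fun h => by
    rw [h, index_top, one_mul] at hNidx
    have := Nat.lt_of_lt_of_le (show p < p ^ 3 by nlinarith [pow_succ p 2, pow_two p]) hidx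
    omega
  obtain ⟨R, hNR, hRn, hRi⟩ := exists_maximal hP hNtop
  set Y := normalClosure (z : Set P) with hY
  have hYK : ∀ K : Subgroup P, E ≤ K → K ≠ ⊤ → Y ≤ centralizer (K : Set P) := by
    intro K hK hKt
    obtain ⟨R', hKR, hR'n, hR'i⟩ := exists_maximal hP hKt
    refine le_trans ?_ (centralizer_le hKR)
    have : (centralizer (R' : Set P)).Normal := ⟨fun a ha g => mem_centralizer'.mpr fun r hr => by
      have := mem_centralizer'.mp ha (g⁻¹ * r * g) (by simpa using hR'n.conj_mem r hr g⁻¹)
      calc r * (g * a * g⁻¹) = g * (g⁻¹ * r * g * a) * g⁻¹ := by group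
        _ = g * (a * (g⁻¹ * r * g)) * g⁻¹ := by rw [this]
        _ = g * a * g⁻¹ * r := by group⟩
    exact normalClosure_le_normal
      (le_centralizer_of_maximal hn ih hP c hidx (hK.trans hKR) hR'i)
  have hYE : Y ≤ E := ((hYK R (hEN.trans hNR) fun h => by
    rw [h, index_top] at hRi; exact hp.out.ne_one hRi.symm).trans
      (centralizer_le (hEN.trans hNR))).trans c.cent
  have hzY : z ≤ Y := le_normalClosure
  have hYN : Y ≤ N := hYE.trans hEN
  have : Y.Normal := normalClosure_normal
  obtain ⟨cY, -⟩ := conf_map (p := p) (W := Y) hYN (fun a ha b hb => hzY (hbr a ha b hb))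
    (fun y hy => mem_normalizer_iff_map_conj_eq.mpr
      (eq_of_le_of_card_ge (by
        rintro _ ⟨a, ha, rfl⟩
        show y * a * y⁻¹ ∈ E
        rw [show y * a * y⁻¹ = ⁅a, y⁆⁻¹ * a by simp only [commutatorElement_def]; group]
        exact mul_mem (inv_mem (hYE (hy a (hEN ha)))) ha)
        (card_map_of_injective (MulAut.conj y).injective).ge))
    (relIndex_normalizer hP c) (by
      refine Nat.le_of_mul_le_mul_right (c := p) ?_ hp.out.pos
      rw [hNidx, ← pow_succ]
      exact hidx) (E := E)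
  have hQlt : Nat.card (P ⧸ Y) < n := by
    have h1 := card_eq_card_quotient_mul_card_subgroup Y
    rw [hn] at h1
    have h2 : 0 < Nat.card (P ⧸ Y) := Nat.card_pos
    have h3 : p ≤ Nat.card Y := hzcard ▸ card_le_of_le hzY
    nlinarith
  obtain ⟨htot, hrel, -, hclass⟩ := ih _ hQlt (P ⧸ Y) rfl (hP.to_quotient Y) _ cY
  have hcm : ∀ K : Subgroup P, N ≤ K →
      (K.map (QuotientGroup.mk' Y)).comap (QuotientGroup.mk' Y) = K := fun K hK => by
    rw [comap_map_eq, QuotientGroup.ker_mk', sup_eq_left.mpr (hYN.trans hK)]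
  have hnt : ∀ K : Subgroup P, N ≤ K → K ≠ ⊤ → K.map (QuotientGroup.mk' Y) ≠ ⊤ :=
    fun K hK hKt h => hKt (by rw [← hcm K hK, h, comap_top])
  refine ⟨fun K L hK hL => ?_, fun K hK hKt => ?_, hmax, fun i K hK hKt hi => ?_⟩
  · by_cases h1 : K ≤ E
    · exact Or.inl (h1.trans hL)
    by_cases h2 : L ≤ E
    · exact Or.inr (h2.trans hK)
    have hK' := hstep K hK h1
    have hL' := hstep L hL h2
    rw [← hcm K hK', ← hcm L hL']
    exact (htot _ _ (map_mono hK') (map_mono hL')).imp (fun h => comap_mono h) fun h => comap_mono h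
  · by_cases h1 : K ≤ E
    · rw [le_antisymm h1 hK]; exact c.rel
    have hK' := hstep K hK h1
    have hsurj := QuotientGroup.mk'_surjective Y
    have hnorm : normalizer ((K.map (QuotientGroup.mk' Y) : Subgroup (P ⧸ Y)) : Set (P ⧸ Y)) =
        (normalizer (K : Set P)).map (QuotientGroup.mk' Y) := by
      conv_rhs => rw [← hcm K hK', ← comap_normalizer_eq_of_surjective _ hsurj]
      rw [map_comap_eq_self_of_surjective hsurj]
    have := hrel _ (map_mono hK') (hnt K hK' hKt)
    rwa [hnorm, ← relIndex_comap, hcm K hK'] at this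
  · by_cases h1 : K ≤ E
    · obtain rfl := le_antisymm h1 hK
      exact hclassE i
    have hK' := hstep K hK h1
    rcases i with _ | i
    · exfalso
      rw [pow_zero, mul_one] at hi
      have h2 := relIndex_mul_index hK
      rw [← hi] at h2
      have h3 : K.index ≠ 0 := index_ne_zero_of_finite
      exact h1 (relIndex_eq_one.mp ((Nat.mul_eq_right h3).mp h2))
    · have hidx' : (K.map (QuotientGroup.mk' Y)).index * p ^ i =
          (N.map (QuotientGroup.mk' Y)).index := by
        rw [← index_comap_of_surjective _ (QuotientGroup.mk'_surjective Y),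
          ← index_comap_of_surjective (N.map (QuotientGroup.mk' Y))
            (QuotientGroup.mk'_surjective Y), hcm K hK', hcm N le_rfl]
        refine Nat.eq_of_mul_eq_mul_right hp.out.pos ?_
        rw [hNidx, mul_assoc, ← pow_succ]
        exact hi
      have h2 := hclass i _ (map_mono hK') (hnt K hK' hKt) hidx'
      have := (hP.to_quotient Y).to_subgroup (K.map (QuotientGroup.mk' Y)) |>.isNilpotent
      refine (Group.nilpotencyClass_le_of_ker_le_center ((QuotientGroup.mk' Y).subgroupMap K)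
        fun a ha => mem_center_iff.mpr fun b => Subtype.ext ?_).trans (by omega)
      have haY : (a : P) ∈ Y := (QuotientGroup.eq_one_iff _).mp (congrArg Subtype.val ha)
      exact mem_centralizer'.mp (hYK K hK hKt haY) b b.2

theorem tower {P : Type u} [Group P] [Finite P] (hP : IsPGroup p P) {E : Subgroup P}
    (c : Conf p E) : Tower p E :=
  tower_aux (Nat.card P) P rfl hP E c

/-- The class is at least the height in the tower plus one. -/
theorem le_class {P : Type u} [Group P] [Finite P] (hP : IsPGroup p P) {E : Subgroup P}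
    (c : Conf p E) {i : ℕ} {K : Subgroup P} [Group.IsNilpotent ↥K] (hK : E ≤ K) (hKt : K ≠ ⊤)
    (hi : K.index * p ^ i = E.index) : i + 1 ≤ Group.nilpotencyClass ↥K := by
  have hb := (tower hP c).2.1
  let Z : ℕ → Subgroup P := fun j => (Subgroup.upperCentralSeries ↥K j).map K.subtype
  let S : ℕ → Subgroup P := fun j => E ⊔ Z (j + 1)
  have hSK : ∀ j, S j ≤ K := fun j =>
    sup_le hK (map_subtype_le (Subgroup.upperCentralSeries ↥K (j + 1)))
  have key : ∀ j, E.index ≤ (S j).index * p ^ j := by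
    intro j
    induction j with
    | zero =>
      have h0 : Z 1 ≤ E := by
        rintro _ ⟨u, hu, rfl⟩
        rw [Subgroup.upperCentralSeries_one] at hu
        exact c.cent (mem_centralizer'.mpr fun e he =>
          congrArg Subtype.val (mem_center_iff.mp hu ⟨e, hK he⟩))
      rw [pow_zero, mul_one, show S 0 = E from sup_eq_left.mpr h0]
    | succ j ih =>
      have hmem : ∀ (u : ↥K), u ∈ Subgroup.upperCentralSeries ↥K (j + 2) → (u : P) ∈ normalizer (S j : Set P) := by
        intro u hu
        refine mem_normalizer_iff_map_conj_eq.mpr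
          (eq_of_le_of_card_ge ?_ (card_map_of_injective (MulAut.conj (u : P)).injective).ge)
        rw [Subgroup.map_sup]
        refine sup_le ?_ ?_
        · rintro _ ⟨e, he, rfl⟩
          show (u : P) * e * (u : P)⁻¹ ∈ S j
          rw [show (u : P) * e * (u : P)⁻¹ = ⁅(u : P), e⁆ * e by simp [commutatorElement_def]]
          refine mul_mem (mem_sup_right ⟨⁅u, ⟨e, hK he⟩⁆, hu ⟨e, hK he⟩, ?_⟩) (mem_sup_left he)
          rw [map_commutatorElement]; rfl
        · rintro _ ⟨_, ⟨v, hv, rfl⟩, rfl⟩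
          exact mem_sup_right ⟨u * v * u⁻¹, Normal.conj_mem inferInstance v hv u, rfl⟩
      have hle : S (j + 1) ≤ normalizer (S j : Set P) := by
        refine sup_le ((le_sup_left : E ≤ S j).trans le_normalizer) ?_
        rintro _ ⟨u, hu, rfl⟩
        exact hmem u hu
      have hmono : S j ≤ S (j + 1) :=
        sup_le_sup_left (map_mono (Subgroup.upperCentralSeries_mono ↥K (Nat.le_succ _))) E
      have hSt : S j ≠ ⊤ := fun h => hKt (top_le_iff.mp (h ▸ hSK j))
      have hr := hb (S j) le_sup_left hSt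
      have h1 : (S j).relIndex (S (j + 1)) ≤ p :=
        hr ▸ relIndex_le_of_le_right hle (by rw [hr]; exact hp.out.ne_zero)
      calc E.index ≤ (S j).index * p ^ j := ih
        _ = (S j).relIndex (S (j + 1)) * (S (j + 1)).index * p ^ j := by
          rw [relIndex_mul_index hmono]
        _ ≤ p * (S (j + 1)).index * p ^ j := by
          exact Nat.mul_le_mul_right _ (Nat.mul_le_mul_right _ h1)
        _ = (S (j + 1)).index * p ^ (j + 1) := by ring
  set cl := Group.nilpotencyClass ↥K with hcl
  have hne : cl ≠ 0 := by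
    intro h
    rw [hcl, nilpotencyClass_zero_iff_subsingleton] at h
    have hbot : E = ⊥ := (eq_bot_iff_forall _).mpr fun e he =>
      congrArg Subtype.val (Subsingleton.elim (⟨e, hK he⟩ : ↥K) 1)
    have htop : (⊤ : Subgroup P) ≤ E := fun x _ => c.cent (mem_centralizer'.mpr fun e he => by
      rw [hbot, mem_bot] at he; simp [he])
    have h2 := c.idx
    rw [top_le_iff.mp htop, index_top] at h2
    have := hp.out.two_le
    nlinarith
  have hfull : S (cl - 1) = K := by
    refine le_antisymm (hSK _) fun k hk => mem_sup_right ⟨⟨k, hk⟩, ?_, rfl⟩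
    rw [show cl - 1 + 1 = cl by omega, hcl, Subgroup.upperCentralSeries_nilpotencyClass]
    trivial
  have h := key (cl - 1)
  rw [hfull, ← hi] at h
  have h0 : 0 < K.index := Nat.pos_of_ne_zero index_ne_zero_of_finite
  have := (Nat.pow_le_pow_iff_right hp.out.one_lt).mp (Nat.le_of_mul_le_mul_left h h0)
  omega

end Cfsg.Agent.Classification.NormalizerTower
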