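import Cfsg.Agent.Classification.PlaneFourData
import Cfsg.Agent.Lib.Steiner.AutSearch
import Mathlib.GroupTheory.Perm.Closure

set_option autoImplicit false
set_option maxRecDepth 100000

/-! The model of the plane of order four: independent 4-sets and hyperovals. -/

namespace Cfsg.Agent.Classification.PlaneFour

open Finset Cfsg.Agent.Steiner

/-- The lines of the model. -/
abbrev lines : Set (Finset (Fin 21)) := decSet 21 model21

/-- Independence in the model, for sets of a given size. -/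
def Indep (k : ℕ) (S : Finset (Fin 21)) : Prop := S.card = k ∧ ∀ l ∈ lines, (l ∩ S).card ≤ 2

/-- No line meets the mask in more than two points. -/
def okMask (x : ℕ) : Bool := allB (fun b => wlt 3 (Nat.land x b)) model21

/-- All independent masks of a given size. -/
def indepList (k : ℕ) : List ℕ := gen okMask 21 k 0

/-- The base hyperoval. -/
def base : ℕ := 786483

/-- All hyperovals, as images of the base one. -/
def ovals : List ℕ := movers.map fun π => mapMask 21 π base

theorem okMask_iff {x : ℕ} (hx : x < 2 ^ 21) :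
    okMask x = true ↔ ∀ l ∈ lines, (l ∩ dec 21 x).card ≤ 2 := by
  rw [okMask, allB_eq, List.all_eq_true]
  refine ⟨?_, fun h b hb => ?_⟩
  · rintro h l ⟨b, hb, rfl⟩
    have h1 := (wlt_iff _ _).mp (h b hb)
    change (x &&& b).bitIndices.length < 3 at h1
    rw [← card_dec (v := 21) (Nat.and_le_left.trans_lt hx), dec_and, inter_comm] at h1
    omega
  · show wlt 3 (x &&& b) = true
    rw [wlt_iff, ← card_dec (v := 21) (Nat.and_le_left.trans_lt hx), dec_and, inter_comm]
    have := h _ ⟨b, hb, rfl⟩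
    omega

/-- The check on the list of independent masks of size `k`. -/
def listCheck (k : ℕ) : Bool :=
  allB (fun x => Nat.blt x (2 ^ 21) && okMask x && wlt (k + 1) x && !wlt k x) (indepList k)

theorem mem_indepList {k x : ℕ} (hx : x < 2 ^ 21) (h : Indep k (dec 21 x)) : x ∈ indepList k := by
  refine mem_gen okMask x (fun y hy => ?_) 21 k 0 (fun p => ?_) ?_
  · have hy2 : y < 2 ^ 21 := Nat.lt_pow_two_of_testBit y fun i hi => by
      by_contra hb
      rw [Bool.not_eq_false] at hb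
      have := hy i hb
      rw [Nat.testBit_lt_two_pow (hx.trans_le (Nat.pow_le_pow_right two_pos hi))] at this
      simp at this
    rw [okMask_iff hy2]
    intro l hl
    refine le_trans (card_le_card (inter_subset_inter le_rfl fun i hi => ?_)) (h.2 l hl)
    rw [mem_dec] at hi ⊢
    exact hy i hi
  · rw [Nat.zero_testBit]
    by_cases hp : 21 ≤ p
    · rw [Nat.testBit_lt_two_pow (hx.trans_le (Nat.pow_le_pow_right two_pos hp))]
      simp
    · simp [hp]
  · rw [← h.1, ← card_map Fin.valEmbedding (s := dec 21 x)]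
    congr 1
    ext i
    simp only [mem_filter, mem_range, mem_map, mem_dec, Fin.valEmbedding_apply]
    exact ⟨fun ⟨hi, hb⟩ => ⟨⟨i, hi⟩, hb, rfl⟩, fun ⟨j, hj, e⟩ => e ▸ ⟨j.2, hj⟩⟩

theorem indep_of_mem {k x : ℕ} (hc : listCheck k = true) (hx : x ∈ indepList k) :
    x < 2 ^ 21 ∧ Indep k (dec 21 x) := by
  rw [listCheck, allB_eq, List.all_eq_true] at hc
  have h := hc x hx
  simp only [Bool.and_eq_true, Bool.not_eq_true'] at h
  obtain ⟨⟨⟨h1, h2⟩, h3⟩, h4⟩ := h
  have hlt : x < 2 ^ 21 := by simpa [Nat.blt_eq] using h1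
  refine ⟨hlt, ?_, (okMask_iff hlt).mp h2⟩
  rw [card_dec hlt]
  rw [wlt_iff] at h3
  have : ¬ x.bitIndices.length < k := fun hh => by
    rw [(wlt_iff _ _).mpr hh] at h4; simp at h4
  omega

/-- Strict increase along a list. -/
def incB : List ℕ → Bool
  | [] => true
  | [_] => true
  | a :: b :: l => Nat.blt a b && incB (b :: l)

theorem pairwise_of_incB : ∀ {l : List ℕ}, incB l = true → l.Pairwise (· < ·)
  | [], _ => List.Pairwise.nil
  | [_], _ => List.pairwise_singleton _ _
  | a :: b :: l, h => by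
    rw [incB, Bool.and_eq_true, Nat.blt_eq] at h
    have ih := pairwise_of_incB h.2
    refine List.pairwise_cons.mpr ⟨fun c hc => ?_, ih⟩
    rcases List.mem_cons.mp hc with rfl | hc
    · exact h.1
    · exact h.1.trans ((List.pairwise_cons.mp ih).1 c hc)

theorem ncard_indep {k : ℕ} (hc : listCheck k = true) (hinc : incB (indepList k) = true) :
    {S : Finset (Fin 21) | Indep k S}.ncard = (indepList k).length := by
  have hset : {S : Finset (Fin 21) | Indep k S} = ↑((indepList k).toFinset.image (dec 21)) := by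
    ext S
    simp only [Set.mem_ofPred_eq, coe_image, Set.mem_image, SetLike.mem_coe, List.mem_toFinset]
    constructor
    · intro hS
      obtain ⟨x, hx, rfl⟩ := exists_mask S
      exact ⟨x, mem_indepList hx hS, rfl⟩
    · rintro ⟨x, hx, rfl⟩
      exact (indep_of_mem hc hx).2
  rw [hset, Set.ncard_coe_finset, card_image_of_injOn fun a ha b hb e => dec_injOn
    (indep_of_mem hc (List.mem_toFinset.mp ha)).1 (indep_of_mem hc (List.mem_toFinset.mp hb)).1 e,
    List.toFinset_card_of_nodup (List.Pairwise.imp (fun h => Nat.ne_of_lt h) (pairwise_of_incB hinc))]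

theorem listCheck4 : listCheck 4 = true := by decide +kernel

theorem listCheck6 : listCheck 6 = true := by decide +kernel

theorem incB4 : incB (indepList 4) = true := by decide +kernel

theorem incB6 : incB (indepList 6) = true := by decide +kernel

theorem length4 : (indepList 4).length = 2520 := by decide +kernel

theorem length6 : (indepList 6).length = 168 := by decide +kernel

theorem ncard4 : {S : Finset (Fin 21) | Indep 4 S}.ncard = 2520 :=
  (ncard_indep listCheck4 incB4).trans length4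

theorem ncard6 : {S : Finset (Fin 21) | Indep 6 S}.ncard = 168 :=
  (ncard_indep listCheck6 incB6).trans length6

/-- The number of listed hyperovals over a mask. -/
def overCount (x : ℕ) : List ℕ → ℕ :=
  fun l => List.rec 0 (fun h _ r => cond (Nat.beq (Nat.land h x) x) (Nat.succ r) r) l

theorem overCount_eq (x : ℕ) (l : List ℕ) :
    overCount x l = (l.filter fun h => h &&& x == x).length := by
  induction l with
  | nil => rfl
  | cons a l ih =>
    show cond (Nat.beq (Nat.land a x) x) _ _ = _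
    rw [List.filter_cons]
    have : (Nat.land a x).beq x = (a &&& x == x) := by
      rw [Bool.eq_iff_iff, beq_iff_eq]
      exact ⟨fun h => Nat.eq_of_beq_eq_true h, fun h => by rw [show Nat.land a x = x from h]; exact Nat.beq_refl x⟩
    rw [this]
    cases (a &&& x == x) with
    | true => simp only [cond_true, if_true, List.length_cons]; exact congrArg Nat.succ ih
    | false => simp only [cond_false, Bool.false_eq_true, if_false]; exact ih

theorem over_check :
    allB (fun x => Nat.beq (overCount x (indepList 6)) 1) (indepList 4) = true := by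
  decide +kernel

theorem dec_subset_iff {a b : ℕ} (hb : b < 2 ^ 21) : dec 21 b ⊆ dec 21 a ↔ a &&& b = b := by
  rw [← inter_eq_right, ← dec_and]
  exact ⟨fun h => dec_injOn (Nat.and_le_right.trans_lt hb) hb h, fun h => by rw [h]⟩

theorem existsUnique_oval {S : Finset (Fin 21)} (hS : Indep 4 S) :
    ∃! H : Finset (Fin 21), Indep 6 H ∧ S ⊆ H := by
  obtain ⟨x, hx, rfl⟩ := exists_mask S
  have h := over_check
  rw [allB_eq, List.all_eq_true] at h
  have h1 := h x (mem_indepList hx hS)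
  rw [Nat.beq_eq, overCount_eq, List.length_eq_one_iff] at h1
  obtain ⟨m, hm⟩ := h1
  have hmem : ∀ y, y ∈ indepList 6 ∧ y &&& x = x ↔ y = m := fun y => by
    have : y ∈ (indepList 6).filter (fun h => h &&& x == x) ↔ y ∈ [m] := by rw [hm]
    simpa using this
  obtain ⟨hm6, hmx⟩ := (hmem m).mpr rfl
  refine ⟨dec 21 m, ⟨(indep_of_mem listCheck6 hm6).2, (dec_subset_iff hx).mpr hmx⟩, ?_⟩
  rintro H ⟨hH, hSH⟩
  obtain ⟨y, hy, rfl⟩ := exists_mask H
  rw [(hmem y).mp ⟨mem_indepList hy hH, (dec_subset_iff hx).mp hSH⟩]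

theorem ovals_eq : allB (fun x => ovals.contains x) (indepList 6) = true := by decide +kernel

theorem movers_check : allB (isAutList 21 model21) movers = true := by decide +kernel

theorem exists_mover {H : Finset (Fin 21)} (hH : Indep 6 H) :
    ∃ g ∈ Cfsg.setSystemAut lines, (dec 21 base).image g = H := by
  obtain ⟨y, hy, rfl⟩ := exists_mask H
  have h := ovals_eq
  rw [allB_eq, List.all_eq_true] at h
  have h1 := h y (mem_indepList hy hH)
  rw [List.contains_iff_mem, ovals, List.mem_map] at h1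
  obtain ⟨π, hπ, rfl⟩ := h1
  have h2 := movers_check
  rw [allB_eq, List.all_eq_true] at h2
  have h3 := h2 π hπ
  obtain ⟨σ, hσ, hval⟩ := exists_aut_of_isAutList h3
  simp only [isAutList, Bool.and_eq_true] at h3
  obtain ⟨e, he, hmap⟩ := exists_perm_of_isPerm h3.1.2
  have : e = σ := Equiv.ext fun i => Fin.ext ((he i).trans (hval i).symm)
  exact ⟨σ, hσ, by rw [hmap base, this]⟩

/-- The points of the base hyperoval. -/
def pt : Fin 6 → Fin 21 := ![0, 1, 4, 5, 18, 19]

theorem pt_injective : Function.Injective pt := by decide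

theorem mem_base : ∀ p : Fin 21, p ∈ dec 21 base ↔ ∃ i, pt i = p := by decide +kernel

/-- Permutations of the base hyperoval induced by automorphisms. -/
def induced : Subgroup (Equiv.Perm (Fin 6)) where
  carrier := {τ | ∃ g ∈ Cfsg.setSystemAut lines, ∀ i, g (pt i) = pt (τ i)}
  one_mem' := ⟨1, one_mem _, fun _ => rfl⟩
  mul_mem' := by
    rintro a b ⟨g, hg, ha⟩ ⟨k, hk, hb⟩
    exact ⟨g * k, mul_mem hg hk, fun i => by rw [Equiv.Perm.mul_apply, hb, ha]; rfl⟩
  inv_mem' := by
    rintro a ⟨g, hg, ha⟩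
    refine ⟨g⁻¹, inv_mem hg, fun i => ?_⟩
    rw [Equiv.Perm.inv_eq_iff_eq, ha, ← Equiv.Perm.mul_apply, mul_inv_cancel]
    rfl

theorem gens_check : allB (isAutList 21 model21) stabGens = true := by decide +kernel

theorem induced_eq_top : induced = ⊤ := by
  have hgen : ∀ (π : List ℕ) (τ : Equiv.Perm (Fin 6)), π ∈ stabGens →
      (∀ i, π.getD (pt i) 0 = pt (τ i)) → τ ∈ induced := by
    intro π τ hπ hτ
    have h := gens_check
    rw [allB_eq, List.all_eq_true] at h
    obtain ⟨σ, hσ, hval⟩ := exists_aut_of_isAutList (h π hπ)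
    exact ⟨σ, hσ, fun i => Fin.ext ((hval _).trans (hτ i))⟩
  rw [eq_top_iff, ← Equiv.Perm.closure_cycle_adjacent_swap (σ := finRotate 6)
    (isCycle_finRotate_of_le (by norm_num)) (support_finRotate_of_le (by norm_num)) 0,
    Subgroup.closure_le]
  rintro τ (rfl | rfl)
  · exact hgen _ _ (List.mem_cons_of_mem _ (List.mem_cons_self ..)) (by decide +kernel)
  · exact hgen _ _ (List.mem_cons_self ..) (by decide +kernel)

/-- The check on the secant witnesses. -/
def secantCheck : Bool :=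
  allB (fun w => model21.contains w.2.1.2.2 && model21.contains w.2.2.2.2 &&
    Nat.testBit base w.2.1.1 && Nat.testBit base w.2.1.2.1 && !Nat.beq w.2.1.1 w.2.1.2.1 &&
    Nat.testBit base w.2.2.1 && Nat.testBit base w.2.2.2.1 && !Nat.beq w.2.2.1 w.2.2.2.1 &&
    Nat.testBit w.2.1.2.2 w.2.1.1 && Nat.testBit w.2.1.2.2 w.2.1.2.1 &&
    Nat.testBit w.2.2.2.2 w.2.2.1 && Nat.testBit w.2.2.2.2 w.2.2.2.1 &&
    Nat.blt w.2.1.1 21 && Nat.blt w.2.1.2.1 21 && Nat.blt w.2.2.1 21 && Nat.blt w.2.2.2.1 21 &&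
    Nat.beq (Nat.land w.2.1.2.2 w.2.2.2.2) (2 ^ w.1)) secants

theorem secant_check : secantCheck = true := by decide +kernel

theorem secant_cover :
    ∀ p : Fin 21, p ∈ dec 21 base ∨ ∃ w ∈ secants, w.1 = (p : ℕ) := by decide +kernel

theorem eq_one_of_fixes (hM : Cfsg.IsSteinerSystem 2 5 lines) {g : Equiv.Perm (Fin 21)}
    (hg : g ∈ Cfsg.setSystemAut lines) (hfix : ∀ p ∈ dec 21 base, g p = p) : g = 1 := by
  have hline : ∀ (l : ℕ) (a b : Fin 21), l ∈ model21 → a ∈ dec 21 base → b ∈ dec 21 base → a ≠ b →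
      a ∈ dec 21 l → b ∈ dec 21 l → (dec 21 l).image g = dec 21 l := by
    intro l a b hl ha hb hab hal hbl
    refine (hM.2 {a, b} (card_pair hab)).unique ⟨?_, ?_⟩ ⟨⟨l, hl, rfl⟩, by simp [insert_subset_iff, hal, hbl]⟩
    · have h := mem_setSystemAut.mp hg
      have h' : (dec 21 l).image g ∈ (fun T : Finset (Fin 21) => T.image g) '' lines :=
        ⟨_, ⟨l, hl, rfl⟩, rfl⟩
      exact h ▸ h'
    · refine insert_subset_iff.mpr ⟨?_, singleton_subset_iff.mpr ?_⟩
      · exact mem_image.mpr ⟨a, hal, hfix a ha⟩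
      · exact mem_image.mpr ⟨b, hbl, hfix b hb⟩
  refine Equiv.ext fun p => ?_
  rcases secant_cover p with h | ⟨w, hw, hwp⟩
  · exact hfix p h
  have h := secant_check
  rw [secantCheck, allB_eq, List.all_eq_true] at h
  have h1 := h w hw
  simp only [Bool.and_eq_true, List.contains_iff_mem, Nat.blt_eq, Nat.beq_eq,
    Bool.not_eq_true'] at h1
  obtain ⟨⟨⟨⟨⟨⟨⟨⟨⟨⟨⟨⟨⟨⟨⟨⟨l1, l2⟩, ab⟩, bb⟩, hab⟩, cb⟩, db⟩, hcd⟩, al⟩, bl⟩, cl⟩, dl⟩, a21⟩, b21⟩,
    c21⟩, d21⟩, hx⟩ := h1
  have e1 := hline _ ⟨_, a21⟩ ⟨_, b21⟩ l1 (mem_dec.mpr ab) (mem_dec.mpr bb)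
    (fun e => Bool.eq_false_iff.mp hab (Nat.beq_eq.mpr (congrArg Fin.val e))) (mem_dec.mpr al) (mem_dec.mpr bl)
  have e2 := hline _ ⟨_, c21⟩ ⟨_, d21⟩ l2 (mem_dec.mpr cb) (mem_dec.mpr db)
    (fun e => Bool.eq_false_iff.mp hcd (Nat.beq_eq.mpr (congrArg Fin.val e))) (mem_dec.mpr cl) (mem_dec.mpr dl)
  have hxset : ({p} : Finset (Fin 21)) = dec 21 w.2.1.2.2 ∩ dec 21 w.2.2.2.2 := by
    rw [← dec_and]
    ext q
    simp only [mem_singleton, mem_dec]
    change q = p ↔ Nat.testBit (Nat.land w.2.1.2.2 w.2.2.2.2) q = true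
    rw [hx, hwp, Nat.testBit_two_pow, decide_eq_true_eq]
    exact ⟨fun e => e ▸ rfl, fun e => Fin.ext e.symm⟩
  have : g p ∈ ({p} : Finset (Fin 21)) := by
    have hp : p ∈ dec 21 w.2.1.2.2 ∩ dec 21 w.2.2.2.2 := hxset ▸ mem_singleton_self p
    rw [mem_inter] at hp
    rw [hxset, mem_inter]
    exact ⟨e1 ▸ mem_image_of_mem _ hp.1, e2 ▸ mem_image_of_mem _ hp.2⟩
  simpa using this

theorem existsUnique_extension (hM : Cfsg.IsSteinerSystem 2 5 lines) {H : Finset (Fin 21)}
    (hH : Indep 6 H) (σ : Equiv.Perm ↥H) :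
    ∃! g : Equiv.Perm (Fin 21), g ∈ Cfsg.setSystemAut lines ∧ ∀ p : ↥H, g p = σ p := by
  obtain ⟨π, hπ, hHimg⟩ := exists_mover hH
  have hmemH : ∀ i, π (pt i) ∈ H := fun i => hHimg ▸ mem_image_of_mem _ ((mem_base _).mpr ⟨i, rfl⟩)
  have hsurj : ∀ p : ↥H, ∃ i, π (pt i) = p := fun p => by
    obtain ⟨q, hq, hqp⟩ := mem_image.mp (hHimg.symm ▸ p.2 : (p : Fin 21) ∈ (dec 21 base).image π)
    obtain ⟨i, rfl⟩ := (mem_base q).mp hq
    exact ⟨i, hqp⟩
  let e : Fin 6 ≃ ↥H := Equiv.ofBijective (fun i => ⟨π (pt i), hmemH i⟩)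
    ⟨fun a b h => pt_injective (π.injective (congrArg Subtype.val h)),
      fun p => (hsurj p).imp fun i hi => Subtype.ext hi⟩
  have hτ : (e.trans σ).trans e.symm ∈ induced := induced_eq_top ▸ Subgroup.mem_top _
  obtain ⟨g0, hg0, hg0p⟩ := hτ
  refine ⟨π * g0 * π⁻¹, ⟨mul_mem (mul_mem hπ hg0) (inv_mem hπ), fun p => ?_⟩, ?_⟩
  · obtain ⟨i, rfl⟩ := e.surjective p
    show π (g0 (π⁻¹ (π (pt i)))) = _
    rw [Equiv.Perm.inv_def, Equiv.symm_apply_apply, hg0p]
    show ((e (e.symm (σ (e i))) : ↥H) : Fin 21) = _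
    rw [Equiv.apply_symm_apply]
  · rintro g ⟨hg, hgp⟩
    have h1 : π⁻¹ * ((π * g0 * π⁻¹)⁻¹ * g) * π = 1 := by
      refine eq_one_of_fixes hM (mul_mem (mul_mem (inv_mem hπ)
        (mul_mem (inv_mem (mul_mem (mul_mem hπ hg0) (inv_mem hπ))) hg)) hπ) fun q hq => ?_
      obtain ⟨i, rfl⟩ := (mem_base q).mp hq
      show π⁻¹ ((π * g0 * π⁻¹)⁻¹ (g (π (pt i)))) = pt i
      rw [hgp ⟨π (pt i), hmemH i⟩, Equiv.Perm.inv_eq_iff_eq, Equiv.Perm.inv_eq_iff_eq]
      show _ = π (g0 (π⁻¹ (π (pt i))))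
      rw [Equiv.Perm.inv_def, Equiv.symm_apply_apply, hg0p]
      show _ = ((e (e.symm (σ (e i))) : ↥H) : Fin 21)
      rw [Equiv.apply_symm_apply]
      rfl
    have h2 : (π * g0 * π⁻¹)⁻¹ * g = 1 := by
      have := congrArg (fun x => π * x * π⁻¹) h1
      simpa [mul_assoc] using this
    exact (inv_mul_eq_one.mp h2).symm

end Cfsg.Agent.Classification.PlaneFour
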