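import Cfsg.Agent.Lib.SmallGroups.Action
import Cfsg.Agent.Lib.SmallGroups.Counting

set_option autoImplicit false

/-!
# Tools for simple groups of small order

Fixed points of commuting elements and parity of elements of order four.
-/

namespace Cfsg.Agent.Classification

open Subgroup

/-- A permutation of `p`-power-one order has as many fixed points as points, modulo `p`. -/
theorem card_modEq_fixed {β : Type*} [Finite β] {p : ℕ} [Fact p.Prime] {σ : Equiv.Perm β}
    (h : σ ^ p = 1) : Nat.card β ≡ Nat.card {b // σ b = b} [MOD p] := by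
  classical
  have := Fintype.ofFinite β
  have h1 := Equiv.Perm.card_compl_support_modEq (n := 1) (by rwa [pow_one] : σ ^ p ^ 1 = 1)
  have h2 : Nat.card {b // σ b = b} = σ.supportᶜ.card := by
    rw [← Nat.card_eq_finsetCard]
    exact Nat.card_congr (Equiv.subtypeEquivRight fun b => by simp)
  rw [h2, Nat.card_eq_fintype_card]
  exact h1.symm

section Action

variable {G : Type*} [Group G] {α : Type*} [Finite α] [MulAction G α]

/-- If `x` commutes with `y`, the points moved by `y` are counted mod `p` by those fixed by `x`. -/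
theorem card_moved_modEq {p : ℕ} [Fact p.Prime] {x y : G} (hxy : Commute x y) (hx : x ^ p = 1) :
    Nat.card {a : α // y • a ≠ a} ≡ Nat.card {a : α // y • a ≠ a ∧ x • a = a} [MOD p] := by
  have hinv : ∀ a : α, y • (x • a) ≠ x • a ↔ y • a ≠ a := fun a => by
    rw [← mul_smul, ← hxy.eq, mul_smul, ne_eq, ne_eq, smul_left_cancel_iff]
  let σ : Equiv.Perm {a : α // y • a ≠ a} :=
    (MulAction.toPerm x).subtypePerm fun a => by simpa using hinv a
  have hσ : σ ^ p = 1 := by
    ext ⟨a, ha⟩
    rw [Equiv.Perm.subtypePerm_pow]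
    show ((MulAction.toPermHom G α x) ^ p) a = a
    rw [← map_pow, hx, map_one, Equiv.Perm.one_apply]
  refine (card_modEq_fixed hσ).trans ?_
  have : {b // σ b = b} ≃ {a : α // y • a ≠ a ∧ x • a = a} :=
    { toFun := fun b => ⟨b.1.1, b.1.2, congrArg Subtype.val b.2⟩
      invFun := fun a => ⟨⟨a.1, a.2.1⟩, Subtype.ext a.2.2⟩
      left_inv := fun _ => rfl
      right_inv := fun _ => rfl }
  rw [Nat.card_congr this]

/-- An element of prime order moves a multiple of that many points. -/
theorem dvd_card_moved {r : ℕ} [Fact r.Prime] {y : G} (hy : y ^ r = 1) :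
    r ∣ Nat.card {a : α // y • a ≠ a} := by
  have h := card_moved_modEq (α := α) (Commute.refl y) hy
  have : IsEmpty {a : α // y • a ≠ a ∧ y • a = a} := ⟨fun a => a.2.1 a.2.2⟩
  rw [Nat.card_eq_zero.mpr (Or.inl this)] at h
  exact Nat.modEq_zero_iff_dvd.mp h

/-- If `x` has no fixed point among those moved by a commuting `y`, `p` divides their number. -/
theorem dvd_card_moved_of_commute {p : ℕ} [Fact p.Prime] {x y : G} (hxy : Commute x y)
    (hx : x ^ p = 1) (h : ∀ a : α, y • a ≠ a → x • a ≠ a) :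
    p ∣ Nat.card {a : α // y • a ≠ a} := by
  have h1 := card_moved_modEq (α := α) hxy hx
  have : IsEmpty {a : α // y • a ≠ a ∧ x • a = a} := ⟨fun a => h a.1 a.2.1 a.2.2⟩
  rw [Nat.card_eq_zero.mpr (Or.inl this)] at h1
  exact Nat.modEq_zero_iff_dvd.mp h1

theorem card_moved_add_fixed (y : G) :
    Nat.card {a : α // y • a ≠ a} + Nat.card (MulAction.fixedBy α y) = Nat.card α := by
  classical
  rw [add_comm, ← Nat.card_sum]
  exact Nat.card_congr (Equiv.sumCompl fun a : α => y • a = a)

end Action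

section Parity

variable {β : Type*} [Fintype β] [DecidableEq β]

/-- A fixed-point-free involution is a product of `n / 2` transpositions. -/
theorem sign_of_fpf_two {σ : Equiv.Perm β} (h2 : σ ^ 2 = 1) (hf : ∀ b, σ b ≠ b) :
    Equiv.Perm.sign σ = (-1) ^ (Fintype.card β / 2) ∧ 2 ∣ Fintype.card β := by
  have hall : ∀ n ∈ σ.cycleType, n = 2 := fun n hn => by
    have h1 : n ∣ 2 :=
      (Equiv.Perm.dvd_of_mem_cycleType hn).trans (orderOf_dvd_of_pow_eq_one h2)
    exact le_antisymm (Nat.le_of_dvd two_pos h1) (Equiv.Perm.two_le_of_mem_cycleType hn)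
  have hrep : σ.cycleType = Multiset.replicate σ.cycleType.card 2 :=
    Multiset.eq_replicate_card.mpr hall
  have hsup : σ.support = Finset.univ := by ext b; simp [hf b]
  have hsum := Equiv.Perm.sum_cycleType σ
  rw [hsup, Finset.card_univ, hrep, Multiset.sum_replicate, smul_eq_mul] at hsum
  rw [Equiv.Perm.sign_of_cycleType, hrep, Multiset.sum_replicate, Multiset.card_replicate,
    smul_eq_mul, pow_add, Even.neg_one_pow (even_two.mul_left _), one_mul, ← hsum]
  exact ⟨by rw [Nat.mul_div_cancel _ two_pos], dvd_mul_left 2 _⟩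

/-- A permutation all whose cycles are four-cycles. -/
theorem sign_of_fpf_four {σ : Equiv.Perm β} (h4 : σ ^ 4 = 1) (hf : ∀ b, σ (σ b) ≠ b) :
    Equiv.Perm.sign σ = (-1) ^ (Fintype.card β / 4) ∧ 4 ∣ Fintype.card β := by
  have hall : ∀ n ∈ σ.cycleType, n = 4 := fun n hn => by
    have h1 : n ∣ 2 ^ 2 :=
      (Equiv.Perm.dvd_of_mem_cycleType hn).trans (orderOf_dvd_of_pow_eq_one h4)
    have h2 := Equiv.Perm.two_le_of_mem_cycleType hn
    obtain ⟨i, hi, rfl⟩ := (Nat.dvd_prime_pow Nat.prime_two).mp h1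
    interval_cases i
    · norm_num at h2
    · exfalso
      rw [Equiv.Perm.cycleType_def, Multiset.mem_map] at hn
      obtain ⟨c, hc, hcard⟩ := hn
      have hc' : c ∈ σ.cycleFactorsFinset := hc
      obtain ⟨hcyc, hagree⟩ := Equiv.Perm.mem_cycleFactorsFinset_iff.mp hc'
      have hc2 : c ^ 2 = 1 := by
        have := pow_orderOf_eq_one c
        rwa [hcyc.orderOf, show c.support.card = 2 from hcard] at this
      obtain ⟨a, ha⟩ : c.support.Nonempty := Finset.card_pos.mp (by rw [show c.support.card = 2 from hcard]; norm_num)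
      apply hf a
      rw [← hagree a ha, ← hagree _ (Equiv.Perm.apply_mem_support.mpr ha),
        ← Equiv.Perm.mul_apply, ← pow_two, hc2, Equiv.Perm.one_apply]
    · norm_num
  have hrep : σ.cycleType = Multiset.replicate σ.cycleType.card 4 :=
    Multiset.eq_replicate_card.mpr hall
  have hf' : ∀ b, σ b ≠ b := fun b hb => hf b (by rw [hb, hb])
  have hsup : σ.support = Finset.univ := by ext b; simp [hf' b]
  have hsum := Equiv.Perm.sum_cycleType σ
  rw [hsup, Finset.card_univ, hrep, Multiset.sum_replicate, smul_eq_mul] at hsum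
  rw [Equiv.Perm.sign_of_cycleType, hrep, Multiset.sum_replicate, Multiset.card_replicate,
    smul_eq_mul, pow_add, Even.neg_one_pow ((by decide : Even 4).mul_left _), one_mul, ← hsum]
  exact ⟨by rw [Nat.mul_div_cancel _ (by norm_num : 0 < 4)], dvd_mul_left 4 _⟩

/-- An even fixed-point-free permutation with fourth power one. -/
theorem even_of_fpf_sign_one {σ : Equiv.Perm β} (h4 : σ ^ 4 = 1) (hf : ∀ b, σ b ≠ b)
    (hs : Equiv.Perm.sign σ = 1) :
    Even (Nat.card {b // σ (σ b) = b} / 2 +
      (Nat.card β - Nat.card {b // σ (σ b) = b}) / 4) := by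
  have h2 : ∀ b, σ (σ (σ b)) = σ b ↔ σ (σ b) = b := fun b => σ.injective.eq_iff
  have h2' : ∀ b, ¬ σ (σ (σ b)) = σ b ↔ ¬ σ (σ b) = b := fun b => not_congr (h2 b)
  let e₁ : Equiv.Perm {b // σ (σ b) = b} := σ.subtypePerm h2
  let e₂ : Equiv.Perm {b // ¬ σ (σ b) = b} := σ.subtypePerm h2'
  have heq : σ = e₁.subtypeCongr e₂ := by
    ext b
    by_cases hb : σ (σ b) = b
    · rw [Equiv.Perm.subtypeCongr.apply, dif_pos hb]; rfl
    · rw [Equiv.Perm.subtypeCongr.apply, dif_neg hb]; rfl
  rw [heq, Equiv.Perm.sign_subtypeCongr] at hs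
  have he₁ := sign_of_fpf_two (σ := e₁) (by
    ext ⟨b, hb⟩
    rw [pow_two]
    exact hb) (fun b h => hf b.1 (congrArg Subtype.val h))
  have he₂ := sign_of_fpf_four (σ := e₂) (by
    ext ⟨b, hb⟩
    rw [Equiv.Perm.subtypePerm_pow]
    show (σ ^ 4) b = b
    rw [h4, Equiv.Perm.one_apply]) (fun b h => b.2 (congrArg Subtype.val h))
  rw [he₁.1, he₂.1, ← pow_add, neg_one_pow_eq_one_iff_even (by decide)] at hs
  rwa [Nat.card_eq_fintype_card, Nat.card_eq_fintype_card, ← Fintype.card_subtype_compl]

end Parity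

section Simple

variable {G : Type*} [Group G] [Finite G] [IsSimpleGroup G]

/-- In a non-abelian simple group a non-trivial element moves some coset of a proper subgroup. -/
theorem exists_moved (H : Subgroup G) (hH : H ≠ ⊤) {y : G} (hy : y ≠ 1) :
    ∃ a : G ⧸ H, y • a ≠ a := by
  by_contra hc
  push Not at hc
  exact hy (SmallGroups.toPerm_injective hH (by
    ext a
    simpa using hc a))

theorem card_moved_pos (H : Subgroup G) (hH : H ≠ ⊤) {y : G} (hy : y ≠ 1) :
    0 < Nat.card {a : G ⧸ H // y • a ≠ a} := by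
  obtain ⟨a, ha⟩ := exists_moved H hH hy
  exact Nat.card_pos_iff.mpr ⟨⟨⟨a, ha⟩⟩, inferInstance⟩

/-- An involution moves a multiple of four points. -/
theorem four_dvd_card_moved (hG : ¬ IsMulCommutative G) (H : Subgroup G) {t : G} (ht : t ^ 2 = 1) :
    4 ∣ Nat.card {a : G ⧸ H // t • a ≠ a} := by
  have h := SmallGroups.four_dvd_moved hG (α := G ⧸ H) ht
  rwa [← card_moved_add_fixed t, Nat.add_sub_cancel_right] at h

/-- The parity test for an element of order dividing four without fixed coset. -/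
theorem even_of_fpf (hG : ¬ IsMulCommutative G) (H : Subgroup G) {y : G} (hy : y ^ 4 = 1)
    (hf : ∀ a : G ⧸ H, y • a ≠ a) :
    Even (Nat.card (MulAction.fixedBy (G ⧸ H) (y * y)) / 2 +
      (H.index - Nat.card (MulAction.fixedBy (G ⧸ H) (y * y))) / 4) := by
  classical
  have := Fintype.ofFinite (G ⧸ H)
  have h := even_of_fpf_sign_one (σ := MulAction.toPermHom G (G ⧸ H) y)
    (by rw [← map_pow, hy, map_one]) (fun a => hf a) (SmallGroups.sign_hom_eq_one hG _ y)
  rw [show Nat.card {b // MulAction.toPermHom G (G ⧸ H) y (MulAction.toPermHom G (G ⧸ H) y b) = b} =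
    Nat.card (MulAction.fixedBy (G ⧸ H) (y * y)) from Nat.card_congr (Equiv.subtypeEquivRight fun a => by
      show y • y • a = a ↔ (y * y) • a = a
      rw [mul_smul]), ← Subgroup.index_eq_card] at h
  exact h

/-- `4` for the prime two, the prime itself otherwise. -/
def movedBlock (r : ℕ) : ℕ := if r = 2 then 4 else r

/-- An element of prime order `r ≠ p` centralising a Sylow subgroup of order `p` forces at least
`1 + movedBlock r * p` Sylow subgroups. -/
theorem movedBlock_mul_le (hG : ¬ IsMulCommutative G) {p r : ℕ} [Fact p.Prime] [hr : Fact r.Prime]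
    (hrp : r ≠ p) (hpd : p ∣ Nat.card G) (P : Sylow p G) (hP : Nat.card ↥(P : Subgroup G) = p)
    {y : G} (hyC : y ∈ centralizer ((P : Subgroup G) : Set G)) (hy : orderOf y = r) :
    movedBlock r * p ≤ Nat.card (Sylow p G) - 1 := by
  set N := normalizer ((P : Subgroup G) : Set G)
  have hN : N ≠ ⊤ := fun h => SmallGroups.card_sylow_ne_one hG hpd
    (P.card_eq_index_normalizer.trans (by show N.index = 1; rw [h, index_top]))
  have hy1 : y ≠ 1 := fun h => hr.out.ne_one (by rw [← hy, h, orderOf_one])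
  obtain ⟨x, hx, hx1⟩ : ∃ x ∈ (P : Subgroup G), x ≠ 1 := by
    by_contra hc
    push Not at hc
    rw [(eq_bot_iff_forall _).mpr hc, card_bot] at hP
    exact (Fact.out : p.Prime).ne_one hP.symm
  have hxp : x ^ p = 1 := by
    rw [← orderOf_dvd_iff_pow_eq_one]
    exact hP ▸ orderOf_dvd_natCard _ hx
  have hbase : y • ((1 : G) : G ⧸ N) = ((1 : G) : G ⧸ N) :=
    (SmallGroups.mk_mem_fixedBy_iff N y 1).mpr (by rw [inv_one, one_mul, mul_one]; exact centralizer_le_normalizer _ hyC)
  have hp1 : p ∣ Nat.card {a : G ⧸ N // y • a ≠ a} := by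
    refine dvd_card_moved_of_commute (mem_centralizer_iff.mp hyC x hx) hxp fun a ha hxa => ?_
    have : a ∈ MulAction.fixedBy (G ⧸ N) x := hxa
    rw [SmallGroups.fixedBy_eq_base P hP hx hx1, Set.mem_singleton_iff] at this
    exact ha (by rw [this]; exact hbase)
  have hyr : y ^ r = 1 := hy ▸ pow_orderOf_eq_one y
  have hr1 : movedBlock r ∣ Nat.card {a : G ⧸ N // y • a ≠ a} := by
    unfold movedBlock
    split_ifs with h2
    · subst h2; exact four_dvd_card_moved hG N hyr
    · exact dvd_card_moved hyr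
  have hcop : (movedBlock r).Coprime p := by
    unfold movedBlock
    split_ifs with h2
    · subst h2
      exact Nat.Coprime.pow_left 2 ((Nat.coprime_primes hr.out Fact.out).mpr hrp)
    · exact (Nat.coprime_primes hr.out Fact.out).mpr hrp
  have hle := Nat.le_of_dvd (card_moved_pos N hN hy1) (hcop.mul_dvd_of_dvd_of_dvd hr1 hp1)
  refine hle.trans ?_
  have h1 := card_moved_add_fixed (α := G ⧸ N) y
  have h2 : 0 < Nat.card (MulAction.fixedBy (G ⧸ N) y) :=
    Nat.card_pos_iff.mpr ⟨⟨⟨_, hbase⟩⟩, inferInstance⟩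
  have h3 : Nat.card (Sylow p G) = Nat.card (G ⧸ N) := P.card_eq_card_quotient_normalizer
  omega

end Simple

end Cfsg.Agent.Classification
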