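import Cfsg.Agent.Classification.TwoTransSearch
import Cfsg.Agent.Lib.SmallGroups.Basic

set_option autoImplicit false

/-!
# Simple groups of order 168, 660 and 1092 are unique

The action on the `p + 1` Sylow `p`-subgroups realises one of three fixed tables.
-/

namespace Cfsg.Agent.Classification

/-- The tables of the action on the projective line over `ZMod p`, the last point at infinity. -/
def primeTables (p c r m skip : ℕ) [NeZero p] (w0 : Fin (p + 1) → Fin (p + 1)) : Tables (p + 1) where
  hT x := if (x : ℕ) < p then ⟨c * x % p, Nat.lt_succ_of_lt (Nat.mod_lt _ (NeZero.pos p))⟩ else x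
  trT s x := if (x : ℕ) < p ∧ (s : ℕ) < p then ⟨(x + s) % p, Nat.lt_succ_of_lt (Nat.mod_lt _ (NeZero.pos p))⟩ else x
  inf := Fin.last p
  o := 0
  u := 1
  r := Fin.ofNat (p + 1) r
  m := m
  skip := skip
  w0 := w0

def tables7 : Tables (7 + 1) := primeTables 7 2 3 3 1 ![7, 3, 5, 1, 6, 2, 4, 0]
def tables11 : Tables (11 + 1) := primeTables 11 4 2 5 5 ![11, 2, 1, 8, 6, 7, 4, 5, 3, 10, 9, 0]
def tables13 : Tables (13 + 1) := primeTables 13 4 2 6 6 ![13, 1, 7, 9, 10, 8, 11, 2, 5, 3, 4, 6, 12, 0]

theorem check7 : tables7.check = true := by decide +kernel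
theorem check11 : tables11.check = true := by decide +kernel
theorem check13 : tables13.check = true := by decide +kernel

open Subgroup

variable {G : Type*} [Group G] [Finite G] [IsSimpleGroup G]

/-- A non-abelian simple group of order `(p + 1) p m`, `m = (p - 1) / 2`, with `p + 1` Sylow
`p`-subgroups realises the prime tables. -/
theorem exists_realises_prime (hne : ¬ IsMulCommutative G) (p c r m skip : ℕ) [Fact p.Prime]
    (hp5 : 5 ≤ p) (hm : 2 * m + 1 = p) (w0 : Fin (p + 1) → Fin (p + 1))
    (hG : Nat.card G = (p + 1) * p * m) (hn : Nat.card (Sylow p G) = p + 1)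
    (hc : (c : ZMod p) ^ m = 1 ∧ ∀ i, i < m → 0 < i → (c : ZMod p) ^ i ≠ 1) :
    ∃ (f : G →* Equiv.Perm (Fin (p + 1))) (h : G) (t : Fin (p + 1) → G),
      Realises (primeTables p c r m skip w0) G f h t := by
  classical
  have hp : p.Prime := Fact.out
  have hm0 : 0 < m := by omega
  obtain ⟨P⟩ : Nonempty (Sylow p G) := inferInstance
  have hG' : Nat.card G = p ^ 1 * ((p + 1) * m) := by rw [hG]; ring
  have hpm : ¬ p ∣ (p + 1) * m := by
    intro h
    rcases hp.dvd_mul.mp h with h' | h'
    · exact absurd (Nat.le_of_dvd one_pos ((Nat.dvd_add_right dvd_rfl).mp h')) (by omega)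
    · exact absurd (Nat.le_of_dvd hm0 h') (by omega)
  have hcard : ∀ R : Sylow p G, Nat.card (R : Subgroup G) = p := fun R => by
    rw [SmallGroups.card_sylow_eq hG' hpm R, pow_one]
  have hcyc : IsCyclic (P : Subgroup G) := isCyclic_of_prime_card (hcard P)
  obtain ⟨⟨τ, hτP⟩, hgen⟩ := IsCyclic.exists_generator (α := (P : Subgroup G))
  have hPz : ∀ g ∈ (P : Subgroup G), ∃ k : ℤ, τ ^ k = g := by
    intro g hg
    obtain ⟨k, hk⟩ := hgen ⟨g, hg⟩
    exact ⟨k, by simpa using congrArg Subtype.val hk⟩
  have hτo : orderOf τ = p := by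
    have h1 : τ ≠ 1 := by
      intro h1
      have : Nat.card (P : Subgroup G) = 1 := Subgroup.card_eq_one.mpr <| by
        rw [eq_bot_iff]
        intro g hg
        obtain ⟨k, hk⟩ := hPz g hg
        rw [Subgroup.mem_bot, ← hk, h1, one_zpow]
      rw [hcard P] at this
      exact hp.ne_one this
    refine orderOf_eq_prime ?_ h1
    have := pow_card_eq_one' (x := (⟨τ, hτP⟩ : (P : Subgroup G)))
    rw [hcard P] at this
    simpa using congrArg Subtype.val this
  have hfix : ∀ (R : Sylow p G) (g : G), g ∈ (P : Subgroup G) → g ≠ 1 → g • R = R → R = P := by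
    intro R g hg hg1 hgR
    have h1 : g ∈ (R : Subgroup G) := by
      have h2 : g ∈ (P : Subgroup G) ⊓ normalizer ((R : Subgroup G) : Set G) :=
        ⟨hg, Sylow.smul_eq_iff_mem_normalizer.mp hgR⟩
      have h3 : (P : Subgroup G) ⊓ normalizer ((R : Subgroup G) : Set G) = (P : Subgroup G) ⊓ (R : Subgroup G) :=
        P.2.inf_normalizer_sylow R
      rw [h3] at h2
      exact h2.2
    apply Sylow.ext
    have h4 : Nat.card (zpowers g) = p := by
      rw [Nat.card_zpowers]
      refine ((Nat.dvd_prime hp).mp ?_).resolve_left (by simpa using hg1)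
      exact (hcard P) ▸ orderOf_dvd_natCard (P : Subgroup G) hg
    rw [← Subgroup.eq_of_le_of_card_ge (zpowers_le.mpr h1) (by rw [h4, hcard R]),
      ← Subgroup.eq_of_le_of_card_ge (zpowers_le.mpr hg) (by rw [h4, hcard P])]
  obtain ⟨R₀, hR₀⟩ : ∃ R : Sylow p G, R ≠ P := by
    by_contra hc'
    push Not at hc'
    have : Subsingleton (Sylow p G) := ⟨fun a b => (hc' a).trans (hc' b).symm⟩
    rw [Nat.card_of_subsingleton P] at hn
    omega
  have hτfix : τ • P = P := Sylow.smul_eq_iff_mem_normalizer.mpr (le_normalizer hτP)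
  let enum : Fin (p + 1) → Sylow p G := fun x => if (x : ℕ) < p then τ ^ (x : ℕ) • R₀ else P
  have hpow_fix : ∀ k : ℕ, τ ^ k • P = P := fun k =>
    Sylow.smul_eq_iff_mem_normalizer.mpr (le_normalizer ((P : Subgroup G).pow_mem hτP k))
  have hne_P : ∀ k : ℕ, τ ^ k • R₀ ≠ P := by
    intro k hk
    apply hR₀
    have := congrArg ((τ ^ k)⁻¹ • ·) hk
    simp only [inv_smul_smul] at this
    rw [this]
    conv_lhs => rw [← hpow_fix k]
    exact inv_smul_smul _ _
  have hinj : Function.Injective enum := by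
    intro x y hxy
    simp only [enum] at hxy
    split_ifs at hxy with hx hy hy
    · apply Fin.ext
      wlog hle : (x : ℕ) ≤ y generalizing x y
      · exact (this hy hx hxy.symm (le_of_not_ge hle)).symm
      by_contra hne'
      apply hR₀
      refine hfix R₀ (τ ^ ((y : ℕ) - x)) ((P : Subgroup G).pow_mem hτP _) ?_ ?_
      · intro h1
        have := orderOf_dvd_of_pow_eq_one h1
        rw [hτo] at this
        have := Nat.le_of_dvd (by omega) this
        omega
      · have h2 : τ ^ (y : ℕ) = τ ^ (x : ℕ) * τ ^ ((y : ℕ) - x) := by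
          rw [← pow_add, Nat.add_sub_cancel' hle]
        rw [h2, mul_smul] at hxy
        exact (smul_left_cancel _ hxy).symm
    · exact absurd hxy (hne_P _)
    · exact absurd hxy.symm (hne_P _)
    · exact Fin.ext (by omega)
  let e : Fin (p + 1) ≃ Sylow p G := Equiv.ofBijective enum
    ((Nat.bijective_iff_injective_and_card enum).mpr ⟨hinj, by rw [Nat.card_fin, hn]⟩)
  have he : ∀ x, e x = enum x := fun x => rfl
  let f : G →* Equiv.Perm (Fin (p + 1)) :=
    e.symm.permCongrHom.toMonoidHom.comp (MulAction.toPermHom G (Sylow p G))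
  have hf : ∀ g x, e (f g x) = g • e x := fun g x => by
    show e (e.symm (g • e x)) = _
    exact e.apply_symm_apply _
  have hker : ∀ g : G, (∀ R : Sylow p G, g • R = R) → g = 1 := by
    intro g hg
    have hmem : g ∈ (MulAction.toPermHom G (Sylow p G)).ker := Equiv.ext hg
    rcases (MulAction.toPermHom G (Sylow p G)).normal_ker.eq_bot_or_eq_top with h' | h'
    · rw [h'] at hmem; exact hmem
    · exfalso
      obtain ⟨g', hg'⟩ := MulAction.exists_smul_eq G P R₀
      have : g' ∈ (MulAction.toPermHom G (Sylow p G)).ker := h' ▸ Subgroup.mem_top g'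
      have h2 : g' • P = P := Equiv.ext_iff.mp this P
      exact hR₀ (hg'.symm.trans h2)
  have hinjf : Function.Injective f := by
    rw [injective_iff_map_eq_one]
    intro g hg
    refine hker g fun R => ?_
    have := hf g (e.symm R)
    rw [hg, Equiv.Perm.one_apply, Equiv.apply_symm_apply] at this
    exact this.symm
  -- the two point stabiliser
  let N : Subgroup G := normalizer ((P : Subgroup G) : Set G)
  have hNcard : Nat.card N = p * m :=
    SmallGroups.normalizer_conj_eq_card P hn (by rw [hG]; ring)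
  have hshift : ∀ R : Sylow p G, R ≠ P → ∃ x : ℕ, x < p ∧ τ ^ x • R₀ = R := by
    intro R hR
    have h1 : enum (e.symm R) = R := e.apply_symm_apply R
    simp only [enum] at h1
    split_ifs at h1 with h2
    · exact ⟨_, h2, h1⟩
    · exact absurd h1.symm hR
  let H : Subgroup G := N ⊓ MulAction.stabilizer G R₀
  have hHcard : Nat.card H = m := by
    have horb : MulAction.orbit N R₀ = {R | R ≠ P} := by
      ext R
      constructor
      · rintro ⟨⟨g, hg⟩, rfl⟩ h1
        apply hR₀
        have h2 : g • R₀ = g • P := (show g • R₀ = P from h1).trans (Sylow.smul_eq_iff_mem_normalizer.mpr hg).symm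
        exact smul_left_cancel g h2
      · intro hR
        obtain ⟨x, -, hx⟩ := hshift R hR
        exact ⟨⟨τ ^ x, le_normalizer ((P : Subgroup G).pow_mem hτP x)⟩, hx⟩
    have h1 := Subgroup.card_mul_index (MulAction.stabilizer N R₀)
    rw [MulAction.index_stabilizer, horb] at h1
    have h2 : ({R | R ≠ P} : Set (Sylow p G)).ncard = p := by
      have := Set.ncard_add_ncard_compl ({P} : Set (Sylow p G))
      rw [Set.ncard_singleton, hn] at this
      have h3 : ({P} : Set (Sylow p G))ᶜ = {R | R ≠ P} := by ext; simp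
      rw [h3] at this
      omega
    rw [h2, hNcard, mul_comm p m] at h1
    have h4 : Nat.card (MulAction.stabilizer N R₀) = m := Nat.eq_of_mul_eq_mul_right hp.pos h1
    rw [← h4]
    exact Nat.card_congr
      { toFun := fun g => ⟨⟨g.1, g.2.1⟩, g.2.2⟩
        invFun := fun g => ⟨g.1.1, g.1.2, g.2⟩
        left_inv := fun g => rfl
        right_inv := fun g => rfl }
  have hcomm : ∀ g ∈ H, Commute g τ → g = 1 := by
    intro g hg hgτ
    refine hker g fun R => ?_
    by_cases hR : R = P
    · subst hR; exact Sylow.smul_eq_iff_mem_normalizer.mpr hg.1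
    · obtain ⟨x, -, rfl⟩ := hshift R hR
      rw [← mul_smul, (hgτ.pow_right x).eq, mul_smul, MulAction.mem_stabilizer_iff.mp hg.2]
  have hconj : ∀ g : H, ∃ a : ℤ, (g : G) * τ * (g : G)⁻¹ = τ ^ a := fun g =>
    (hPz _ ((mem_normalizer_iff.mp g.2.1 τ).mp hτP)).imp fun _ h' => h'.symm
  choose a ha using hconj
  have hzmod : ∀ i j : ℤ, τ ^ i = τ ^ j ↔ (i : ZMod p) = (j : ZMod p) := by
    intro i j
    rw [zpow_eq_zpow_iff_modEq, hτo, ZMod.intCast_eq_intCast_iff]
  have hamul : ∀ g g' : H, (a (g * g') : ZMod p) = a g * a g' := by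
    intro g g'
    rw [← Int.cast_mul, ← hzmod, ← ha, zpow_mul, ← ha g, conj_zpow, ← ha g', Subgroup.coe_mul]
    group
  have ha1 : (a 1 : ZMod p) = 1 := by
    rw [← Int.cast_one, ← hzmod, ← ha, zpow_one, Subgroup.coe_one]; group
  let ψ₀ : H →* ZMod p := { toFun := fun g => (a g : ZMod p), map_one' := ha1, map_mul' := hamul }
  have hψinj : Function.Injective ψ₀.toHomUnits := by
    rw [injective_iff_map_eq_one]
    intro g hg
    have h1 : (a g : ZMod p) = ((1 : ℤ) : ZMod p) := by
      rw [Int.cast_one]; exact congrArg Units.val hg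
    rw [← hzmod, ← ha, zpow_one, mul_inv_eq_iff_eq_mul] at h1
    exact Subtype.ext (hcomm g g.2 h1)
  obtain ⟨⟨h, hhH⟩, hh⟩ : ∃ g : H, (a g : ZMod p) = (c : ZMod p) := by
    by_contra hc'
    push Not at hc'
    let S : Finset (ZMod p) := Finset.univ.filter (fun x => x ^ m = 1)
    have h1 : S.card ≤ m := by
      have hsub : S ⊆ (Polynomial.nthRoots m (1 : ZMod p)).toFinset := by
        intro x hx
        simpa [S, Polynomial.mem_nthRoots hm0] using hx
      exact (Finset.card_le_card hsub).trans
        ((Multiset.toFinset_card_le _).trans (Polynomial.card_nthRoots _ _))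
    have hF : Fintype H := Fintype.ofFinite H
    have h2 : (Finset.univ.image fun g : H => (a g : ZMod p)) ⊆ S.erase (c : ZMod p) := by
      intro x hx
      simp only [Finset.mem_image, Finset.mem_univ, true_and] at hx
      obtain ⟨g, rfl⟩ := hx
      refine Finset.mem_erase.mpr ⟨hc' g, Finset.mem_filter.mpr ⟨Finset.mem_univ _, ?_⟩⟩
      have h3 : ψ₀ (g ^ m) = 1 := by rw [← hHcard, pow_card_eq_one', map_one]
      rw [map_pow] at h3
      exact h3
    have h3 := Finset.card_le_card h2
    rw [Finset.card_image_of_injective _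
      (show Function.Injective (fun g : H => (a g : ZMod p)) from fun g g' hgg => hψinj (Units.ext hgg)),
      Finset.card_erase_of_mem (by simp [S, hc.1]), Finset.card_univ, ← Nat.card_eq_fintype_card,
      hHcard] at h3
    omega
  have hhτ : h * τ * h⁻¹ = τ ^ c := by
    rw [ha ⟨h, hhH⟩, ← zpow_natCast, hzmod]
    simpa using hh
  have hpows : ∀ k ∈ H, ∃ j < m, k = h ^ j := by
    intro k hk
    have ho : orderOf (⟨h, hhH⟩ : H) = m := by
      refine le_antisymm ?_ ?_
      · exact Nat.le_of_dvd hm0 (hHcard ▸ orderOf_dvd_natCard _)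
      · by_contra hlt
        push Not at hlt
        refine hc.2 _ hlt (orderOf_pos _) ?_
        have h3 : ψ₀ ((⟨h, hhH⟩ : H) ^ orderOf (⟨h, hhH⟩ : H)) = 1 := by rw [pow_orderOf_eq_one, map_one]
        rw [map_pow] at h3
        rw [← hh]; exact h3
    have htop : Subgroup.zpowers (⟨h, hhH⟩ : H) = ⊤ :=
      Subgroup.eq_top_of_card_eq _ (by rw [Nat.card_zpowers, ho, hHcard])
    obtain ⟨j, hj, hjk⟩ := (IsOfFinOrder.mem_zpowers_iff_mem_range_orderOf (isOfFinOrder_of_finite _)).mp
      (htop ▸ Subgroup.mem_top (⟨k, hk⟩ : H)) |> Finset.mem_image.mp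
    exact ⟨j, ho ▸ Finset.mem_range.mp hj, (by simpa using (congrArg Subtype.val hjk).symm)⟩
  let t : Fin (p + 1) → G := fun s => if (s : ℕ) < p then τ ^ (s : ℕ) else 1
  have hmod : ∀ k : ℕ, τ ^ (k % p) = τ ^ k := fun k => by rw [← hτo, pow_mod_orderOf]
  have henum : ∀ (k : ℕ) (hk : k < p + 1), k < p → e ⟨k, hk⟩ = τ ^ k • R₀ := fun k hk hkp => by
    rw [he]; simp [enum, hkp]
  have henum_last : ∀ x : Fin (p + 1), ¬ (x : ℕ) < p → e x = P := fun x hx => by
    rw [he]; simp [enum, hx]
  refine ⟨f, h, t, ?_⟩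
  refine
    { inj := hinjf
      h_apply := fun x => ?_
      t_apply := fun s x => ?_
      stab := fun g hg => ?_
      fix_two := fun g hg hg' => ?_
      trans := fun x => ?_
      h_fix := ⟨by simp [primeTables], by ext; simp [primeTables, hp.pos]⟩
      t_fix := fun s => by simp [primeTables]
      h_pow := ?_ }
  · apply e.injective
    rw [hf]
    simp only [primeTables]
    split_ifs with hx
    · rw [henum _ _ (Nat.mod_lt _ hp.pos), hmod, henum _ x.2 hx, ← mul_smul, pow_mul, ← hhτ, conj_pow,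
        mul_smul, mul_smul, inv_smul_eq_iff.mpr (MulAction.mem_stabilizer_iff.mp hhH.2).symm]
      exact (mul_smul _ _ _).symm
    · rw [henum_last x hx]; exact Sylow.smul_eq_iff_mem_normalizer.mpr hhH.1
  · apply e.injective
    rw [hf]
    simp only [primeTables, t]
    by_cases hs : (s : ℕ) < p
    · by_cases hx : (x : ℕ) < p
      · rw [if_pos hs, if_pos ⟨hx, hs⟩, henum _ _ (Nat.mod_lt _ hp.pos), hmod, henum _ x.2 hx,
          ← mul_smul, ← pow_add, add_comm]
      · rw [if_pos hs, if_neg (fun h' => hx h'.1), henum_last x hx]; exact hpow_fix _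
    · rw [if_neg hs, if_neg (fun h' => hs h'.2), one_smul]
  · have h1 : g • P = P := by
      have h2 := hf g (Fin.last p)
      have h3 : f g (Fin.last p) = Fin.last p := hg
      rw [h3, henum_last _ (by simp)] at h2
      exact h2.symm
    have hgN : g ∈ N := Sylow.smul_eq_iff_mem_normalizer.mp h1
    obtain ⟨x, hx, hxR⟩ := hshift (g • R₀) fun h' => hR₀ (smul_left_cancel g (h'.trans h1.symm))
    obtain ⟨j, hj, hjk⟩ := hpows ((τ ^ x)⁻¹ * g) ⟨N.mul_mem (N.inv_mem
      (le_normalizer ((P : Subgroup G).pow_mem hτP x))) hgN, MulAction.mem_stabilizer_iff.mpr (by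
        rw [mul_smul, ← hxR, inv_smul_smul])⟩
    refine ⟨⟨x, Nat.lt_succ_of_lt hx⟩, j, hj, ?_⟩
    rw [← hjk]
    simp [t, hx]
  · refine hpows g ⟨Sylow.smul_eq_iff_mem_normalizer.mp ?_, MulAction.mem_stabilizer_iff.mpr ?_⟩
    · have h2 := hf g (Fin.last p)
      have h3 : f g (Fin.last p) = Fin.last p := hg
      rw [h3, henum_last _ (by simp)] at h2
      exact h2.symm
    · have h2 := hf g 0
      have h3 : f g 0 = 0 := hg'
      have h4 : e (0 : Fin (p + 1)) = R₀ := by rw [he]; simp [enum, hp.pos]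
      rw [h3, h4] at h2
      exact h2.symm
  · obtain ⟨g, hg⟩ := MulAction.exists_smul_eq G P (e x)
    refine ⟨g, e.injective ?_⟩
    show e (f g (Fin.last p)) = e x
    rw [hf, henum_last _ (by simp), hg]
  · show h ^ m = 1
    have := pow_card_eq_one' (x := (⟨h, hhH⟩ : H))
    rw [hHcard] at this
    simpa using congrArg Subtype.val this

end Cfsg.Agent.Classification
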