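import Cfsg.Agent.Classification.SimpleOrderExceptions
import Mathlib.GroupTheory.Transfer
import Mathlib.RingTheory.ZMod.UnitsCyclic

/-!
# No group has twenty-one Sylow 5-subgroups

M. Hall's theorem.  A minimal counterexample is simple; a linear-space argument on the twenty-one
Sylow subgroups makes them of order five, and a transfer argument kills that case.
-/

set_option autoImplicit false

namespace Cfsg.Agent.Classification.TwentyOne

open Subgroup MulAction

theorem card_eq_index {G : Type*} [Group G] [Finite G] {p : ℕ} [Fact p.Prime] (P : Sylow p G) :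
    Nat.card (Sylow p G) = (normalizer ((P : Subgroup G) : Set G)).index :=
  P.card_eq_index_normalizer

theorem inf_normalizer_eq {G : Type*} [Group G] [Finite G] {p : ℕ} [Fact p.Prime] {P : Subgroup G}
    (hP : IsPGroup p P) (Q : Sylow p G) :
    P ⊓ normalizer ((Q : Subgroup G) : Set G) = P ⊓ (Q : Subgroup G) :=
  hP.inf_normalizer_sylow Q

theorem card_mul_relIndex' {G : Type*} [Group G] {H K : Subgroup G} (h : H ≤ K) :
    Nat.card H * H.relIndex K = Nat.card K := by
  rw [← relIndex_bot_left, ← relIndex_bot_left, relIndex_mul_relIndex ⊥ H K bot_le h]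

theorem units_five : ∀ a : (ZMod 5)ˣ, (a ^ 2) ^ 2 = 1 ∧ (a ^ 2 = 1 → a = 1 ∨ a = -1) := by decide

theorem neg_one_ne_one_five : (-1 : (ZMod 5)ˣ) ≠ 1 := by decide

/-! ## Transfer -/

/-- A transfer criterion: if all conjugates of `t ^ n` lying in `S` have image `c ^ n`, then `t`
maps to `c ^ [G : S]`. -/
theorem transfer_eq_pow_index {G : Type*} [Group G] [Finite G] {H : Subgroup G} {A : Type*}
    [CommGroup A] (φ : H →* A) (t : G) (c : A)
    (key : ∀ (n : ℕ) (g : G) (h : g⁻¹ * t ^ n * g ∈ H), φ ⟨_, h⟩ = c ^ n) :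
    MonoidHom.transfer φ t = c ^ H.index := by
  classical
  let _ := H.fintypeQuotientOfFiniteIndex
  rw [MonoidHom.transfer_eq_prod_quotient_orbitRel_zpowers_quot, index_eq_sum_minimalPeriod H t,
    ← Finset.prod_pow_eq_pow_sum]
  exact Finset.prod_congr rfl fun q _ => key _ _ _

/-- In a finite non-abelian simple group such a character can only send `t` to an element killed by
the index. -/
theorem pow_index_eq_one {G : Type*} [Group G] [Finite G] [IsSimpleGroup G]
    (hG : ¬ IsMulCommutative G) {H : Subgroup G} {A : Type*} [CommGroup A] (φ : H →* A) (t : G)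
    (c : A) (key : ∀ (n : ℕ) (g : G) (h : g⁻¹ * t ^ n * g ∈ H), φ ⟨_, h⟩ = c ^ n) :
    c ^ H.index = 1 := by
  rw [← transfer_eq_pow_index φ t c key]
  rcases (MonoidHom.transfer φ).normal_ker.eq_bot_or_eq_top with h | h
  · exact absurd (isMulCommutative_iff.mpr fun a b =>
      (MonoidHom.ker_eq_bot_iff _).mp h (by rw [map_mul, map_mul, mul_comm])) hG
  · exact (MonoidHom.mem_ker).mp (h ▸ mem_top t)

/-! ## Parity -/

/-- An even permutation with fourth power one. -/
theorem even_of_sign_one {β : Type*} [Fintype β] [DecidableEq β] {σ : Equiv.Perm β}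
    (h4 : σ ^ 4 = 1) (hs : Equiv.Perm.sign σ = 1) :
    Even ((Nat.card {b // σ (σ b) = b} - Nat.card {b // σ b = b}) / 2 +
      (Nat.card β - Nat.card {b // σ (σ b) = b}) / 4) := by
  classical
  have h1 : ∀ b, σ (σ b) ≠ σ b ↔ σ b ≠ b := fun b => σ.injective.ne_iff
  have h1' : ∀ b, ¬ σ (σ b) = σ b ↔ ¬ σ b = b := h1
  let e : Equiv.Perm {b // σ b ≠ b} := σ.subtypePerm (p := fun b => σ b ≠ b) h1'
  have hse : Equiv.Perm.sign e = 1 := by
    show Equiv.Perm.sign (σ.subtypePerm (p := fun b => σ b ≠ b) h1') = 1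
    rw [Equiv.Perm.sign_subtypePerm σ (p := fun b => σ b ≠ b) h1' (fun x hx => hx), hs]
  have he4 : e ^ 4 = 1 := by
    ext ⟨b, hb⟩
    show ((σ.subtypePerm (p := fun b => σ b ≠ b) h1') ^ 4) ⟨b, hb⟩ = b
    rw [Equiv.Perm.subtypePerm_pow]
    show (σ ^ 4) b = b
    rw [h4, Equiv.Perm.one_apply]
  have h := even_of_fpf_sign_one he4 (fun b hb => b.2 (congrArg Subtype.val hb)) hse
  have hsub : ∀ b, σ b = b → σ (σ b) = b := fun b hb => by rw [hb, hb]
  have hA : Nat.card {b : {b // σ b ≠ b} // e (e b) = b} + Nat.card {b // σ b = b} =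
      Nat.card {b // σ (σ b) = b} := by
    rw [← Nat.card_sum]
    refine Nat.card_congr ⟨Sum.elim (fun b => ⟨b.1.1, congrArg Subtype.val b.2⟩)
      (fun b => ⟨b.1, hsub b.1 b.2⟩),
      fun b => if hb : σ b.1 = b.1 then Sum.inr ⟨b.1, hb⟩
        else Sum.inl ⟨⟨b.1, hb⟩, Subtype.ext b.2⟩, ?_, ?_⟩
    · rintro (⟨⟨b, hb⟩, h2⟩ | ⟨b, hb⟩)
      · simp [hb]
      · simp [hb]
    · rintro ⟨b, hb⟩
      by_cases hb' : σ b = b <;> simp [hb']
  have hB : Nat.card {b // σ b ≠ b} + Nat.card {b // σ b = b} = Nat.card β := by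
    rw [add_comm, ← Nat.card_sum]
    exact Nat.card_congr (Equiv.sumCompl fun b => σ b = b)
  have e1 : Nat.card {b : {b // σ b ≠ b} // e (e b) = b} =
      Nat.card {b // σ (σ b) = b} - Nat.card {b // σ b = b} := by omega
  have e2 : Nat.card {b // σ b ≠ b} - Nat.card {b : {b // σ b ≠ b} // e (e b) = b} =
      Nat.card β - Nat.card {b // σ (σ b) = b} := by omega
  rw [e2, e1] at h
  exact h

/-! ## The simple case -/

section Simple

variable {G : Type*} [Group G] [Finite G] [IsSimpleGroup G] [Fact (Nat.Prime 5)]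

theorem five_dvd (h21 : Nat.card (Sylow 5 G) = 21) : 5 ∣ Nat.card G := by
  by_contra h
  have : ∀ P : Sylow 5 G, (P : Subgroup G) = ⊥ := fun P => by
    obtain ⟨n, hn⟩ := P.2.exists_card_eq
    have hd : 5 ^ n ∣ Nat.card G := hn ▸ Subgroup.card_subgroup_dvd_card _
    cases n with
    | zero => exact card_eq_one.mp hn
    | succ m => exact absurd ((dvd_pow_self 5 (Nat.succ_ne_zero m)).trans hd) h
  have : Subsingleton (Sylow 5 G) := ⟨fun P Q => Sylow.ext ((this P).trans (this Q).symm)⟩
  have := Finite.card_le_one_iff_subsingleton.mpr this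
  omega

theorem not_comm (h21 : Nat.card (Sylow 5 G) = 21) : ¬ IsMulCommutative G := fun hc => by
  obtain ⟨P⟩ := (inferInstance : Nonempty (Sylow 5 G))
  have hn : (P : Subgroup G).Normal := ⟨fun n hn g => by
    rw [isMulCommutative_iff.mp hc g n, mul_inv_cancel_right]; exact hn⟩
  have := (card_eq_index P)
  rw [normalizer_eq_top_iff.mpr hn, index_top] at this
  omega

/-- A `5`-element fixing a Sylow subgroup lies in it. -/
theorem mem_of_smul_eq {P Q : Sylow 5 G} {x : G} (hx : x ∈ (P : Subgroup G)) (h : x • Q = Q) :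
    x ∈ (Q : Subgroup G) := by
  have h2 : x ∈ (P : Subgroup G) ⊓ normalizer ((Q : Subgroup G) : Set G) :=
    ⟨hx, Sylow.smul_eq_iff_mem_normalizer.mp h⟩
  rw [inf_normalizer_eq P.2 Q] at h2
  exact h2.2

/-- Each orbit of a Sylow subgroup on the others has five points. -/
theorem orbit_five (h21 : Nat.card (Sylow 5 G) = 21) {P Q : Sylow 5 G} (hne : P ≠ Q) :
    Nat.card (orbit ↥(P : Subgroup G) Q) = 5 := by
  obtain ⟨n, hn⟩ := P.2.card_orbit Q
  have hP : P ∉ orbit ↥(P : Subgroup G) Q := by
    rintro ⟨a, ha⟩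
    apply hne
    have hfix : a • P = P := Sylow.smul_eq_iff_mem_normalizer.mpr (le_normalizer a.2)
    exact MulAction.injective a (hfix.trans ha.symm)
  have hlt : Nat.card (orbit ↥(P : Subgroup G) Q) < 21 := by
    rw [← h21]
    exact Finite.card_subtype_lt hP
  have hn1 : n ≠ 0 := by
    intro h0
    rw [h0, pow_zero, Nat.card_eq_one_iff_unique] at hn
    apply hne
    have hle : (P : Subgroup G) ≤ (Q : Subgroup G) := fun a ha =>
      mem_of_smul_eq ha (congrArg Subtype.val
        (hn.1.elim ⟨(⟨a, ha⟩ : ↥(P : Subgroup G)) • Q, mem_orbit _ _⟩ ⟨Q, mem_orbit_self _⟩))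
    exact Sylow.ext (P.3 Q.2 hle).symm
  have hn2 : n < 2 := by
    by_contra hc
    have := Nat.pow_le_pow_right (show 5 > 0 by norm_num) (not_lt.mp hc)
    omega
  rw [hn, show n = 1 by omega, pow_one]

/-- Two Sylow subgroups meet in a subgroup of index five of each. -/
theorem relIndex_inter (h21 : Nat.card (Sylow 5 G) = 21) {P Q : Sylow 5 G} (hne : P ≠ Q) :
    ((P : Subgroup G) ⊓ (Q : Subgroup G)).relIndex (P : Subgroup G) = 5 := by
  have hst : stabilizer ↥(P : Subgroup G) Q =
      ((P : Subgroup G) ⊓ (Q : Subgroup G)).subgroupOf (P : Subgroup G) := by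
    ext a
    rw [mem_stabilizer_iff, mem_subgroupOf, mem_inf]
    refine ⟨fun h => ⟨a.2, mem_of_smul_eq a.2 h⟩, fun h => ?_⟩
    exact (Sylow.smul_eq_iff_mem_normalizer.mpr (le_normalizer h.2) : (a : G) • Q = Q)
  rw [relIndex, ← hst, index_stabilizer, ← Nat.card_coe_set_eq]
  exact orbit_five h21 hne

/-- The intersection is normalised by each of the two. -/
theorem conj_mem_inter (h21 : Nat.card (Sylow 5 G) = 21) {P Q : Sylow 5 G} (hne : P ≠ Q) {a : G}
    (ha : a ∈ (P : Subgroup G)) {r : G} (hr : r ∈ (P : Subgroup G) ⊓ (Q : Subgroup G)) :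
    a * r * a⁻¹ ∈ (P : Subgroup G) ⊓ (Q : Subgroup G) := by
  have hidx := relIndex_inter h21 hne
  have hdvd : 5 ∣ Nat.card ↥(P : Subgroup G) :=
    dvd_trans (dvd_of_eq hidx.symm) (relIndex_dvd_card _ _)
  obtain ⟨n, hn⟩ := P.2.exists_card_eq
  have hmin : (Nat.card ↥(P : Subgroup G)).minFac = 5 := by
    rw [hn] at hdvd ⊢
    refine Nat.Prime.pow_minFac (by norm_num) (fun h0 => ?_)
    rw [h0] at hdvd; norm_num at hdvd
  have hnorm : (((P : Subgroup G) ⊓ (Q : Subgroup G)).subgroupOf (P : Subgroup G)).Normal :=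
    normal_of_index_eq_minFac_card (by rw [hmin]; exact hidx)
  exact hnorm.conj_mem ⟨r, hr.1⟩ hr ⟨a, ha⟩

theorem inter_eq_of_le (h21 : Nat.card (Sylow 5 G) = 21) {S T A B : Sylow 5 G} (h1 : S ≠ T)
    (h2 : A ≠ B) (hle : (S : Subgroup G) ⊓ T ≤ (A : Subgroup G) ⊓ B) :
    (S : Subgroup G) ⊓ T = (A : Subgroup G) ⊓ B := by
  refine eq_of_le_of_card_ge hle (Nat.le_of_eq ?_)
  have e1 := relIndex_inter h21 h1
  have e2 := relIndex_inter h21 h2
  have c1 := card_mul_relIndex' (inf_le_left : (S : Subgroup G) ⊓ T ≤ (S : Subgroup G))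
  have c2 := card_mul_relIndex' (inf_le_left : (A : Subgroup G) ⊓ B ≤ (A : Subgroup G))
  have c3 : Nat.card ↥(S : Subgroup G) = Nat.card ↥(A : Subgroup G) :=
    Nat.card_congr (S.equiv A).toEquiv
  rw [e1] at c1
  rw [e2] at c2
  omega

/-- In a simple group with twenty-one Sylow 5-subgroups these have order five. -/
theorem card_sylow_eq_five (h21 : Nat.card (Sylow 5 G) = 21) (P : Sylow 5 G) :
    Nat.card ↥(P : Subgroup G) = 5 := by
  classical
  have hnt : Nontrivial (Sylow 5 G) := Finite.one_lt_card_iff_nontrivial.mp (by omega)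
  obtain ⟨Q, hQ⟩ := exists_ne P
  replace hQ : P ≠ Q := hQ.symm
  set R := (P : Subgroup G) ⊓ (Q : Subgroup G) with hR
  have hidx : R.relIndex (P : Subgroup G) = 5 := relIndex_inter h21 hQ
  have hcard := card_mul_relIndex' (show R ≤ (P : Subgroup G) from inf_le_left)
  rw [hidx] at hcard
  suffices hbot : R = ⊥ by
    rw [hbot, card_bot] at hcard
    omega
  by_contra hne
  obtain ⟨S, hS⟩ : ∃ S : Sylow 5 G, ¬ R ≤ S := by
    by_contra hc
    push Not at hc
    apply hne
    have hcore : R ≤ normalCore (P : Subgroup G) := fun r hr g => by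
      have := hc (g⁻¹ • P) hr
      rw [Sylow.coe_subgroup_smul, mem_pointwise_smul_iff_inv_smul_mem] at this
      simpa [MulAut.conj_apply] using this
    rcases (normalCore_normal (P : Subgroup G)).eq_bot_or_eq_top with h | h
    · exact le_bot_iff.mp (h ▸ hcore)
    · exfalso
      have hP : (P : Subgroup G).Normal := by
        rw [show (P : Subgroup G) = ⊤ from top_le_iff.mp (h ▸ normalCore_le (P : Subgroup G))]
        infer_instance
      have := (card_eq_index P)
      rw [normalizer_eq_top_iff.mpr hP, index_top] at this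
      omega
  set L := {T : Sylow 5 G | R ≤ (T : Subgroup G)} with hL
  have hPL : P ∈ L := (inf_le_left : R ≤ (P : Subgroup G))
  have hQL : Q ∈ L := (inf_le_right : R ≤ (Q : Subgroup G))
  have horb : orbit ↥(P : Subgroup G) Q ⊆ L := by
    rintro T ⟨a, rfl⟩ r hr
    have hr' := conj_mem_inter h21 hQ ((P : Subgroup G).inv_mem a.2) hr
    rw [inv_inv] at hr'
    show r ∈ (((a : G) • Q : Sylow 5 G) : Subgroup G)
    rw [Sylow.coe_subgroup_smul, mem_pointwise_smul_iff_inv_smul_mem]
    have e : (MulAut.conj (a : G))⁻¹ • r = (a : G)⁻¹ * r * (a : G) := by simp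
    rw [e]
    exact hr'.2
  have hL6 : 6 ≤ Nat.card L := by
    have hP : P ∉ orbit ↥(P : Subgroup G) Q := by
      rintro ⟨a, ha⟩
      exact hQ (MulAction.injective a
        ((Sylow.smul_eq_iff_mem_normalizer.mpr (le_normalizer a.2) : a • P = P).trans ha.symm))
    have hsub : insert P (orbit ↥(P : Subgroup G) Q) ⊆ L := Set.insert_subset hPL horb
    have h := Nat.card_mono (Set.toFinite L) hsub
    rw [Nat.card_coe_set_eq (insert _ _), Set.ncard_insert_of_notMem hP,
      ← Nat.card_coe_set_eq, orbit_five h21 hQ] at h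
    exact h
  let f : (Σ a : L, orbit ↥(S : Subgroup G) (a : Sylow 5 G)) → {T : Sylow 5 G // T ≠ S} :=
    fun p => ⟨p.2.1, fun hT => by
      obtain ⟨s, hs⟩ := p.2.2
      have hSS : s • S = S := Sylow.smul_eq_iff_mem_normalizer.mpr (le_normalizer s.2)
      have : (p.1 : Sylow 5 G) = S := MulAction.injective s (hs.trans (hT.trans hSS.symm))
      exact hS (this ▸ p.1.2)⟩
  have hSa : ∀ a : L, S ≠ (a : Sylow 5 G) := fun a h => hS (h ▸ a.2)
  have hclass : ∀ (a : L) (T : Sylow 5 G), T ∈ orbit ↥(S : Subgroup G) (a : Sylow 5 G) →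
      (S : Subgroup G) ⊓ T = (S : Subgroup G) ⊓ (a : Sylow 5 G) := by
    rintro a T ⟨s, rfl⟩
    symm
    apply inter_eq_of_le h21 (hSa a)
    · intro h
      have hSS : s • S = S := Sylow.smul_eq_iff_mem_normalizer.mpr (le_normalizer s.2)
      exact hSa a (MulAction.injective s (hSS.trans h))
    refine le_inf inf_le_left fun r hr => ?_
    show r ∈ (((s : G) • (a : Sylow 5 G) : Sylow 5 G) : Subgroup G)
    rw [Sylow.coe_subgroup_smul, mem_pointwise_smul_iff_inv_smul_mem]
    have := conj_mem_inter h21 (hSa a) ((S : Subgroup G).inv_mem s.2) hr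
    rw [inv_inv] at this
    have e : (MulAut.conj (s : G))⁻¹ • r = (s : G)⁻¹ * r * (s : G) := by simp
    rw [e]
    exact this.2
  have hf : Function.Injective f := by
    rintro ⟨a, T⟩ ⟨b, U⟩ hTU
    have hv : (T : Sylow 5 G) = U := congrArg Subtype.val hTU
    have hab : a = b := by
      by_contra hab
      have hab' : (a : Sylow 5 G) ≠ b := fun h => hab (Subtype.ext h)
      have h1 := hclass a T T.2
      rw [hv, hclass b U U.2] at h1
      have h2 : (S : Subgroup G) ⊓ (a : Sylow 5 G) =
          ((a : Sylow 5 G) : Subgroup G) ⊓ (b : Sylow 5 G) :=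
        inter_eq_of_le h21 (hSa a) hab' (le_inf inf_le_right (h1 ▸ inf_le_right))
      have h3 : R ≤ ((a : Sylow 5 G) : Subgroup G) ⊓ (b : Sylow 5 G) := le_inf a.2 b.2
      exact hS (h3.trans (h2 ▸ inf_le_left))
    subst hab
    rw [Subtype.ext hv]
  have hle := Nat.card_le_card_of_injective f hf
  have := Fintype.ofFinite L
  rw [Nat.card_sigma, Finset.sum_congr rfl (fun a _ => orbit_five h21 (hSa a)),
    Finset.sum_const, smul_eq_mul, Finset.card_univ, ← Nat.card_eq_fintype_card] at hle
  have hrhs : Nat.card {T : Sylow 5 G // T ≠ S} < 21 := by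
    rw [← h21]
    exact Finite.card_subtype_lt (x := S) (fun h => h rfl)
  omega

/-- An involution centralising `P` fixes no other Sylow subgroup. -/
theorem eq_of_fixed (h21 : Nat.card (Sylow 5 G) = 21) {P : Sylow 5 G}
    (hP : Nat.card ↥(P : Subgroup G) = 5) {z : G}
    (hz : z ∈ centralizer ((P : Subgroup G) : Set G)) (h2 : z ^ 2 = 1) (h1 : z ≠ 1)
    {R : Sylow 5 G} (hR : z • R = R) : R = P := by
  have hG := not_comm h21
  have a := dvd_card_moved_sylow P hP hz
  have b := card_moved_sylow_pos (p := 5) hG (five_dvd h21) h1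
  have c := SmallGroups.four_dvd_moved hG (α := Sylow 5 G) h2
  have d := card_moved_add_fixed (α := Sylow 5 G) z
  have hPfix : z • P = P := Sylow.smul_eq_iff_mem_normalizer.mpr (centralizer_le_normalizer _ hz)
  have hpos : 0 < Nat.card (fixedBy (Sylow 5 G) z) :=
    Nat.card_pos_iff.mpr ⟨⟨⟨P, hPfix⟩⟩, inferInstance⟩
  have he : Nat.card (fixedBy (Sylow 5 G) z) = 1 := by
    rw [h21] at c d
    omega
  have := (Nat.card_eq_one_iff_unique.mp he).1
  exact congrArg Subtype.val (this.elim ⟨R, hR⟩ ⟨P, hPfix⟩)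

/-- An element of order dividing four in `N(P)` whose square centralises `P` is an involution. -/
theorem sq_eq_one_of_four (h21 : Nat.card (Sylow 5 G) = 21) {P : Sylow 5 G}
    (hP : Nat.card ↥(P : Subgroup G) = 5) {u : G}
    (hu : u ∈ normalizer ((P : Subgroup G) : Set G)) (h4 : u ^ 4 = 1)
    (hc : u ^ 2 ∈ centralizer ((P : Subgroup G) : Set G)) : u ^ 2 = 1 := by
  classical
  by_contra hne
  have hG := not_comm h21
  have := Fintype.ofFinite (Sylow 5 G)
  have hsq : (u ^ 2) ^ 2 = 1 := by rw [← pow_mul]; exact h4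
  have hfix := fun R hR => eq_of_fixed h21 hP hc hsq hne (R := R) hR
  have huP : u • P = P := Sylow.smul_eq_iff_mem_normalizer.mpr hu
  set σ := toPermHom G (Sylow 5 G) u with hσ
  have hσ4 : σ ^ 4 = 1 := by rw [hσ, ← map_pow, h4, map_one]
  have h := even_of_sign_one hσ4 (SmallGroups.sign_hom_eq_one hG _ u)
  have hsσ : ∀ R, σ (σ R) = (u ^ 2) • R := fun R => by rw [pow_two, mul_smul]; rfl
  have e1 : Nat.card {R // σ (σ R) = R} = 1 := by
    refine Nat.card_eq_one_iff_unique.mpr ⟨⟨fun A B => Subtype.ext ?_⟩, ⟨⟨P, ?_⟩⟩⟩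
    · rw [hfix A ((hsσ _).symm.trans A.2), hfix B ((hsσ _).symm.trans B.2)]
    · show u • u • P = P
      rw [huP, huP]
  have e2 : Nat.card {R // σ R = R} = 1 := by
    refine Nat.card_eq_one_iff_unique.mpr ⟨⟨fun A B => Subtype.ext ?_⟩, ⟨⟨P, huP⟩⟩⟩
    rw [hfix A ((hsσ _).symm.trans (by rw [A.2, A.2])),
      hfix B ((hsσ _).symm.trans (by rw [B.2, B.2]))]
  rw [e1, e2, h21] at h
  norm_num [Nat.even_iff] at h

/-- A 2-element of `N(P)` whose square centralises `P` is an involution. -/
theorem sq_eq_one (h21 : Nat.card (Sylow 5 G) = 21) {P : Sylow 5 G}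
    (hP : Nat.card ↥(P : Subgroup G) = 5) (k : ℕ) :
    ∀ u : G, u ∈ normalizer ((P : Subgroup G) : Set G) → u ^ (2 ^ k) = 1 →
      u ^ 2 ∈ centralizer ((P : Subgroup G) : Set G) → u ^ 2 = 1 := by
  induction k with
  | zero => intro u _ h _; rw [pow_zero, pow_one] at h; rw [h, one_pow]
  | succ k ih =>
    intro u hu hk hc
    have h4 : (u ^ 2) ^ 2 = 1 := ih (u ^ 2) (pow_mem hu 2)
      (by rw [← pow_mul, ← pow_succ']; exact hk) (pow_mem hc 2)
    exact sq_eq_one_of_four h21 hP hu (by rw [← pow_mul] at h4; exact h4) hc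

/-- A simple group does not have twenty-one Sylow 5-subgroups. -/
theorem card_sylow_ne (h21 : Nat.card (Sylow 5 G) = 21) : False := by
  classical
  have hG := not_comm h21
  have : Fact (Nat.Prime 2) := ⟨Nat.prime_two⟩
  obtain ⟨S⟩ := (inferInstance : Nonempty (Sylow 2 G))
  obtain ⟨P, hPfix⟩ :=
    S.2.nonempty_fixed_point_of_prime_not_dvd_card (Sylow 5 G) (by rw [h21]; norm_num)
  have hSN : (S : Subgroup G) ≤ normalizer ((P : Subgroup G) : Set G) := fun s hs =>
    Sylow.smul_eq_iff_mem_normalizer.mp (hPfix ⟨s, hs⟩)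
  have hP := card_sylow_eq_five h21 P
  have : IsCyclic ↥(P : Subgroup G) := isCyclic_of_prime_card hP
  set N := normalizer ((P : Subgroup G) : Set G) with hN
  set C := centralizer ((P : Subgroup G) : Set G) with hC
  let e : MulAut ↥(P : Subgroup G) ≃* (ZMod 5)ˣ :=
    (IsCyclic.mulAutMulEquiv ↥(P : Subgroup G)).trans
      (Units.mapEquiv (ZMod.ringEquivCongr hP).toMulEquiv)
  let χ : N →* (ZMod 5)ˣ := e.toMonoidHom.comp (P : Subgroup G).normalizerMonoidHom
  have hker : ∀ v : N, χ v = 1 ↔ (v : G) ∈ C := fun v => by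
    show e (normalizerMonoidHom _ v) = 1 ↔ _
    rw [← map_one e, e.injective.eq_iff, ← MonoidHom.mem_ker, normalizerMonoidHom_ker,
      mem_subgroupOf]
  have hsquare : ∀ a : (ZMod 5)ˣ, (a ^ 2) ^ 2 = 1 ∧ (a ^ 2 = 1 → a = 1 ∨ a = -1) := units_five
  have hne1 : (-1 : (ZMod 5)ˣ) ≠ 1 := neg_one_ne_one_five
  have hodd : Odd (S : Subgroup G).index := by
    rw [Nat.odd_iff]
    have := S.not_dvd_index
    omega
  have h2el : ∀ s ∈ (S : Subgroup G), ∃ k : ℕ, s ^ (2 ^ k) = 1 := fun s hs => by
    obtain ⟨k, hk⟩ := S.2 ⟨s, hs⟩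
    exact ⟨k, by simpa using congrArg Subtype.val hk⟩
  let ψ : ↥(S : Subgroup G) →* (ZMod 5)ˣ := χ.comp (inclusion hSN)
  have hψC : ∀ s : ↥(S : Subgroup G), ψ s = 1 ↔ (s : G) ∈ C := fun s => hker _
  have hinv : ∀ s : ↥(S : Subgroup G), ψ s ^ 2 = 1 → (s : G) ^ 2 = 1 := fun s hs => by
    obtain ⟨k, hk⟩ := h2el s s.2
    refine sq_eq_one h21 hP k s (hSN s.2) hk ?_
    exact (hψC (s ^ 2)).mp (by rw [map_pow]; exact hs)
  obtain ⟨t, ht⟩ : ∃ s : ↥(S : Subgroup G), ψ s ≠ 1 := by
    by_contra hc
    push Not at hc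
    have hSC : (S : Subgroup G) ≤ C := fun s hs => (hψC ⟨s, hs⟩).mp (hc ⟨s, hs⟩)
    by_cases hNC : N ≤ C
    · have hcomp := MonoidHom.ker_transferSylow_isComplement' P hNC
      rcases (MonoidHom.transferSylow P hNC).normal_ker.eq_bot_or_eq_top with h | h
      · have := hcomp.card_mul
        rw [h, card_bot, one_mul] at this
        have hPtop := card_eq_iff_eq_top (P : Subgroup G) |>.mp this
        have hn : (P : Subgroup G).Normal := hPtop ▸ inferInstance
        have := (card_eq_index P)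
        rw [normalizer_eq_top_iff.mpr hn, index_top] at this
        omega
      · have := hcomp.card_mul
        rw [h, card_top, hP] at this
        have := (Nat.card_pos : 0 < Nat.card G)
        omega
    · have hdiv : C.relIndex N ∣ 4 := by
        have h := card_dvd_of_injective _
          (QuotientGroup.kerLift_injective (P : Subgroup G).normalizerMonoidHom)
        rw [normalizerMonoidHom_ker, ← index, ← relIndex, Nat.card_congr e.toEquiv,
          Nat.card_eq_fintype_card, ZMod.card_units_eq_totient,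
          Nat.totient_prime (by norm_num)] at h
        exact h
      obtain ⟨i, hi, hval⟩ :=
        (Nat.dvd_prime_pow Nat.prime_two).mp (show C.relIndex N ∣ 2 ^ 2 from hdiv)
      have hi0 : i ≠ 0 := by
        rintro rfl
        exact hNC (relIndex_eq_one.mp (by rw [hval, pow_zero]))
      apply S.not_dvd_index
      have h1 : C.relIndex N ∣ C.index :=
        relIndex_dvd_index_of_le (centralizer_le_normalizer _)
      exact ((dvd_pow_self 2 hi0).trans (hval ▸ h1)).trans (index_dvd_of_le hSC)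
  by_cases hA : ∀ s : ↥(S : Subgroup G), ψ s ^ 2 = 1
  · have htm : ψ t = -1 := ((hsquare _).2 (hA t)).resolve_left ht
    have ht2 : (t : G) ^ 2 = 1 := hinv t (hA t)
    have key : ∀ (n : ℕ) (g : G) (h : g⁻¹ * (t : G) ^ n * g ∈ (S : Subgroup G)),
        ψ ⟨_, h⟩ = (-1) ^ n := by
      intro n g h
      rcases Nat.even_or_odd n with ⟨m, rfl⟩ | ⟨m, rfl⟩
      · have e0 : (⟨_, h⟩ : ↥(S : Subgroup G)) = 1 := Subtype.ext (by
          show g⁻¹ * (t : G) ^ (m + m) * g = 1
          have : (t : G) ^ (m + m) = 1 := by rw [← two_mul, pow_mul, ht2, one_pow]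
          simp [this])
        rw [e0, map_one, Even.neg_one_pow ⟨m, rfl⟩]
      · have htn : (t : G) ^ (2 * m + 1) = t := by rw [pow_succ, pow_mul, ht2, one_pow, one_mul]
        rw [Odd.neg_one_pow ⟨m, rfl⟩]
        refine ((hsquare _).2 (hA _)).resolve_left fun h1 => ?_
        set v := g⁻¹ * (t : G) ^ (2 * m + 1) * g with hv
        have hvC : v ∈ C := (hψC _).mp h1
        have hv2 : v ^ 2 = 1 := hinv ⟨v, h⟩ (by rw [h1, one_pow])
        have htne : (t : G) ≠ 1 := fun h' => ht (by
          rw [show t = 1 from Subtype.ext h', map_one])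
        have hv1 : v ≠ 1 := fun h' => htne (by
          have : g * v * g⁻¹ = t := by rw [hv, htn]; group
          rw [← this, h']; group)
        have hgP : g⁻¹ • P = P := by
          refine eq_of_fixed h21 hP hvC hv2 hv1 ?_
          rw [hv, htn, ← mul_smul, mul_inv_cancel_right, mul_smul,
            show (t : G) • P = P from hPfix t]
        apply ht
        rw [hψC]
        have hg : g⁻¹ ∈ N := Sylow.smul_eq_iff_mem_normalizer.mp hgP
        have hconj : g * v * g⁻¹ ∈ C := by
          have : ((centralizer ((P : Subgroup G) : Set G)).subgroupOf N).Normal := by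
            rw [hN, ← normalizerMonoidHom_ker]; infer_instance
          exact this.conj_mem ⟨v, centralizer_le_normalizer _ hvC⟩ hvC
            ⟨g, by simpa using N.inv_mem hg⟩
        rwa [hv, htn, show g * (g⁻¹ * (t : G) * g) * g⁻¹ = t by group] at hconj
    have := pow_index_eq_one hG ψ t (-1) key
    rw [hodd.neg_one_pow] at this
    exact hne1 this
  · push Not at hA
    obtain ⟨t, ht⟩ := hA
    let φ := (powMonoidHom 2).comp ψ
    have hsq : ∀ s, φ s ≠ 1 → φ s = -1 := fun s hs =>
      ((hsquare (φ s)).2 (hsquare (ψ s)).1).resolve_left hs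
    have ht4 : (t : G) ^ 4 = 1 := by
      have := hinv (t ^ 2) (by rw [map_pow]; exact (hsquare _).1)
      rw [SubgroupClass.coe_pow, ← pow_mul] at this
      exact this
    have ht2 : (t : G) ^ 2 ≠ 1 := fun h => ht (by
      rw [← map_pow, show t ^ 2 = 1 from Subtype.ext (by simpa using h), map_one])
    have key : ∀ (n : ℕ) (g : G) (h : g⁻¹ * (t : G) ^ n * g ∈ (S : Subgroup G)),
        φ ⟨_, h⟩ = (-1) ^ n := by
      intro n g h
      set v := g⁻¹ * (t : G) ^ n * g with hv
      have hv2 : v ^ 2 = g⁻¹ * (t : G) ^ (2 * n) * g := by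
        rw [hv, pow_two, two_mul, pow_add]; group
      rcases Nat.even_or_odd n with ⟨m, rfl⟩ | ⟨m, rfl⟩
      · have : v ^ 2 = 1 := by
          rw [hv2, show 2 * (m + m) = 4 * m by ring, pow_mul, ht4, one_pow]; group
        rw [Even.neg_one_pow ⟨m, rfl⟩]
        show ψ ⟨v, h⟩ ^ 2 = 1
        rw [← map_pow, show (⟨v, h⟩ : ↥(S : Subgroup G)) ^ 2 = 1 from
          Subtype.ext (by simpa using this), map_one]
      · rw [Odd.neg_one_pow ⟨m, rfl⟩]
        refine hsq _ fun h1 => ht2 ?_
        have := hinv ⟨v, h⟩ h1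
        simp only at this
        rw [hv2, show 2 * (2 * m + 1) = 4 * m + 2 by ring, pow_add, pow_mul, ht4, one_pow,
          one_mul] at this
        have h' : g * (g⁻¹ * (t : G) ^ 2 * g) * g⁻¹ = g * 1 * g⁻¹ := by rw [this]
        simpa [mul_assoc] using h'
    have := pow_index_eq_one hG φ t (-1) key
    rw [hodd.neg_one_pow] at this
    exact hne1 this

end Simple

/-! ## Reduction to the simple case -/

universe u

/-- A subgroup containing the normaliser of a Sylow subgroup has index one or all of them. -/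
theorem index_eq_one_or {G : Type u} [Group G] [Finite G] [Fact (Nat.Prime 5)]
    (h21 : Nat.card (Sylow 5 G) = 21) (P : Sylow 5 G) {H : Subgroup G}
    (hH : normalizer ((P : Subgroup G) : Set G) ≤ H) : H.index = 1 ∨ H.index = 21 := by
  have hPH : (P : Subgroup G) ≤ H := le_normalizer.trans hH
  have h1 : (normalizer ((P : Subgroup G) : Set G)).relIndex H * H.index = 21 := by
    rw [relIndex_mul_index hH, ← card_eq_index P, h21]
  have h2 : (normalizer ((P : Subgroup G) : Set G)).relIndex H % 5 = 1 := by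
    have h := card_sylow_modEq_one 5 ↥H
    rw [card_eq_index (P.subtype hPH), Sylow.coe_subtype,
      ← subgroupOf_normalizer_eq hPH] at h
    exact h
  have h3 : H.index ∈ Nat.divisors 21 := Nat.mem_divisors.mpr ⟨⟨_, h1.symm.trans (mul_comm _ _)⟩, by norm_num⟩
  have h4 : H.index * ((normalizer ((P : Subgroup G) : Set G)).relIndex H) = 21 := by
    rw [mul_comm]; exact h1
  rw [show Nat.divisors 21 = {1, 3, 7, 21} by decide] at h3
  simp only [Finset.mem_insert, Finset.mem_singleton] at h3
  rcases h3 with h | h | h | h <;> rw [h] at h4 <;> omega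

/-- The Sylow subgroups of a quotient, counted by a normaliser upstairs. -/
theorem card_sylow_quotient {G : Type u} [Group G] [Finite G] [Fact (Nat.Prime 5)]
    (P : Sylow 5 G) (N : Subgroup G) [N.Normal] :
    Nat.card (Sylow 5 (G ⧸ N)) =
      (normalizer (((P : Subgroup G) ⊔ N : Subgroup G) : Set G)).index := by
  let Q := P.mapSurjective (QuotientGroup.mk'_surjective N)
  rw [card_eq_index Q,
    ← index_comap_of_surjective _ (QuotientGroup.mk'_surjective N),
    comap_normalizer_eq_of_surjective _ (QuotientGroup.mk'_surjective N)]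
  show (normalizer (((P : Subgroup G).map (QuotientGroup.mk' N)).comap
    (QuotientGroup.mk' N) : Set G)).index = _
  rw [comap_map_eq, QuotientGroup.ker_mk']

/-- The normaliser of `P` normalises what is built from `P` and a normal subgroup. -/
theorem normalizer_le_normalizer_sup {G : Type u} [Group G] (P N : Subgroup G) [N.Normal] :
    normalizer (P : Set G) ≤ normalizer ((P ⊔ N : Subgroup G) : Set G) := by
  intro g hg
  rw [mem_normalizer_iff_map_conj_eq] at hg ⊢
  rw [Subgroup.map_sup, hg]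
  congr 1
  exact mem_normalizer_iff_map_conj_eq.mp (normalizer_eq_top (H := N) ▸ mem_top g)

theorem relIndex_sup_normal' {G : Type u} [Group G] (H N : Subgroup G) [N.Normal] [Finite G] :
    H.relIndex (H ⊔ N) = H.relIndex N := by
  have h1 := card_mul_relIndex' (le_sup_left : H ≤ H ⊔ N)
  have h2 := card_mul_relIndex' (le_sup_right : N ≤ H ⊔ N)
  have h3 := card_mul_relIndex' (inf_le_left : H ⊓ N ≤ H)
  have h4 := card_mul_relIndex' (inf_le_right : H ⊓ N ≤ N)
  rw [relIndex_sup_right] at h2
  rw [inf_relIndex_left] at h3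
  rw [inf_relIndex_right] at h4
  have hpos : 0 < Nat.card ↥H := Nat.card_pos
  apply Nat.eq_of_mul_eq_mul_left hpos
  rw [h1, ← h2, ← h4, ← h3]
  ring

theorem relIndex_dvd_index_of_normal' {G : Type u} [Group G] [Finite G] {p : ℕ} (P : Sylow p G)
    (N : Subgroup G) [N.Normal] (h : (P : Subgroup G) ⊔ N = ⊤) :
    (P : Subgroup G).relIndex N ∣ (P : Subgroup G).index := by
  rw [← relIndex_sup_normal' (P : Subgroup G) N, h, relIndex_top_right]

theorem sup_eq_top_of_le {G : Type u} [Group G] {P N H : Subgroup G}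
    (h : normalizer (P : Set G) ≤ H) (hK : P ⊔ N = ⊤) : H ⊔ N = ⊤ :=
  top_le_iff.mp (hK ▸ sup_le_sup_right (le_normalizer.trans h) N)

/-- A minimal counterexample is simple. -/
theorem isSimpleGroup_of_minimal {G : Type u} [Group G] [Finite G] [Fact (Nat.Prime 5)]
    (h21 : Nat.card (Sylow 5 G) = 21)
    (ih : ∀ (H : Type u) [Group H] [Finite H],
      Nat.card H < Nat.card G → Nat.card (Sylow 5 H) ≠ 21) : IsSimpleGroup G := by
  classical
  have hnt : Nontrivial G := by
    by_contra hc
    rw [not_nontrivial_iff_subsingleton] at hc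
    have : Subsingleton (Sylow 5 G) := ⟨fun P Q => Sylow.ext (Subsingleton.elim _ _)⟩
    have := Finite.card_le_one_iff_subsingleton.mpr this
    omega
  refine ⟨fun N hN => ?_⟩
  by_contra hc
  push Not at hc
  obtain ⟨hbot, htop⟩ := hc
  obtain ⟨P⟩ := (inferInstance : Nonempty (Sylow 5 G))
  have hquot : ∀ M : Subgroup G, ∀ _ : M.Normal, M ≠ ⊥ →
      (normalizer (((P : Subgroup G) ⊔ M : Subgroup G) : Set G)).index ≠ 21 := by
    intro M hM hMb h
    apply ih (G ⧸ M) ?_ (by rw [card_sylow_quotient P M, h])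
    have := card_eq_card_quotient_mul_card_subgroup M
    have h1 : 1 < Nat.card M := M.one_lt_card_iff_ne_bot.mpr hMb
    have h2 : 0 < Nat.card (G ⧸ M) := Nat.card_pos
    nlinarith
  set K := (P : Subgroup G) ⊔ N with hK
  have hKn : K.Normal := by
    rw [← normalizer_eq_top_iff, ← index_eq_one]
    exact (index_eq_one_or h21 P (normalizer_le_normalizer_sup _ N)).resolve_right
      (hquot N hN hbot)
  have hKtop : K = ⊤ := by
    by_contra hne
    apply ih K ?_
    · have hall : ∀ Q : Sylow 5 G, (Q : Subgroup G) ≤ K := fun Q => by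
        obtain ⟨g, rfl⟩ := MulAction.exists_smul_eq G P Q
        intro x hx
        rw [Sylow.coe_subgroup_smul, mem_pointwise_smul_iff_inv_smul_mem] at hx
        have hx' : g⁻¹ * x * g ∈ (P : Subgroup G) := by simpa [MulAut.conj_apply] using hx
        have : g * (g⁻¹ * x * g) * g⁻¹ ∈ K :=
          hKn.conj_mem _ ((le_sup_left : (P : Subgroup G) ≤ K) hx') g
        simpa [mul_assoc] using this
      rw [← h21]
      refine (Nat.card_congr (Equiv.ofBijective (fun Q => Q.subtype (hall Q))
        ⟨fun A B h => Sylow.subtype_injective h, fun R => ?_⟩)).symm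
      obtain ⟨k, hk⟩ := MulAction.exists_smul_eq ↥K (P.subtype (hall P)) R
      exact ⟨k • P, by rw [← hk, Sylow.smul_subtype]⟩
    · rcases lt_or_eq_of_le (Subgroup.card_le_card_group K) with h | h
      · exact h
      · exact absurd ((card_eq_iff_eq_top K).mp h) hne
  set R := (P : Subgroup G) ⊓ N with hR
  have hindexN : ∃ n, N.index = 5 ^ n := by
    obtain ⟨n, hn⟩ := P.2.exists_card_eq
    have h1 : N.index ∣ 5 ^ n := by
      rw [← relIndex_top_right, ← hKtop, hK, relIndex_sup_right, ← hn]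
      exact relIndex_dvd_card _ _
    obtain ⟨m, -, hm⟩ := (Nat.dvd_prime_pow (by norm_num)).mp h1
    exact ⟨m, hm⟩
  have hRsyl : ¬ 5 ∣ R.relIndex N := by
    rw [hR, inf_relIndex_right]
    intro h
    exact P.not_dvd_index (h.trans (relIndex_dvd_index_of_normal' P N hKtop))
  have hRn : R.Normal := by
    rw [← normalizer_eq_top_iff, ← index_eq_one]
    have hle : normalizer ((P : Subgroup G) : Set G) ≤ normalizer (R : Set G) := fun g hg => by
      rw [mem_normalizer_iff_map_conj_eq] at hg ⊢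
      rw [hR, map_inf _ _ _ (MulAut.conj g).injective, hg]
      congr 1
      exact mem_normalizer_iff_map_conj_eq.mp (normalizer_eq_top (H := N) ▸ mem_top g)
    refine (index_eq_one_or h21 P hle).resolve_right fun h => ?_
    apply ih N ?_
    · have hp : IsPGroup 5 (R.subgroupOf N) :=
        (P.2.to_le inf_le_left).comap_of_injective N.subtype N.subtype_injective
      let T : Sylow 5 N := hp.toSylow hRsyl
      rw [card_eq_index T, ← h]
      show (normalizer ((R.subgroupOf N : Subgroup N) : Set N)).index = _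
      rw [← subgroupOf_normalizer_eq (inf_le_right : R ≤ N), ← relIndex,
        ← relIndex_sup_normal' _ N, sup_eq_top_of_le hle hKtop, relIndex_top_right]
    · rcases lt_or_eq_of_le (Subgroup.card_le_card_group N) with h' | h'
      · exact h'
      · exact absurd ((card_eq_iff_eq_top N).mp h') htop
  have hRbot : R = ⊥ := by
    by_contra hne
    apply hquot R hRn hne
    rw [sup_eq_left.mpr (inf_le_left : R ≤ (P : Subgroup G)), ← card_eq_index P, h21]
  have hN5 : ¬ 5 ∣ Nat.card N := by
    have := hRsyl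
    rwa [hRbot, relIndex_bot_left] at this
  -- a Sylow 3-subgroup is normalised by a Sylow 5-subgroup
  have : Fact (Nat.Prime 3) := ⟨Nat.prime_three⟩
  obtain ⟨Q₀⟩ := (inferInstance : Nonempty (Sylow 3 N))
  have hfr := Sylow.normalizer_sup_eq_top Q₀
  set Q : Subgroup G := (Q₀ : Subgroup N).map N.subtype with hQ
  have hQN : Q ≤ N := map_subtype_le _
  have hL : ¬ 5 ∣ (normalizer (Q : Set G)).index := by
    intro h
    have h' : (normalizer (Q : Set G)).index = (normalizer (Q : Set G)).relIndex N := by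
      rw [← relIndex_top_right, ← hfr, relIndex_sup_normal']
    exact hN5 ((h' ▸ h).trans (relIndex_dvd_card _ _))
  obtain ⟨T⟩ := (inferInstance : Nonempty (Sylow 5 ↥(normalizer (Q : Set G))))
  have hTp : IsPGroup 5 ((T : Subgroup _).map (normalizer (Q : Set G)).subtype) := T.2.map _
  let P' : Sylow 5 G := hTp.toSylow (by
    rw [index_map_subtype]
    exact (Fact.out : Nat.Prime 5).not_dvd_mul T.not_dvd_index hL)
  have hP'Q : ((P' : Subgroup G)) ≤ normalizer (Q : Set G) := map_subtype_le _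
  have hQp : IsPGroup 3 Q := Q₀.2.map _
  obtain ⟨j, hj⟩ := hQp.card_orbit P'
  have hinv : ∀ (x : ↥(P' : Subgroup G)) (A : Sylow 5 G), A ∈ orbit ↥Q P' → x • A ∈ orbit ↥Q P' := by
    rintro x A ⟨q, rfl⟩
    refine ⟨⟨(x : G) * q * (x : G)⁻¹, (mem_normalizer_iff.mp (hP'Q x.2) _).mp q.2⟩, ?_⟩
    show ((x : G) * q * (x : G)⁻¹) • P' = (x : G) • (q : G) • P'
    rw [← mul_smul, mul_smul _ (x : G)⁻¹, Sylow.smul_eq_iff_mem_normalizer.mpr
      (inv_mem (le_normalizer x.2) : (x : G)⁻¹ ∈ normalizer ((P' : Subgroup G) : Set G))]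
  have horb : Nat.card (orbit ↥Q P') % 5 = 1 := by
    let _ : MulAction ↥(P' : Subgroup G) (orbit ↥Q P') :=
      { smul := fun x A => ⟨x • A.1, hinv x A.1 A.2⟩
        one_smul := fun A => Subtype.ext (one_smul _ A.1)
        mul_smul := fun x y A => Subtype.ext (mul_smul x y A.1) }
    have h := P'.2.card_modEq_card_fixedPoints (orbit ↥Q P')
    have h1 : Nat.card (fixedPoints ↥(P' : Subgroup G) (orbit ↥Q P')) = 1 := by
      refine Nat.card_eq_one_iff_unique.mpr ⟨⟨fun A B => ?_⟩,
        ⟨⟨⟨P', mem_orbit_self _⟩, fun x => Subtype.ext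
          (Sylow.smul_eq_iff_mem_normalizer.mpr (le_normalizer x.2))⟩⟩⟩
      have key : ∀ A : fixedPoints ↥(P' : Subgroup G) (orbit ↥Q P'), A.1.1 = P' := fun A => by
        apply Sylow.ext
        refine P'.3 A.1.1.2 fun x hx => ?_
        have hx' : x ∈ (P' : Subgroup G) ⊓ normalizer ((A.1.1 : Subgroup G) : Set G) :=
          ⟨hx, Sylow.smul_eq_iff_mem_normalizer.mp (congrArg Subtype.val (A.2 ⟨x, hx⟩))⟩
        rw [inf_normalizer_eq P'.2] at hx'
        exact hx'.2
      exact Subtype.ext (Subtype.ext ((key A).trans (key B).symm))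
    rw [h1] at h
    exact h
  have hj0 : j = 0 := by
    have hle : Nat.card (orbit ↥Q P') ≤ 21 := h21 ▸ Finite.card_subtype_le _
    rw [hj] at hle horb
    have : j < 3 := by
      by_contra hc
      have := Nat.pow_le_pow_right (show 3 > 0 by norm_num) (not_lt.mp hc)
      omega
    interval_cases j <;> simp_all
  rw [hj0, pow_zero, Nat.card_eq_one_iff_unique] at hj
  have hQle : Q ≤ normalizer ((P' : Subgroup G) : Set G) := fun q hq =>
    Sylow.smul_eq_iff_mem_normalizer.mp (congrArg Subtype.val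
      (hj.1.elim ⟨(⟨q, hq⟩ : ↥Q) • P', mem_orbit _ _⟩ ⟨P', mem_orbit_self _⟩))
  have h3 : 3 ∣ Q.index := by
    refine dvd_trans ?_ (index_dvd_of_le hQle)
    rw [← card_eq_index P', h21]
    norm_num
  rw [hQ, index_map_subtype] at h3
  rcases (Nat.prime_three.dvd_mul).mp h3 with h | h
  · exact Q₀.not_dvd_index h
  · obtain ⟨n, hn⟩ := hindexN
    rw [hn] at h
    exact absurd (Nat.prime_three.dvd_of_dvd_pow h) (by norm_num)

/-- No finite group has exactly twenty-one Sylow 5-subgroups. -/
theorem card_sylow_five_ne (n : ℕ) : ∀ (G : Type u) [Group G] [Finite G],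
    Nat.card G = n → Nat.card (Sylow 5 G) ≠ 21 := by
  induction n using Nat.strong_induction_on with
  | _ n ih =>
    intro G _ _ hn h21
    have : Fact (Nat.Prime 5) := ⟨by norm_num⟩
    have := isSimpleGroup_of_minimal h21 (fun H _ _ hH => ih _ (hn ▸ hH) H rfl)
    exact card_sylow_ne h21

end Cfsg.Agent.Classification.TwentyOne
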