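import Mathlib

set_option autoImplicit false

/-!
# Groups with a split two-transitive action are determined by a finite search

A group acting faithfully on `n` points whose point stabiliser is a given group of tables
(translations times powers of one table `hT`) is generated by the stabiliser and one involution-like
element `w` exchanging two points; a finite check on the possible tables of `w` then determines the
permutation group.
-/

namespace Cfsg.Agent.Classification

/-- The table data of a split two-transitive action on `Fin n`. -/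
structure Tables (n : ℕ) where
  hT : Fin n → Fin n
  trT : Fin n → Fin n → Fin n
  inf : Fin n
  o : Fin n
  u : Fin n
  r : Fin n
  m : ℕ
  skip : ℕ
  w0 : Fin n → Fin n

namespace Tables

variable {n : ℕ} (T : Tables n)

/-- The `i`-th iterate of the table `hT`. -/
def hp : ℕ → Fin n → Fin n
  | 0, x => x
  | i + 1, x => T.hT (hp i x)

/-- The table of a candidate exchanging `inf` and `o`. -/
def wTab (e : ℕ) (k k2 : Fin n) (x : Fin n) : Fin n :=
  if x = T.inf then T.o
  else if x = T.o then T.inf
  else match (List.range T.m).find? (fun i => decide (T.hp i T.u = x)) with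
    | some i => T.hp (e * i % T.m) k
    | none => match (List.range T.m).find? (fun i => decide (T.hp i T.r = x)) with
      | some i => T.hp (e * i % T.m) k2
      | none => x

/-- The Bruhat-type relation tested on a candidate. -/
def cond (W : Fin n → Fin n) : Bool :=
  (List.finRange n).any fun a => (List.range T.m).any fun j =>
    (List.finRange n).all fun x =>
      decide (W (T.trT T.u (W x)) = T.trT (W T.u) (W (T.trT a (T.hp j x))))

/-- `W` is `w0` times a power of `hT`. -/
def good (W : Fin n → Fin n) : Bool :=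
  (List.range T.m).any fun j => (List.finRange n).all fun x => decide (W x = T.w0 (T.hp j x))

/-- The finite search: each admissible candidate is `w0` times a power of `hT`. -/
def check : Bool :=
  ((List.finRange n).all fun x => decide (x = T.inf) || decide (x = T.o) ||
      (List.range T.m).any (fun i => decide (T.hp i T.u = x) || decide (T.hp i T.r = x))) &&
  ((List.finRange n).all fun s => decide (s = T.inf) || decide (T.trT s T.o = s)) &&
  (List.range T.m).all fun e => (List.finRange n).all fun k => (List.finRange n).all fun k2 =>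
    decide (k = T.inf) || decide (k = T.o) || decide (k2 = T.inf) || decide (k2 = T.o) ||
      decide (e = T.skip) || !(T.cond (T.wTab e k k2)) || T.good (T.wTab e k k2)

end Tables

/-- A faithful action realising the tables, with the point stabiliser described by them. -/
structure Realises {n : ℕ} (T : Tables n) (G : Type*) [Group G] (f : G →* Equiv.Perm (Fin n))
    (h : G) (t : Fin n → G) : Prop where
  inj : Function.Injective f
  h_apply : ∀ x, f h x = T.hT x
  t_apply : ∀ s x, f (t s) x = T.trT s x
  stab : ∀ g : G, f g T.inf = T.inf → ∃ s, ∃ j < T.m, g = t s * h ^ j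
  fix_two : ∀ g : G, f g T.inf = T.inf → f g T.o = T.o → ∃ j < T.m, g = h ^ j
  trans : ∀ x, ∃ g : G, f g T.inf = x
  h_fix : T.hT T.inf = T.inf ∧ T.hT T.o = T.o
  t_fix : ∀ s, T.trT s T.inf = T.inf
  h_pow : h ^ T.m = 1

namespace Realises

variable {n : ℕ} {T : Tables n} {G : Type*} [Group G] {f : G →* Equiv.Perm (Fin n)} {h : G}
  {t : Fin n → G}

theorem hpow_apply (R : Realises T G f h t) (i : ℕ) (x : Fin n) : f (h ^ i) x = T.hp i x := by
  induction i with
  | zero => simp [Tables.hp]
  | succ i ih => rw [pow_succ', map_mul, Equiv.Perm.mul_apply, ih, R.h_apply]; rfl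

/-- A swapping element. -/
theorem exists_swap (R : Realises T G f h t) (ho : T.o ≠ T.inf) (hc : T.check = true) :
    ∃ w : G, f w T.inf = T.o ∧ f w T.o = T.inf := by
  obtain ⟨g, hg⟩ := R.trans T.o
  let y : Fin n := (f g).symm T.inf
  have hy : y ≠ T.inf := by
    intro h'
    have h2 : f g y = T.inf := (f g).apply_symm_apply _
    rw [h', hg] at h2
    exact ho h2
  have hc' := hc
  simp only [Tables.check, Bool.and_eq_true, List.all_eq_true, Bool.or_eq_true, decide_eq_true_eq] at hc'
  have hty : T.trT y T.o = y := (hc'.1.2 y (List.mem_finRange y)).resolve_left hy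
  refine ⟨g * t y, ?_, ?_⟩
  · rw [map_mul, Equiv.Perm.mul_apply, R.t_apply, R.t_fix, hg]
  · rw [map_mul, Equiv.Perm.mul_apply, R.t_apply, hty]
    exact (f g).apply_symm_apply _

/-- Outside the case `e = skip`, the image is generated by the stabiliser tables and `w0`. -/
theorem range_eq (R : Realises T G f h t) (ho : T.o ≠ T.inf) (hu : T.u ≠ T.inf ∧ T.u ≠ T.o)
    (hr : T.r ≠ T.inf ∧ T.r ≠ T.o) (hc : T.check = true)
    (he : ∀ w : G, f w T.inf = T.o → f w T.o = T.inf → w * h * w⁻¹ ≠ h ^ T.skip) :
    f.range = Subgroup.closure {σ : Equiv.Perm (Fin n) |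
      ⇑σ = T.hT ∨ (∃ s, ⇑σ = T.trT s) ∨ ⇑σ = T.w0} := by
  obtain ⟨w, hw1, hw2⟩ := R.exists_swap ho hc
  -- `w` normalises the two point stabiliser
  obtain ⟨e, hem, hwh⟩ : ∃ e < T.m, w * h * w⁻¹ = h ^ e := by
    refine R.fix_two _ ?_ ?_
    · have h1 : (f w).symm T.inf = T.o := (f w).symm_apply_eq.mpr hw2.symm
      rw [map_mul, map_mul, map_inv, Equiv.Perm.mul_apply, Equiv.Perm.mul_apply]
      show f w (f h ((f w).symm T.inf)) = T.inf
      rw [h1, R.h_apply, R.h_fix.2, hw2]
    · have h1 : (f w).symm T.o = T.inf := (f w).symm_apply_eq.mpr hw1.symm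
      rw [map_mul, map_mul, map_inv, Equiv.Perm.mul_apply, Equiv.Perm.mul_apply]
      show f w (f h ((f w).symm T.o)) = T.o
      rw [h1, R.h_apply, R.h_fix.1, hw1]
  have hwi : ∀ (i : ℕ) (x : Fin n), f w (T.hp i x) = T.hp (e * i % T.m) (f w x) := by
    intro i x
    have h1 : w * h ^ i * w⁻¹ = h ^ (e * i % T.m) := by
      rw [← conj_pow, hwh, ← pow_mul]
      exact pow_eq_pow_mod _ R.h_pow
    have h2 : w * h ^ i = h ^ (e * i % T.m) * w := by rw [← h1]; group
    have h3 := congrArg (fun g => f g x) h2
    simp only [map_mul, Equiv.Perm.mul_apply, R.hpow_apply] at h3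
    exact h3
  have hc' := hc
  simp only [Tables.check, Bool.and_eq_true, List.all_eq_true, Bool.or_eq_true, decide_eq_true_eq,
    List.any_eq_true, Bool.not_eq_true', List.mem_range] at hc'
  obtain ⟨⟨hcov, hts⟩, hsearch⟩ := hc'
  have htab : ∀ x, f w x = T.wTab e (f w T.u) (f w T.r) x := by
    intro x
    rw [Tables.wTab]
    split_ifs with h1 h2
    · rw [h1, hw1]
    · rw [h2, hw2]
    · split
      · next i hi =>
        have := List.find?_some hi
        rw [decide_eq_true_eq] at this
        rw [← hwi, this]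
      · next hnone =>
        split
        · next i hi =>
          have := List.find?_some hi
          rw [decide_eq_true_eq] at this
          rw [← hwi, this]
        · next hnone' =>
          exfalso
          rw [List.find?_eq_none] at hnone hnone'
          rcases hcov x (List.mem_finRange x) with (h' | h') | ⟨i, hi, h' | h'⟩
          · exact h1 h'
          · exact h2 h'
          · exact hnone i (List.mem_range.mpr hi) (decide_eq_true h')
          · exact hnone' i (List.mem_range.mpr hi) (decide_eq_true h')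
  have hne : ∀ x, x ≠ T.inf → x ≠ T.o → f w x ≠ T.inf ∧ f w x ≠ T.o := fun x h1 h2 =>
    ⟨fun h' => h2 ((f w).injective (h'.trans hw2.symm)), fun h' => h1 ((f w).injective (h'.trans hw1.symm))⟩
  have hfun : (T.wTab e (f w T.u) (f w T.r)) = ⇑(f w) := funext fun x => (htab x).symm
  -- the tested relation holds
  have hcond : T.cond (T.wTab e (f w T.u) (f w T.r)) = true := by
    rw [hfun]
    simp only [Tables.cond, List.any_eq_true, List.all_eq_true, decide_eq_true_eq, List.mem_range]
    have htu : T.trT T.u T.o = T.u :=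
      (hts T.u (List.mem_finRange _)).resolve_left hu.1
    obtain ⟨a, j, hj, haj⟩ := R.stab ((t (f w T.u) * w)⁻¹ * (w * t T.u * w)) (by
      rw [map_mul, map_inv, Equiv.Perm.mul_apply, Equiv.Perm.inv_eq_iff_eq]
      simp only [map_mul, Equiv.Perm.mul_apply, hw1, R.t_apply, htu]
      have hs : T.trT (f w T.u) T.o = f w T.u :=
        (hts _ (List.mem_finRange _)).resolve_left (hne _ hu.1 hu.2).1
      rw [hs])
    refine ⟨a, List.mem_finRange a, j, hj, fun x _ => ?_⟩
    have h2 : w * t T.u * w = t (f w T.u) * w * (t a * h ^ j) := by rw [← haj]; group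
    have h3 := congrArg (fun g => f g x) h2
    simp only [map_mul, Equiv.Perm.mul_apply, R.t_apply, R.hpow_apply] at h3
    exact h3
  -- the search
  have hgood : T.good (T.wTab e (f w T.u) (f w T.r)) = true := by
    have he1 : e ≠ T.skip := fun h' => he w hw1 hw2 (by rw [hwh, h'])
    have := hsearch e hem (f w T.u) (List.mem_finRange _) (f w T.r) (List.mem_finRange _)
    rcases this with (((((h' | h') | h') | h') | h') | h') | h'
    · exact absurd h' (hne _ hu.1 hu.2).1
    · exact absurd h' (hne _ hu.1 hu.2).2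
    · exact absurd h' (hne _ hr.1 hr.2).1
    · exact absurd h' (hne _ hr.1 hr.2).2
    · exact absurd h' he1
    · rw [hcond] at h'; exact Bool.noConfusion h'
    · exact h'
  rw [hfun] at hgood
  simp only [Tables.good, List.any_eq_true, List.all_eq_true, decide_eq_true_eq, List.mem_range] at hgood
  obtain ⟨j, hj, hwj⟩ := hgood
  have hw0 : ⇑(f (w * (h ^ j)⁻¹)) = T.w0 := by
    funext x
    rw [map_mul, map_inv, Equiv.Perm.mul_apply, hwj _ (List.mem_finRange _)]
    congr 1
    rw [← R.hpow_apply]
    exact (f (h ^ j)).apply_symm_apply x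
  refine le_antisymm ?_ ?_
  · rintro _ ⟨g, rfl⟩
    have hK : ∀ s, f (t s) ∈ Subgroup.closure {σ : Equiv.Perm (Fin n) |
        ⇑σ = T.hT ∨ (∃ s, ⇑σ = T.trT s) ∨ ⇑σ = T.w0} := fun s =>
      Subgroup.subset_closure (Or.inr (Or.inl ⟨s, funext (R.t_apply s)⟩))
    have hKh : f h ∈ Subgroup.closure {σ : Equiv.Perm (Fin n) |
        ⇑σ = T.hT ∨ (∃ s, ⇑σ = T.trT s) ∨ ⇑σ = T.w0} :=
      Subgroup.subset_closure (Or.inl (funext R.h_apply))
    have hKw : f w ∈ Subgroup.closure {σ : Equiv.Perm (Fin n) |
        ⇑σ = T.hT ∨ (∃ s, ⇑σ = T.trT s) ∨ ⇑σ = T.w0} := by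
      have h1 : f w = f (w * (h ^ j)⁻¹) * f h ^ j := by
        rw [← map_pow, ← map_mul, inv_mul_cancel_right]
      rw [h1]
      exact Subgroup.mul_mem _ (Subgroup.subset_closure (Or.inr (Or.inr hw0))) (Subgroup.pow_mem _ hKh j)
    by_cases hg : f g T.inf = T.inf
    · obtain ⟨s, i, -, rfl⟩ := R.stab g hg
      rw [map_mul, map_pow]
      exact Subgroup.mul_mem _ (hK s) (Subgroup.pow_mem _ hKh i)
    · have hty : T.trT (f g T.inf) T.o = f g T.inf :=
        (hts _ (List.mem_finRange _)).resolve_left hg
      obtain ⟨s, i, -, hsi⟩ := R.stab ((t (f g T.inf) * w)⁻¹ * g) (by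
        rw [map_mul, map_inv, Equiv.Perm.mul_apply, Equiv.Perm.inv_eq_iff_eq]
        simp only [map_mul, Equiv.Perm.mul_apply, hw1, R.t_apply, hty])
      have h1 : g = t (f g T.inf) * w * (t s * h ^ i) := by rw [← hsi]; group
      rw [h1, map_mul, map_mul, map_mul, map_pow]
      exact Subgroup.mul_mem _ (Subgroup.mul_mem _ (hK _) hKw)
        (Subgroup.mul_mem _ (hK s) (Subgroup.pow_mem _ hKh i))
  · rw [Subgroup.closure_le]
    rintro σ (hσ | ⟨s, hσ⟩ | hσ)
    · exact ⟨h, Equiv.ext fun x => by rw [R.h_apply, hσ]⟩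
    · exact ⟨t s, Equiv.ext fun x => by rw [R.t_apply, hσ]⟩
    · exact ⟨w * (h ^ j)⁻¹, Equiv.ext fun x => by rw [hw0, hσ]⟩

end Realises

end Cfsg.Agent.Classification
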